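import Mathlib

/-!
# Counting conjugacy classes prime by prime

An element is written as a commuting product of an element of prime order and one of order prime to it.
-/

set_option autoImplicit false
set_option linter.style.haveILetI false
set_option linter.unusedSectionVars false

namespace Cfsg.Lib.J4Classes

variable {Γ : Type*} [Group Γ] {Δ : Type*} [Group Δ]

/-- Only listed primes divide the order. -/
def OnlyP (L : List ℕ) (x : Γ) : Prop := ∀ q : ℕ, q.Prime → q ∣ orderOf x → q ∈ L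

/-- The elements with a property fall into exactly `n` classes. -/
def NumCls (P : Γ → Prop) (n : ℕ) : Prop :=
  ∃ r : Fin n → Γ, (∀ i, P (r i)) ∧ (∀ i j, IsConj (r i) (r j) → i = j) ∧ ∀ x, P x → ∃ i, IsConj x (r i)

theorem NumCls.card {P : Γ → Prop} {n : ℕ} (h : NumCls P n) (hall : ∀ x, P x) :
    Nat.card (ConjClasses Γ) = n := by
  obtain ⟨r, -, hd, he⟩ := h
  have hb : Function.Bijective fun i => ConjClasses.mk (r i) := by
    refine ⟨fun i j e => hd i j (ConjClasses.mk_eq_mk_iff_isConj.1 e), fun c => ?_⟩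
    obtain ⟨x, rfl⟩ := ConjClasses.exists_rep c
    obtain ⟨i, hi⟩ := he x (hall x)
    exact ⟨i, (ConjClasses.mk_eq_mk_iff_isConj.2 hi).symm⟩
  rw [← Nat.card_congr (Equiv.ofBijective _ hb), Nat.card_fin]

theorem NumCls.congr {P Q : Γ → Prop} {n : ℕ} (h : NumCls P n) (e : ∀ x, P x ↔ Q x) : NumCls Q n := by
  obtain ⟨r, hp, hd, he⟩ := h
  exact ⟨r, fun i => (e _).1 (hp i), hd, fun x hx => he x ((e x).2 hx)⟩

theorem NumCls.map {P : Γ → Prop} {Q : Δ → Prop} {n : ℕ} (h : NumCls P n) (f : Γ ≃* Δ)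
    (e : ∀ x, P x ↔ Q (f x)) : NumCls Q n := by
  obtain ⟨r, hp, hd, he⟩ := h
  refine ⟨fun i => f (r i), fun i => (e _).1 (hp i), fun i j hij => hd i j ?_, fun y hy => ?_⟩
  · simpa using f.symm.toMonoidHom.map_isConj hij
  · obtain ⟨i, hi⟩ := he (f.symm y) ((e _).2 (by rwa [MulEquiv.apply_symm_apply]))
    exact ⟨i, by simpa using f.toMonoidHom.map_isConj hi⟩

theorem onlyP_equiv (f : Γ ≃* Δ) (L : List ℕ) (x : Γ) : OnlyP L x ↔ OnlyP L (f x) := by
  rw [OnlyP, OnlyP, f.orderOf_eq]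

theorem NumCls.only_map {L : List ℕ} {n : ℕ} (h : NumCls (OnlyP (Γ := Γ) L) n) (f : Γ ≃* Δ) :
    NumCls (OnlyP (Γ := Δ) L) n :=
  h.map f (onlyP_equiv f L)

theorem orderOf_conj_eq (g x : Γ) : orderOf (g * x * g⁻¹) = orderOf x := (MulAut.conj g).orderOf_eq x

theorem OnlyP.conj {L : List ℕ} {x : Γ} (h : OnlyP L x) (g : Γ) : OnlyP L (g * x * g⁻¹) := by
  rw [OnlyP, orderOf_conj_eq]; exact h

theorem onlyP_coe {H : Subgroup Γ} {L : List ℕ} {x : H} : OnlyP L (x : Γ) ↔ OnlyP L x := by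
  rw [OnlyP, OnlyP, Subgroup.orderOf_coe]

theorem not_dvd_of_onlyP {L : List ℕ} {x : Γ} {p : ℕ} (hp : p.Prime) (hpL : p ∉ L) (h : OnlyP L x) :
    ¬ p ∣ orderOf x := fun hd => hpL (h p hp hd)

/-- An exponent that is one modulo a prime and zero modulo a number prime to it. -/
theorem exists_exp {p m : ℕ} (hp : p.Prime) (hm : ¬ p ∣ m) : ∃ a, a % p = 1 ∧ m ∣ a := by
  obtain ⟨k, h1, h2⟩ := Nat.chineseRemainder (hp.coprime_iff_not_dvd.2 hm) 1 0
  refine ⟨k, ?_, Nat.modEq_zero_iff_dvd.1 h2⟩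
  exact (show k % p = 1 % p from h1).trans (Nat.mod_eq_of_lt hp.one_lt)

theorem pow_of_mod_one {p a : ℕ} {r : Γ} (hr : orderOf r = p) (ha : a % p = 1) : r ^ a = r := by
  rw [← pow_mod_orderOf r a, hr, ha, pow_one]

/-- Adjoining the classes of the elements whose order is divisible by one more prime. -/
theorem NumCls.stage_sum [Finite Γ] {p j k : ℕ} {L : List ℕ} {m : Fin j → ℕ} (h0 : NumCls (OnlyP (Γ := Γ) L) k)
    (hp : p.Prime) (hpL : p ∉ L) (hsq : ∀ x : Γ, ¬ p ^ 2 ∣ orderOf x) {r : Fin j → Γ}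
    (hr : ∀ i, orderOf (r i) = p) (hd : ∀ i i', IsConj (r i) (r i') → i = i')
    (hall : ∀ x, orderOf x = p → ∃ i, IsConj x (r i))
    (hc : ∀ i, NumCls (OnlyP (Γ := ↥(Subgroup.centralizer ({r i} : Set Γ))) L) (m i)) :
    NumCls (OnlyP (Γ := Γ) (p :: L)) (k + ∑ i, m i) := by
  obtain ⟨r0, hP0, hd0, he0⟩ := h0
  choose s hPs hds hes using hc
  have hcomm : ∀ i l, Commute (r i) (s i l : Γ) := fun i l =>
    (Subgroup.mem_centralizer_singleton_iff.1 (s i l).2).symm
  have hns : ∀ i l, ¬ p ∣ orderOf (s i l : Γ) := fun i l =>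
    not_dvd_of_onlyP hp hpL (onlyP_coe.2 (hPs i l))
  have hord : ∀ i l, orderOf (r i * s i l : Γ) = p * orderOf (s i l : Γ) := fun i l => by
    rw [(hcomm i l).orderOf_mul_eq_mul_orderOf_of_coprime
      (by rw [hr]; exact hp.coprime_iff_not_dvd.2 (hns i l)), hr]
  let R : Fin k ⊕ (Σ i, Fin (m i)) → Γ := Sum.elim r0 fun q => r q.1 * s q.1 q.2
  let e : Fin (k + ∑ i, m i) ≃ Fin k ⊕ (Σ i, Fin (m i)) :=
    finSumFinEquiv.symm.trans (Equiv.sumCongr (Equiv.refl _) finSigmaFinEquiv.symm)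
  have mixed : ∀ (l : Fin k) (q : Σ i, Fin (m i)), ¬ IsConj (r0 l) (r q.1 * s q.1 q.2) := by
    intro l q h
    obtain ⟨c, hc⟩ := isConj_iff.1 h
    refine not_dvd_of_onlyP hp hpL (hP0 l) ?_
    rw [← orderOf_conj_eq c, hc, hord]
    exact Dvd.intro _ rfl
  refine ⟨fun i => R (e i), fun i => ?_, fun i i' hii' => e.injective ?_, fun x hx => ?_⟩
  · show OnlyP _ (R (e i))
    rcases e i with l | q
    · exact fun t ht htd => List.mem_cons_of_mem _ (hP0 l t ht htd)
    · intro t ht htd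
      change t ∣ orderOf (r q.1 * s q.1 q.2 : Γ) at htd
      rw [hord] at htd
      rcases (Nat.Prime.dvd_mul ht).1 htd with h | h
      · rw [(Nat.prime_dvd_prime_iff_eq ht hp).1 h]; exact List.mem_cons_self
      · exact List.mem_cons_of_mem _ (onlyP_coe.2 (hPs q.1 q.2) t ht h)
  · change IsConj (R (e i)) (R (e i')) at hii'
    revert hii'
    rcases e i with l | q <;> rcases e i' with l' | q' <;> intro hii'
    · exact congrArg Sum.inl (hd0 _ _ hii')
    · exact absurd hii' (mixed _ _)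
    · exact absurd hii'.symm (mixed _ _)
    · change IsConj (r q.1 * (s q.1 q.2 : Γ)) (r q'.1 * (s q'.1 q'.2 : Γ)) at hii'
      obtain ⟨a, ha1, ha2⟩ := exists_exp hp (fun hd' =>
        (hp.dvd_mul.1 hd').elim (hns q.1 q.2) (hns q'.1 q'.2))
      have kill : ∀ i l, orderOf (s i l : Γ) ∣ a → (r i * s i l : Γ) ^ a = r i := fun i l hl => by
        rw [(hcomm i l).mul_pow, orderOf_dvd_iff_pow_eq_one.1 hl, mul_one, pow_of_mod_one (hr i) ha1]
      have k1 := kill q.1 q.2 ((Dvd.intro _ rfl).trans ha2)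
      have k2 := kill q'.1 q'.2 ((Dvd.intro_left _ rfl).trans ha2)
      have hii := hd _ _ (k1 ▸ k2 ▸ hii'.pow a)
      obtain ⟨i₁, l₁⟩ := q
      obtain ⟨i₂, l₂⟩ := q'
      simp only at hii hii' k1 k2
      subst hii
      obtain ⟨c, hc⟩ := isConj_iff.1 hii'
      have hcr : c * r i₁ * c⁻¹ = r i₁ := by
        have := congrArg (fun u : Γ => u ^ a) hc
        simp only [conj_pow, k1, k2] at this
        exact this
      have hcC : c ∈ Subgroup.centralizer ({r i₁} : Set Γ) :=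
        Subgroup.mem_centralizer_singleton_iff.2 (mul_inv_eq_iff_eq_mul.1 hcr)
      have hl : l₁ = l₂ := by
        refine hds i₁ _ _ (isConj_iff.2 ⟨⟨c, hcC⟩, Subtype.ext ?_⟩)
        show c * (s i₁ l₁ : Γ) * c⁻¹ = s i₁ l₂
        have e2 : c * r i₁ * c⁻¹ * (c * (s i₁ l₁ : Γ) * c⁻¹) = r i₁ * s i₁ l₂ := by
          rw [← hc]; group
        rw [hcr] at e2
        exact mul_left_cancel e2
      rw [hl]
  · by_cases hdv : p ∣ orderOf x
    · set mm := orderOf x / p with hmm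
      have hmo : p * mm = orderOf x := Nat.mul_div_cancel' hdv
      have hmp : ¬ p ∣ mm := fun hd' => hsq x (by rw [pow_two, ← hmo]; exact mul_dvd_mul_left p hd')
      obtain ⟨a, ha1, ha2⟩ := exists_exp hp hmp
      obtain ⟨t, rfl⟩ := ha2
      set u := x ^ (mm * t) with hu
      have hu1 : u ^ p = 1 := by
        rw [hu, ← pow_mul, ← orderOf_dvd_iff_pow_eq_one, ← hmo]
        exact ⟨t, by ring⟩
      have hune : u ≠ 1 := by
        rw [hu, Ne, ← orderOf_dvd_iff_pow_eq_one, ← hmo]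
        intro hd'
        have : p ∣ mm * t := (Dvd.intro mm rfl).trans hd'
        rw [Nat.dvd_iff_mod_eq_zero, ha1] at this
        exact one_ne_zero this
      haveI : Fact p.Prime := ⟨hp⟩
      obtain ⟨i, hi⟩ := hall u (orderOf_eq_prime hu1 hune)
      obtain ⟨c, hc⟩ := isConj_iff.1 hi
      set h := u⁻¹ * x with hh
      have hhm : h ^ mm = 1 := by
        rw [hh, ((Commute.pow_self x (mm * t)).inv_left).mul_pow, inv_pow, inv_mul_eq_one, ← pow_mul,
          pow_eq_pow_iff_modEq, ← hmo]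
        have h1 : mm * t ≡ 1 [MOD p] := ha1.trans (Nat.mod_eq_of_lt hp.one_lt).symm
        have h2 := h1.mul_right' mm
        rwa [one_mul] at h2
      set h' := c * h * c⁻¹ with hh'
      have hcu : Commute u h := (Commute.refl u).inv_right.mul_right (Commute.pow_self x (mm * t))
      have hC : h' ∈ Subgroup.centralizer ({r i} : Set Γ) := by
        rw [Subgroup.mem_centralizer_singleton_iff, ← hc]
        exact (hcu.symm.map (MulAut.conj c).toMonoidHom).eq
      have hP : OnlyP L (⟨h', hC⟩ : ↥(Subgroup.centralizer ({r i} : Set Γ))) := by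
        rw [← onlyP_coe]
        intro t' ht' htd
        change t' ∣ orderOf h' at htd
        rw [hh', orderOf_conj_eq] at htd
        have hdm : t' ∣ mm := htd.trans (orderOf_dvd_iff_pow_eq_one.2 hhm)
        rcases List.mem_cons.1 (hx t' ht' (hdm.trans (Dvd.intro_left p hmo))) with rfl | hm
        · exact absurd hdm hmp
        · exact hm
      obtain ⟨l, hl⟩ := hes i _ hP
      obtain ⟨d, hd'⟩ := isConj_iff.1 hl
      refine ⟨e.symm (Sum.inr ⟨i, l⟩), ?_⟩
      show IsConj x (R (e (e.symm _)))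
      rw [Equiv.apply_symm_apply]
      refine isConj_iff.2 ⟨(d : Γ) * c, ?_⟩
      have hd'' : (d : Γ) * h' * (d : Γ)⁻¹ = s i l := by
        simpa using congrArg Subtype.val hd'
      have hdr : (d : Γ) * r i * (d : Γ)⁻¹ = r i :=
        mul_inv_eq_iff_eq_mul.2 (Subgroup.mem_centralizer_singleton_iff.1 d.2)
      calc (d : Γ) * c * x * ((d : Γ) * c)⁻¹
          = (d : Γ) * (c * u * c⁻¹) * (d : Γ)⁻¹ * ((d : Γ) * h' * (d : Γ)⁻¹) := by rw [hh', hh]; group
        _ = R (Sum.inr ⟨i, l⟩) := by rw [hc, hdr, hd'']; rfl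
    · obtain ⟨l, hl⟩ := he0 x fun t ht htd => by
        rcases List.mem_cons.1 (hx t ht htd) with rfl | hm
        · exact absurd htd hdv
        · exact hm
      exact ⟨e.symm (Sum.inl l), by
        show IsConj x (R (e (e.symm _)))
        rw [Equiv.apply_symm_apply]; exact hl⟩

/-- The stage with the same number for each representative. -/
theorem NumCls.stage [Finite Γ] {p j m k : ℕ} {L : List ℕ} (h0 : NumCls (OnlyP (Γ := Γ) L) k)
    (hp : p.Prime) (hpL : p ∉ L) (hsq : ∀ x : Γ, ¬ p ^ 2 ∣ orderOf x) {r : Fin j → Γ}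
    (hr : ∀ i, orderOf (r i) = p) (hd : ∀ i i', IsConj (r i) (r i') → i = i')
    (hall : ∀ x, orderOf x = p → ∃ i, IsConj x (r i))
    (hc : ∀ i, NumCls (OnlyP (Γ := ↥(Subgroup.centralizer ({r i} : Set Γ))) L) m) :
    NumCls (OnlyP (Γ := Γ) (p :: L)) (k + j * m) := by
  have h := h0.stage_sum hp hpL hsq hr hd hall (m := fun _ => m) hc
  simpa using h

/-- The stage with two representatives. -/
theorem stage_two_classes [Finite Γ] {p k n₁ n₂ : ℕ} {L : List ℕ} (h0 : NumCls (OnlyP (Γ := Γ) L) k)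
    (hp : p.Prime) (hpL : p ∉ L) (hsq : ∀ x : Γ, ¬ p ^ 2 ∣ orderOf x) {a b : Γ} (ha : orderOf a = p)
    (hb : orderOf b = p) (hne : ¬ IsConj a b) (hall : ∀ x, orderOf x = p → IsConj x a ∨ IsConj x b)
    (hca : NumCls (OnlyP (Γ := ↥(Subgroup.centralizer ({a} : Set Γ))) L) n₁)
    (hcb : NumCls (OnlyP (Γ := ↥(Subgroup.centralizer ({b} : Set Γ))) L) n₂) :
    NumCls (OnlyP (Γ := Γ) (p :: L)) (k + (n₁ + n₂)) := by
  have h := h0.stage_sum hp hpL hsq (r := ![a, b]) (m := ![n₁, n₂]) (fun i => by fin_cases i <;> assumption)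
    (fun i i' e => by
      fin_cases i <;> fin_cases i'
      · rfl
      · exact absurd e hne
      · exact absurd e.symm hne
      · rfl)
    (fun x hx => (hall x hx).elim (fun e => ⟨0, e⟩) fun e => ⟨1, e⟩)
    (fun i => by fin_cases i <;> assumption)
  simpa using h

/-- The classes of elements of order prime to the kernel are those of a central quotient. -/
theorem NumCls.of_central_quotient [Finite Γ] {L : List ℕ} {n : ℕ} (h : NumCls (OnlyP (Γ := Δ) L) n) (f : Γ →* Δ)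
    (hf : Function.Surjective f) {p : ℕ} (hp : p.Prime) (hpL : p ∉ L)
    (hk : ∀ k, f k = 1 → k ^ p = 1 ∧ ∀ g, Commute k g) : NumCls (OnlyP (Γ := Γ) L) n := by
  obtain ⟨r, hP, hd, he⟩ := h
  choose v hv using fun i => hf (r i)
  have hpd : ∀ i, ¬ p ∣ orderOf (r i) := fun i => not_dvd_of_onlyP hp hpL (hP i)
  have hex : ∀ i, ∃ b, b % orderOf (r i) = 1 % orderOf (r i) ∧ p ∣ b := fun i => by
    obtain ⟨b, h1, h2⟩ := Nat.chineseRemainder (hp.coprime_iff_not_dvd.2 (hpd i)).symm 1 0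
    exact ⟨b, h1, Nat.modEq_zero_iff_dvd.1 h2⟩
  choose b hb hbp using hex
  have himg : ∀ i, f (v i ^ b i) = r i := fun i => by
    rw [map_pow, hv, ← pow_mod_orderOf, hb, pow_mod_orderOf, pow_one]
  refine ⟨fun i => v i ^ b i, fun i t ht htd => hP i t ht ?_, fun i j hij => hd i j ?_, fun x hx => ?_⟩
  · refine htd.trans (orderOf_dvd_iff_pow_eq_one.2 ?_)
    obtain ⟨c, hc⟩ := hbp i
    have hk' := (hk (v i ^ orderOf (r i)) (by rw [map_pow, hv, pow_orderOf_eq_one])).1
    rw [← pow_mul, hc, show p * c * orderOf (r i) = orderOf (r i) * p * c by ring, pow_mul, pow_mul, hk', one_pow]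
  · simpa only [himg] using f.map_isConj hij
  · obtain ⟨i, hi⟩ := he (f x) fun t ht htd => hx t ht (htd.trans (orderOf_map_dvd f x))
    obtain ⟨c, hc⟩ := isConj_iff.1 hi
    obtain ⟨c', rfl⟩ := hf c
    refine ⟨i, isConj_iff.2 ⟨c', ?_⟩⟩
    set w := v i ^ b i with hw
    set k := c' * x * c'⁻¹ * w⁻¹ with hk'
    have hk1 : f k = 1 := by rw [hk', map_mul, map_mul, map_mul, map_inv, map_inv, hw, himg, hc, mul_inv_cancel]
    obtain ⟨hkp, hkc⟩ := hk k hk1
    have hwp : ¬ p ∣ orderOf w := by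
      intro hd'
      refine hpd i ?_
      have hpow : w ^ orderOf (r i) = 1 := by
        obtain ⟨cc, hcc⟩ := hbp i
        have hk2 := (hk (v i ^ orderOf (r i)) (by rw [map_pow, hv, pow_orderOf_eq_one])).1
        rw [hw, ← pow_mul, hcc, show p * cc * orderOf (r i) = orderOf (r i) * p * cc by ring, pow_mul, pow_mul, hk2, one_pow]
      exact hd'.trans (orderOf_dvd_iff_pow_eq_one.2 hpow)
    have hxp : ¬ p ∣ orderOf (c' * x * c'⁻¹) := by
      rw [orderOf_conj_eq]; exact not_dvd_of_onlyP hp hpL hx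
    set N := orderOf (c' * x * c'⁻¹) * orderOf w
    have hkN : k ^ N = 1 := by
      have h1 : (c' * x * c'⁻¹) ^ N = 1 := orderOf_dvd_iff_pow_eq_one.1 (Dvd.intro _ rfl)
      have h2 : w ^ N = 1 := orderOf_dvd_iff_pow_eq_one.1 (Dvd.intro_left _ rfl)
      rw [show c' * x * c'⁻¹ = k * w by rw [hk']; group, (hkc w).mul_pow, h2, mul_one] at h1
      exact h1
    have hk0 : k = 1 := by
      have h1 : orderOf k ∣ p := orderOf_dvd_iff_pow_eq_one.2 hkp
      rcases (Nat.dvd_prime hp).1 h1 with h | h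
      · exact orderOf_eq_one_iff.1 h
      · have h2 : p ∣ N := h ▸ orderOf_dvd_iff_pow_eq_one.2 hkN
        exact ((hp.dvd_mul.1 h2).elim hxp hwp).elim
    rw [hk', mul_inv_eq_one] at hk0
    exact hk0

/-- A group in which only the identity has such order. -/
theorem numCls_one {L : List ℕ} (h : ∀ x : Γ, OnlyP L x → x = 1) : NumCls (OnlyP (Γ := Γ) L) 1 :=
  ⟨fun _ => 1, fun _ q hq hd => absurd (Nat.eq_one_of_dvd_one (orderOf_one (G := Γ) ▸ hd)) hq.one_lt.ne',
    fun i j _ => Subsingleton.elim i j, fun x hx => ⟨0, by rw [h x hx]⟩⟩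

/-- A subgroup retract holding the elements in question up to conjugacy. -/
theorem NumCls.of_retract {L : List ℕ} {n : ℕ} {K : Subgroup Γ} (h : NumCls (OnlyP (Γ := ↥K) L) n) (f : Γ →* Δ)
    (hinj : ∀ a ∈ K, ∀ b ∈ K, f a = f b → a = b) (hsurj : ∀ y, ∃ a ∈ K, f a = y)
    (hinto : ∀ x, OnlyP L x → ∃ a ∈ K, IsConj x a) : NumCls (OnlyP (Γ := Γ) L) n := by
  obtain ⟨r, hP, hd, he⟩ := h
  refine ⟨fun i => r i, fun i => onlyP_coe.2 (hP i), fun i j hij => hd i j ?_, fun x hx => ?_⟩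
  · obtain ⟨c, hc⟩ := isConj_iff.1 (f.map_isConj hij)
    obtain ⟨a, haK, rfl⟩ := hsurj c
    rw [← map_inv, ← map_mul, ← map_mul] at hc
    refine isConj_iff.2 ⟨⟨a, haK⟩, Subtype.ext ?_⟩
    exact hinj _ (mul_mem (mul_mem haK (r i).2) (inv_mem haK)) _ (r j).2 hc
  · obtain ⟨a, ha, hxa⟩ := hinto x hx
    obtain ⟨c, hc⟩ := isConj_iff.1 hxa
    obtain ⟨i, hi⟩ := he ⟨a, ha⟩ (onlyP_coe.1 (by simpa only [hc] using hx.conj c))
    exact ⟨i, hxa.trans (K.subtype.map_isConj hi)⟩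

end Cfsg.Lib.J4Classes
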