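import Cfsg.Agent.Lib.JankoFour.Results
import Cfsg.Agent.Lib.J4Eleven.Count

/-!
# The elements of order 3 of a group of Janko-four type
-/

set_option autoImplicit false
set_option linter.style.haveILetI false
set_option linter.unusedSectionVars false

namespace Cfsg.Lib.J4Classes

variable {G : Type*} [Group G] [Finite G] {Γ : Type*} [Group Γ] [Finite Γ]

/-- One class of elements of order 3, none of order 9, the order and a central involution of a centralizer. -/
structure ThreeFacts (G : Type*) [Group G] : Prop where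
  conj : ∀ x y : G, orderOf x = 3 → orderOf y = 3 → IsConj x y
  sq : ∀ x : G, ¬ 3 ^ 2 ∣ orderOf x
  cent : ∀ y : G, orderOf y = 3 → Nat.card ↥(Subgroup.centralizer ({y} : Set G)) = 2661120 ∧
    ∃ t : G, orderOf t = 2 ∧ Commute t y ∧ ∀ g : G, Commute g y → Commute g t

theorem centralizer_conj_card (g y : G) : Nat.card ↥(Subgroup.centralizer ({g * y * g⁻¹} : Set G)) =
    Nat.card ↥(Subgroup.centralizer ({y} : Set G)) := by
  refine Nat.card_congr (Equiv.subtypeEquiv (MulAut.conj g).toEquiv fun c => ?_).symm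
  show c ∈ Subgroup.centralizer ({y} : Set G) ↔ g * c * g⁻¹ ∈ Subgroup.centralizer ({g * y * g⁻¹} : Set G)
  rw [Subgroup.mem_centralizer_singleton_iff, Subgroup.mem_centralizer_singleton_iff,
    show g * c * g⁻¹ * (g * y * g⁻¹) = g * (c * y) * g⁻¹ by group,
    show g * y * g⁻¹ * (g * c * g⁻¹) = g * (y * c) * g⁻¹ by group, mul_left_inj, mul_right_inj]

theorem three_facts [IsSimpleGroup G] (hG : ¬ IsMulCommutative G) (hJ : Cfsg.IsOfJankoFourType G) :
    ThreeFacts G := by
  haveI : Fact (Nat.Prime 3) := ⟨Nat.prime_three⟩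
  have hres := Lib.JankoFour.pResidual_two_of_simple hG
  obtain ⟨z, P, hJ⟩ := hJ
  obtain ⟨F, hz, -, -⟩ := Lib.JankoFour.exists_frame hJ Lib.JankoFour.AutM22.facts
  have hz2 : orderOf F.z = 2 := hz ▸ hJ.1
  have hCp : Subgroup.centralizer ({F.p} : Set G) ≤ Subgroup.centralizer ({F.z} : Set G) := by
    rw [← F.centralizer_zpowers]
    exact (Subgroup.centralizer_le_normalizer _).trans (F.normalizer_le hres)
  have hC : Subgroup.centralizer ({F.p} : Set G) = F.C := by
    rw [show F.C = Subgroup.centralizer ({F.z} : Set G) ⊓ Subgroup.centralizer ({F.p} : Set G) from rfl,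
      inf_eq_right.2 hCp]
  refine ⟨fun x y hx hy => (F.isConj_p hres hx).symm.trans (F.isConj_p hres hy), fun x hx => ?_, fun y hy => ?_⟩
  · obtain ⟨R⟩ := (inferInstance : Nonempty (Sylow 3 ↥F.C))
    obtain ⟨S, hS⟩ := F.exists_sylow_G hres R
    have hSz : (S : Subgroup G) ≤ Subgroup.centralizer ({F.z} : Set G) := by
      rw [hS]; exact (Subgroup.map_subtype_le _).trans inf_le_left
    obtain ⟨-, -, hexp, -, -⟩ := F.sylow_three_structure hres S hSz
    obtain ⟨c, hc⟩ := hx
    have hxn : orderOf (x ^ c) = 3 ^ 2 := by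
      rcases Nat.eq_zero_or_pos c with rfl | hc0
      · rw [mul_zero] at hc; exact absurd hc (orderOf_pos x).ne'
      · rw [orderOf_pow_of_dvd hc0.ne' (hc ▸ Dvd.intro_left _ rfl), hc, Nat.mul_div_cancel _ hc0]
    obtain ⟨S', hS'⟩ := (IsPGroup.of_card (n := 2) (p := 3) (G := ↥(Subgroup.zpowers (x ^ c)))
      (by rw [Nat.card_zpowers, hxn])).exists_le_sylow
    have hmem : (⟨x ^ c, hS' (Subgroup.mem_zpowers _)⟩ : ↥S') ^ 3 = 1 := by
      refine (Sylow.equiv S' S).injective ?_
      rw [map_pow, map_one]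
      have h := Monoid.pow_exponent_eq_one ((Sylow.equiv S' S) ⟨x ^ c, hS' (Subgroup.mem_zpowers _)⟩)
      rwa [hexp] at h
    have := orderOf_le_of_pow_eq_one (by norm_num) (congrArg Subtype.val hmem)
    rw [hxn] at this
    norm_num at this
  · obtain ⟨g, hg⟩ := isConj_iff.1 (F.isConj_p hres hy)
    subst hg
    refine ⟨by rw [centralizer_conj_card, hC, F.card_C], g * F.z * g⁻¹, ?_, ?_, fun c hc => ?_⟩
    · rw [(MulAut.conj g).orderOf_eq F.z |> fun h => (show orderOf (g * F.z * g⁻¹) = _ from h), hz2]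
    · have h := Subgroup.mem_centralizer_singleton_iff.1 (hCp (Subgroup.mem_centralizer_singleton_iff.2 rfl))
      exact ((Commute.symm h).map (MulAut.conj g).toMonoidHom : _)
    · have h : Commute (g⁻¹ * c * g) F.p := by
        have h' := hc.map (MulAut.conj g⁻¹).toMonoidHom
        simpa [mul_assoc] using h'
      have h' : Commute (g⁻¹ * c * g) F.z :=
        Subgroup.mem_centralizer_singleton_iff.1 (hCp (Subgroup.mem_centralizer_singleton_iff.2 h))
      have h'' := h'.map (MulAut.conj g).toMonoidHom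
      simpa [mul_assoc] using h''

theorem ThreeFacts.map (h : ThreeFacts G) (f : G ≃* Γ) : ThreeFacts Γ where
  conj x y hx hy := by
    simpa using f.toMonoidHom.map_isConj (h.conj (f.symm x) (f.symm y) (by rw [f.symm.orderOf_eq, hx])
      (by rw [f.symm.orderOf_eq, hy]))
  sq x := by rw [← f.symm.orderOf_eq]; exact h.sq _
  cent y hy := by
    obtain ⟨hc, t, ht, hty, htc⟩ := h.cent (f.symm y) (by rw [f.symm.orderOf_eq, hy])
    refine ⟨?_, f t, by rw [f.orderOf_eq, ht], by simpa using hty.map f.toMonoidHom, fun g hg => ?_⟩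
    · rw [← hc]
      refine Nat.card_congr (Equiv.subtypeEquiv f.symm.toEquiv fun c => ?_)
      show c ∈ Subgroup.centralizer ({y} : Set Γ) ↔ f.symm c ∈ Subgroup.centralizer ({f.symm y} : Set G)
      rw [Subgroup.mem_centralizer_singleton_iff, Subgroup.mem_centralizer_singleton_iff, ← map_mul, ← map_mul,
        f.symm.injective.eq_iff]
    · simpa using (htc _ (hg.map f.symm.toMonoidHom)).map f.toMonoidHom

end Cfsg.Lib.J4Classes
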