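import Cfsg.Agent.Lib.JankoFour.Results
import Cfsg.Agent.Lib.JankoFourLocal.Facts
import Cfsg.Agent.Lib.JankoFourLocal.FiveMain
import Cfsg.Agent.Lib.JankoFourLocal.Seven
import Cfsg.Agent.Lib.J4Classes.ThreeFacts

/-!
# The elements of orders 5 and 7 of a group of Janko-four type
-/

set_option autoImplicit false
set_option linter.style.haveILetI false
set_option linter.unusedSectionVars false

namespace Cfsg.Lib.J4Classes

variable {G : Type*} [Group G] [Finite G] {Γ : Type*} [Group Γ] [Finite Γ]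

/-- The orders of the local subgroups of elements of orders 5 and 7. -/
structure LocalFacts (G : Type*) [Group G] : Prop where
  five_sq : ¬ 5 ^ 2 ∣ Nat.card G
  seven_sq : ¬ 7 ^ 2 ∣ Nat.card G
  five : ∀ y : G, orderOf y = 5 → Nat.card ↥(Subgroup.centralizer ({y} : Set G)) = 6720 ∧
    Nat.card ↥(Subgroup.normalizer (Subgroup.zpowers y : Set G)) = 26880
  seven : ∀ y : G, orderOf y = 7 → Nat.card ↥(Subgroup.centralizer ({y} : Set G)) = 840 ∧
    Nat.card ↥(Subgroup.normalizer (Subgroup.zpowers y : Set G)) = 2520 ∧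
    ∃ f : ↥(Subgroup.centralizer ({y} : Set G)) →* Equiv.Perm (Fin 5), Function.Surjective f ∧
      ∀ k, f k = 1 → k ^ 7 = 1 ∧ ∀ c, Commute k c

theorem centralizer_zpowers_eq (y : G) :
    Subgroup.centralizer (Subgroup.zpowers y : Set G) = Subgroup.centralizer ({y} : Set G) := by
  rw [Subgroup.zpowers_eq_closure, Subgroup.centralizer_closure]

theorem mem_centralizer_conj (g y c : G) :
    c ∈ Subgroup.centralizer ({y} : Set G) ↔ g * c * g⁻¹ ∈ Subgroup.centralizer ({g * y * g⁻¹} : Set G) := by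
  rw [Subgroup.mem_centralizer_singleton_iff, Subgroup.mem_centralizer_singleton_iff,
    show g * c * g⁻¹ * (g * y * g⁻¹) = g * (c * y) * g⁻¹ by group,
    show g * y * g⁻¹ * (g * c * g⁻¹) = g * (y * c) * g⁻¹ by group, mul_left_inj, mul_right_inj]

theorem card_normalizer_conj (g y : G) :
    Nat.card ↥(Subgroup.normalizer (Subgroup.zpowers (g * y * g⁻¹) : Set G)) =
      Nat.card ↥(Subgroup.normalizer (Subgroup.zpowers y : Set G)) := by
  have h : (Subgroup.zpowers y).map (MulAut.conj g).toMonoidHom = Subgroup.zpowers (g * y * g⁻¹) := by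
    rw [MonoidHom.map_zpowers]; rfl
  rw [← h, ← Subgroup.map_equiv_normalizer_eq, Subgroup.card_map_of_injective (MulAut.conj g).injective]

theorem local_facts [IsSimpleGroup G] (hG : ¬ IsMulCommutative G) (hJ : Cfsg.IsOfJankoFourType G) :
    LocalFacts G := by
  have hres := Lib.JankoFour.pResidual_two_of_simple hG
  obtain ⟨z, P, hJ⟩ := hJ
  obtain ⟨F, -⟩ := Lib.JankoFour.exists_frame hJ Lib.JankoFour.AutM22.facts
  haveI : Fact (Nat.Prime 5) := ⟨by norm_num⟩
  haveI : Fact (Nat.Prime 7) := ⟨by norm_num⟩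
  have hCH : F.C ≤ F.H := inf_le_left
  have hdvd : ∀ q : ℕ, q.Prime → q ∣ 6 * 443520 → ∃ x : G, x ∈ F.H ∧ orderOf x = q := by
    intro q hq hd
    haveI : Fact q.Prime := ⟨hq⟩
    obtain ⟨x, hx⟩ := exists_prime_orderOf_dvd_card' (G := ↥F.C) q (F.card_C ▸ hd)
    exact ⟨x, hCH x.2, by rw [Subgroup.orderOf_coe]; exact hx⟩
  obtain ⟨x5, hx5H, hx5⟩ := hdvd 5 (by norm_num) (by norm_num)
  obtain ⟨x7, hx7H, hx7⟩ := hdvd 7 (by norm_num) (by norm_num)
  have hQ5 : Nat.card ↥(Subgroup.zpowers x5) = 5 := by rw [Nat.card_zpowers, hx5]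
  have hQ7 : Nat.card ↥(Subgroup.zpowers x7) = 7 := by rw [Nat.card_zpowers, hx7]
  obtain ⟨F5, S5, -⟩ := F.exists_five_pt Lib.JankoFour.AutM22.localData hres hQ5 (Subgroup.zpowers_le.2 hx5H)
  obtain ⟨F7, S7, -⟩ := F.exists_seven_pt Lib.JankoFour.AutM22.localData hres hQ7 (Subgroup.zpowers_le.2 hx7H)
  have h5 : ¬ 5 ^ 2 ∣ Nat.card G := by norm_num; exact S5.not_sq_dvd
  have h7 : ¬ 7 ^ 2 ∣ Nat.card G := by norm_num; exact S7.not_sq_dvd
  refine ⟨h5, h7, fun y hy => ?_, fun y hy => ?_⟩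
  · obtain ⟨g, k, -, e⟩ := J4Eleven.exists_conj_pow h5 hx5 hy
    set w := g⁻¹ * y * g with hw
    have hwH : Subgroup.zpowers w ≤ F.H := by
      rw [Subgroup.zpowers_le, hw, e]
      simpa [mul_assoc] using pow_mem hx5H k
    have hwc : Nat.card ↥(Subgroup.zpowers w) = 5 := by
      rw [Nat.card_zpowers, hw, show g⁻¹ * y * g = MulAut.conj g⁻¹ y by simp, (MulAut.conj g⁻¹).orderOf_eq, hy]
    obtain ⟨F', T, hT⟩ := F.exists_five_pt Lib.JankoFour.AutM22.localData hres hwc hwH
    obtain ⟨v, hv, hvo, hn⟩ := T.exists_seven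
    obtain ⟨hN, -⟩ := T.normalizer_data hv hvo hn
    have hC : Nat.card ↥(Subgroup.centralizer ({w} : Set G)) = 6720 := by
      rw [← centralizer_zpowers_eq, ← hT, T.centralizer_x, T.card_Cx]
    have hyw : y = g * w * g⁻¹ := by rw [hw]; group
    refine ⟨?_, ?_⟩
    · rw [hyw, centralizer_conj_card, hC]
    · rw [hyw, card_normalizer_conj, ← hT, hN]
  · obtain ⟨g, k, -, e⟩ := J4Eleven.exists_conj_pow h7 hx7 hy
    set w := g⁻¹ * y * g with hw
    have hwH : Subgroup.zpowers w ≤ F.H := by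
      rw [Subgroup.zpowers_le, hw, e]
      simpa [mul_assoc] using pow_mem hx7H k
    have hwc : Nat.card ↥(Subgroup.zpowers w) = 7 := by
      rw [Nat.card_zpowers, hw, show g⁻¹ * y * g = MulAut.conj g⁻¹ y by simp, (MulAut.conj g⁻¹).orderOf_eq, hy]
    obtain ⟨F', T, hT⟩ := F.exists_seven_pt Lib.JankoFour.AutM22.localData hres hwc hwH
    have hWeq : Subgroup.centralizer ({w} : Set G) = T.W := by
      rw [← centralizer_zpowers_eq, ← hT, T.centralizer_y]
    have hyw : y = g * w * g⁻¹ := by rw [hw]; group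
    refine ⟨?_, ?_, ?_⟩
    · rw [hyw, centralizer_conj_card, hWeq, T.card_W]
    · rw [hyw, card_normalizer_conj, ← hT, T.card_normalizer, T.card_W]
    · obtain ⟨φ⟩ := T.quotient_perm
      let ι : ↥(Subgroup.centralizer ({y} : Set G)) →* ↥T.W :=
        ((MulAut.conj g⁻¹).toMonoidHom.comp (Subgroup.subtype _)).codRestrict T.W fun c => by
          rw [← hWeq, hw]
          have := (mem_centralizer_conj g⁻¹ y c).1 c.2
          simpa using this
      refine ⟨φ.toMonoidHom.comp ((QuotientGroup.mk' T.Z).comp ι), fun σ => ?_, fun c hc => ?_⟩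
      · obtain ⟨t, ht⟩ := QuotientGroup.mk'_surjective T.Z (φ.symm σ)
        have htm : g * (t : G) * g⁻¹ ∈ Subgroup.centralizer ({y} : Set G) := by
          rw [hyw, ← mem_centralizer_conj, hWeq]; exact t.2
        refine ⟨⟨_, htm⟩, ?_⟩
        have hι : ι ⟨_, htm⟩ = t := Subtype.ext (by simp [ι, mul_assoc])
        simp [hι, show (QuotientGroup.mk t : ↥T.W ⧸ T.Z) = φ.symm σ from ht]
      · have hc' : ι c ∈ T.Z := by
          rw [← QuotientGroup.eq_one_iff]
          exact φ.injective (by simpa using hc)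
        have hinj : Function.Injective ι := fun a b hab =>
          Subtype.ext ((MulAut.conj g⁻¹).injective (congrArg Subtype.val hab))
        refine ⟨hinj ?_, fun d => hinj ?_⟩
        · rw [map_pow, map_one]
          obtain ⟨i, hi⟩ := Subgroup.mem_zpowers_iff.1 (Subgroup.mem_subgroupOf.1 hc')
          refine Subtype.ext ?_
          rw [Subgroup.coe_pow, ← hi, ← zpow_natCast, ← zpow_mul, mul_comm, zpow_mul, zpow_natCast,
            ← T.ord, pow_orderOf_eq_one, one_zpow, Subgroup.coe_one]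
        · rw [map_mul, map_mul]
          exact (T.Z_central hc' (ι d)).eq

theorem LocalFacts.map (h : LocalFacts G) (f : G ≃* Γ) : LocalFacts Γ := by
  have hc : Nat.card Γ = Nat.card G := (Nat.card_congr f.toEquiv).symm
  have hC : ∀ y : Γ, ∀ c : Γ, c ∈ Subgroup.centralizer ({y} : Set Γ) ↔
      f.symm c ∈ Subgroup.centralizer ({f.symm y} : Set G) := fun y c => by
    rw [Subgroup.mem_centralizer_singleton_iff, Subgroup.mem_centralizer_singleton_iff, ← map_mul, ← map_mul,
      f.symm.injective.eq_iff]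
  have hN : ∀ y : Γ, Nat.card ↥(Subgroup.normalizer (Subgroup.zpowers y : Set Γ)) =
      Nat.card ↥(Subgroup.normalizer (Subgroup.zpowers (f.symm y) : Set G)) := fun y => by
    have hm : (Subgroup.zpowers (f.symm y)).map f.toMonoidHom = Subgroup.zpowers y := by
      rw [MonoidHom.map_zpowers]; simp
    rw [← hm, ← Subgroup.map_equiv_normalizer_eq, Subgroup.card_map_of_injective f.injective]
  refine ⟨hc ▸ h.five_sq, hc ▸ h.seven_sq, fun y hy => ?_, fun y hy => ?_⟩
  · obtain ⟨h1, h2⟩ := h.five (f.symm y) (by rw [f.symm.orderOf_eq, hy])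
    exact ⟨(Nat.card_congr (Equiv.subtypeEquiv f.symm.toEquiv (hC y))).trans h1, (hN y).trans h2⟩
  · obtain ⟨h1, h2, g, hg, hk⟩ := h.seven (f.symm y) (by rw [f.symm.orderOf_eq, hy])
    let e : ↥(Subgroup.centralizer ({y} : Set Γ)) ≃* ↥(Subgroup.centralizer ({f.symm y} : Set G)) :=
      { toEquiv := Equiv.subtypeEquiv f.symm.toEquiv (hC y)
        map_mul' := fun a b => Subtype.ext (map_mul f.symm (a : Γ) b) }
    refine ⟨(Nat.card_congr e.toEquiv).trans h1, (hN y).trans h2, g.comp e.toMonoidHom, hg.comp e.surjective,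
      fun k hk' => ⟨e.injective (by rw [map_pow, map_one]; exact (hk _ hk').1), fun c => e.injective ?_⟩⟩
    rw [map_mul, map_mul]
    exact ((hk _ hk').2 (e c)).eq

end Cfsg.Lib.J4Classes
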