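import Cfsg.Agent.S5567
import Cfsg.Agent.S5569
import Cfsg.Agent.Lib.J4Classes.LocalFacts
import Cfsg.Agent.Lib.MTwentyFour.Nse
import Cfsg.Agent.Lib.JankoFourLocal.Pentad

/-!
# The centralizers of an involution and of an element of order 11 together
-/

set_option autoImplicit false
set_option linter.style.haveILetI false
set_option linter.unusedSectionVars false

namespace Cfsg.Lib.J4Classes

open Cfsg Cfsg.Lib.Concrete

/-- An element of order 11 of `M24` generates its centralizer. -/
theorem card_cent_eleven_M24 (g : ↥Cfsg.M24) (hg : orderOf g = 11) :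
    Nat.card ↥(Subgroup.centralizer ({g} : Set ↥Cfsg.M24)) ∣ 11 := by
  classical
  haveI : Fact (Nat.Prime 11) := ⟨by norm_num⟩
  haveI : Fact (MathieuBlock.m24Norm11.r).Prime := ⟨by show Nat.Prime 11; norm_num⟩
  obtain ⟨x, hx, -, h0, -⟩ := MTwentyFour.census_sound MathieuBlock.m24Good11 MTwentyFour.census_eleven
  have hx11 : orderOf x = 11 := hx
  have hnd : ¬ 11 ^ 2 ∣ Nat.card ↥Cfsg.M24 := by rw [card_M24]; norm_num
  set C := Subgroup.centralizer ({x} : Set ↥Cfsg.M24)
  have hord : ∀ c : ↥C, orderOf c = 1 ∨ orderOf c = 11 := by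
    intro c
    by_contra hne
    simp only [not_or] at hne
    have hz := h0 (orderOf c) fun e he => by
      simp only [List.mem_cons, List.not_mem_nil, or_false] at he
      rcases he with rfl | rfl <;> omega
    haveI : Nonempty {g : ↥Cfsg.M24 // orderOf g = orderOf c ∧ Commute x g} :=
      ⟨⟨c, Subgroup.orderOf_coe c, (Subgroup.mem_centralizer_singleton_iff.1 c.2).symm⟩⟩
    exact absurd hz Nat.card_pos.ne'
  have hP : IsPGroup 11 ↥C := fun c => ⟨1, by
    rcases hord c with h | h
    · rw [orderOf_eq_one_iff.1 h, one_pow]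
    · rw [pow_one, ← h, pow_orderOf_eq_one]⟩
  obtain ⟨n, hn⟩ := IsPGroup.iff_card.1 hP
  rw [JankoFour.card_centralizer_of_prime hnd hg hx11, hn]
  rcases Nat.lt_or_ge n 2 with h | h
  · exact (pow_dvd_pow 11 (show n ≤ 1 by omega)).trans (by norm_num)
  · exact absurd ((pow_dvd_pow 11 h).trans (hn ▸ Subgroup.card_subgroup_dvd_card C)) hnd

/-- An element of order 11 of the automorphism group of `M22` generates its centralizer. -/
theorem card_cent_eleven_A22 (a : MulAut ↥Cfsg.Spor.M22) (ha : orderOf a = 11) :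
    Nat.card ↥(Subgroup.centralizer ({a} : Set (MulAut ↥Cfsg.Spor.M22))) ∣ 11 := by
  let f : MulAut ↥Cfsg.Spor.M22 →* ↥Cfsg.M24 :=
    JankoFour.AutM22.perm.codRestrict Cfsg.M24 fun b => JankoFour.Pair_le (JankoFour.AutM22.perm_mem b)
  have hf : Function.Injective f := fun x y e => by
    have e' := congrArg Subtype.val e
    exact JankoFour.AutM22.perm_injective e'
  refine dvd_trans ?_ (card_cent_eleven_M24 (f a) (by rw [orderOf_injective f hf, ha]))
  rw [← Subgroup.card_map_of_injective hf]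
  refine Subgroup.card_dvd_of_le ?_
  rintro _ ⟨c, hc, rfl⟩
  rw [Subgroup.mem_centralizer_singleton_iff, ← map_mul, ← map_mul, Subgroup.mem_centralizer_singleton_iff.1 hc]

variable {G : Type*} [Group G] [Finite G] {Γ : Type*} [Group Γ] [Finite Γ]

/-- What is used of the involutions and the elements of order 11 commuting with them. -/
structure ElevenFacts (G : Type*) [Group G] (z : G) : Prop where
  z_ord : orderOf z = 2
  one : ∀ u v : G, orderOf u = 11 → orderOf v = 11 → Commute u z → Commute v z →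
    ∃ (g : G) (k : ℕ), g * u ^ k * g⁻¹ = v
  bound : ∀ u : G, orderOf u = 11 → Commute u z →
    Nat.card ↥(Subgroup.centralizer ({z} : Set G) ⊓ Subgroup.centralizer ({u} : Set G)) ∣ 264
  three : ∀ y : G, orderOf y = 3 → ∃ g : G, ∀ c, Commute c y → Commute (g * c * g⁻¹) z
  two : ∀ t : G, orderOf t = 2 → IsConj z t ∨ ∀ u : G, orderOf u = 11 → Commute u t →
    Nat.card ↥(Subgroup.centralizer ({t} : Set G) ⊓ Subgroup.centralizer ({u} : Set G)) ∣ 22

theorem commute_of_conj (g a b : G) (h : Commute (g * a * g⁻¹) (g * b * g⁻¹)) : Commute a b := by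
  have h' := h.map (MulAut.conj g⁻¹).toMonoidHom
  simpa [mul_assoc] using h'

theorem card_inter_conj (g a b : G) :
    Nat.card ↥(Subgroup.centralizer ({g * a * g⁻¹} : Set G) ⊓ Subgroup.centralizer ({g * b * g⁻¹} : Set G)) =
      Nat.card ↥(Subgroup.centralizer ({a} : Set G) ⊓ Subgroup.centralizer ({b} : Set G)) := by
  refine Nat.card_congr (Equiv.subtypeEquiv (MulAut.conj g).toEquiv fun c => ?_).symm
  show c ∈ Subgroup.centralizer ({a} : Set G) ⊓ Subgroup.centralizer ({b} : Set G) ↔ g * c * g⁻¹ ∈ _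
  rw [Subgroup.mem_inf, Subgroup.mem_inf, ← mem_centralizer_conj, ← mem_centralizer_conj]

theorem eleven_facts [IsSimpleGroup G] (hG : ¬ IsMulCommutative G) (hJ : Cfsg.IsOfJankoFourType G) :
    ∃ z : G, ElevenFacts G z := by
  classical
  haveI : Fact (Nat.Prime 11) := ⟨by norm_num⟩
  haveI : Fact (Nat.Prime 2) := ⟨Nat.prime_two⟩
  have hres := Lib.JankoFour.pResidual_two_of_simple hG
  obtain ⟨z, P, hJ⟩ := hJ
  obtain ⟨F, hz, -, -⟩ := Lib.JankoFour.exists_frame hJ Lib.JankoFour.AutM22.facts
  subst hz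
  set H := Subgroup.centralizer ({F.z} : Set G)
  have hH2 : ¬ 11 ^ 2 ∣ Nat.card ↥H := by rw [F.card_centralizer_z]; norm_num
  obtain ⟨x, hx⟩ := exists_prime_orderOf_dvd_card' (G := ↥F.C) 11 (by rw [F.card_C]; norm_num)
  have hxo : orderOf (x : G) = 11 := by rw [Subgroup.orderOf_coe, hx]
  have hxH : (x : G) ∈ H := F.C_le_H x.2
  have hconj : ∀ u : G, orderOf u = 11 → Commute u F.z →
      ∃ g, Commute g F.z ∧ ∃ k, ¬ 11 ∣ k ∧ g * (x : G) ^ k * g⁻¹ = u := by
    intro u hu hc
    obtain ⟨g, k, hk, e⟩ := J4Eleven.exists_conj_pow hH2 (x := (⟨(x : G), hxH⟩ : ↥H))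
      (y := ⟨u, Subgroup.mem_centralizer_singleton_iff.2 hc.eq⟩)
      (by rw [Subgroup.orderOf_mk, hxo]) (by rw [Subgroup.orderOf_mk, hu])
    exact ⟨g, Subgroup.mem_centralizer_singleton_iff.1 g.2, k, hk, (congrArg Subtype.val e).symm⟩
  refine ⟨F.z, ⟨hJ.1, fun u v hu hv huc hvc => ?_, fun u hu huc => ?_, fun y hy => ?_, fun t ht => ?_⟩⟩
  · obtain ⟨g, -, k, hk, e⟩ := hconj u hu huc
    obtain ⟨g', -, k', hk', e'⟩ := hconj v hv hvc
    obtain ⟨b, hb⟩ := exists_pow_eq_self_of_coprime (x := (x : G)) (n := k)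
      (by rw [hxo]; exact ((show Nat.Prime 11 by norm_num).coprime_iff_not_dvd.2 hk).symm)
    refine ⟨g' * g⁻¹, b * k', ?_⟩
    rw [← e, conj_pow, pow_mul, hb, ← e']
    group
  · obtain ⟨g, hg, k, hk, e⟩ := hconj u hu huc
    have hconjz := card_inter_conj g F.z ((x : G) ^ k)
    rw [hg.eq, mul_inv_cancel_right] at hconjz
    rw [← e, hconjz]
    obtain ⟨b, hb⟩ := exists_pow_eq_self_of_coprime (x := (x : G)) (n := k)
      (by rw [hxo]; exact ((show Nat.Prime 11 by norm_num).coprime_iff_not_dvd.2 hk).symm)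
    have hcx : Subgroup.centralizer ({(x : G) ^ k} : Set G) = Subgroup.centralizer ({(x : G)} : Set G) := by
      ext c
      rw [Subgroup.mem_centralizer_singleton_iff, Subgroup.mem_centralizer_singleton_iff]
      refine ⟨fun h => ?_, fun h => ((show Commute c (x : G) from h).pow_right k).eq⟩
      rw [← hb]
      exact ((show Commute c ((x : G) ^ k) from h).pow_right b).eq
    have hxC := F.mem_C.1 x.2
    have himg : orderOf (F.img x) = 11 := by
      refine orderOf_eq_prime (by rw [← F.img_pow hxC.1, ← hxo, pow_orderOf_eq_one, F.img_one]) fun h1 => ?_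
      obtain ⟨e, he, i, hei⟩ := (F.img_ker _ hxC.1).1 h1
      have hep : Commute e F.p := by
        rw [show e = (x : G) * (F.p ^ i)⁻¹ by rw [hei, mul_inv_cancel_right]]
        exact hxC.2.mul_left ((Commute.refl F.p).pow_left i).inv_left
      have h6 : (x : G) ^ 6 = 1 := by
        have hp : (F.p ^ i) ^ 6 = 1 := by
          rw [← pow_mul, mul_comm, pow_mul, show F.p ^ 6 = (F.p ^ 3) ^ 2 from pow_mul _ 3 2, F.p_cube, one_pow, one_pow]
        have hze : e ^ 6 = 1 := by
          rcases F.fixed e he hep with rfl | rfl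
          · exact one_pow 6
          · rw [show F.z ^ 6 = (F.z ^ 2) ^ 3 from pow_mul _ 2 3, pow_two, F.ctx.sq_z, one_pow]
        rw [hei, (hep.pow_right i).mul_pow, hp, hze, mul_one]
      have := orderOf_dvd_iff_pow_eq_one.2 h6
      rw [hxo] at this
      norm_num at this
    have hE : Nat.card ↥(F.E ⊓ Subgroup.centralizer ({(x : G)} : Set G)) = 8 := by
      have hmod := Lib.JankoFour.card_cent_inf_modEq hxo (F.ctx.norm (x : G) hxC.1)
      rw [F.card_E] at hmod
      obtain ⟨n, hn, he⟩ := (Nat.dvd_prime_pow Nat.prime_two).1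
        (F.card_E ▸ Subgroup.card_dvd_of_le (inf_le_left (b := Subgroup.centralizer ({(x : G)} : Set G)) (a := F.E)))
      rw [he] at hmod ⊢
      have hn3 : n = 3 ∨ n = 13 := by revert hmod; interval_cases n <;> decide
      rcases hn3 with rfl | rfl
      · norm_num
      · exfalso
        have heq := Subgroup.eq_of_le_of_card_ge (inf_le_left (b := Subgroup.centralizer ({(x : G)} : Set G))
          (a := F.E)) (by rw [he, F.card_E])
        rcases F.ctx.cent (x : G) fun a ha => by
          rw [← heq] at ha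
          exact (Subgroup.mem_centralizer_singleton_iff.1 ha.2).symm with h | h
        · rw [h, orderOf_one] at hxo; norm_num at hxo
        · rw [h, hJ.1] at hxo; norm_num at hxo
    have hk' := F.card_cent_H (q := 11) (by norm_num) (by norm_num) x.2 hxo
    rw [hcx]
    show Nat.card ↥(F.H ⊓ Subgroup.centralizer ({(x : G)} : Set G)) ∣ 264
    rw [hk', hE]
    exact (mul_dvd_mul_left (3 * 8) (card_cent_eleven_A22 _ himg)).trans (by norm_num)
  · obtain ⟨g, hg⟩ := isConj_iff.1 (F.isConj_p hres hy).symm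
    refine ⟨g, fun c hc => ?_⟩
    have h : g * c * g⁻¹ ∈ Subgroup.centralizer ({F.p} : Set G) := by
      rw [← hg, ← mem_centralizer_conj, Subgroup.mem_centralizer_singleton_iff]; exact hc.eq
    rw [← F.centralizer_zpowers] at h
    exact Subgroup.mem_centralizer_singleton_iff.1 (F.normalizer_le hres (Subgroup.centralizer_le_normalizer _ h))
  · by_cases hzt : IsConj F.z t
    · exact Or.inl hzt
    refine Or.inr fun u hu huc => ?_
    obtain ⟨V, K, hVt, hKt, hN, hV, hVc, hKV, hsup, ⟨κ⟩⟩ := Cfsg.Agent.S5569.result hG F.z ⟨P, hJ⟩ t ht hzt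
    obtain ⟨hself, -⟩ := Cfsg.Agent.S5567.result hG ⟨F.z, P, hJ⟩ V hV hVc
    set Ct := Subgroup.centralizer ({t} : Set G)
    set L := Ct ⊓ Subgroup.centralizer ({u} : Set G)
    let V' : Subgroup ↥Ct := V.subgroupOf Ct
    haveI hVn : V'.Normal := by
      refine ⟨fun a ha c => ?_⟩
      rw [Subgroup.mem_subgroupOf] at ha ⊢
      exact (Subgroup.mem_normalizer_iff.1 (hN c.2) a).1 ha
    let f : ↥K →* ↥Ct ⧸ V' := (QuotientGroup.mk' V').comp (Subgroup.inclusion hKt)
    have hf : Function.Bijective f := by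
      refine ⟨(injective_iff_map_eq_one f).2 fun a ha => ?_, fun q => ?_⟩
      · have h1 : (a : G) ∈ K ⊓ V := ⟨a.2, Subgroup.mem_subgroupOf.1 ((QuotientGroup.eq_one_iff (Subgroup.inclusion hKt a)).1 ha)⟩
        rw [hKV, Subgroup.mem_bot] at h1
        exact Subtype.ext h1
      · obtain ⟨c, rfl⟩ := QuotientGroup.mk'_surjective V' q
        have hc : (c : G) ∈ K ⊔ V := hsup.symm ▸ c.2
        obtain ⟨a, ha, b, hb, hab⟩ := Subgroup.mem_sup_of_normal_right.1
          (show c ∈ K.subgroupOf Ct ⊔ V' by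
            rw [← Subgroup.subgroupOf_sup hKt hVt, Subgroup.mem_subgroupOf]; exact hc)
        refine ⟨⟨a, Subgroup.mem_subgroupOf.1 ha⟩, ?_⟩
        rw [← hab, map_mul, show (QuotientGroup.mk' V') b = 1 from (QuotientGroup.eq_one_iff b).2 hb, mul_one]
        rfl
    let π : ↥Ct →* MulAut ↥Cfsg.Spor.M22 :=
      κ.toMonoidHom.comp ((MulEquiv.ofBijective f hf).symm.toMonoidHom.comp (QuotientGroup.mk' V'))
    have hπk : ∀ c : ↥Ct, π c = 1 ↔ (c : G) ∈ V := fun c => by
      simp only [π, MonoidHom.comp_apply, MulEquiv.coe_toMonoidHom, map_eq_one_iff _ κ.injective,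
        map_eq_one_iff _ (MulEquiv.ofBijective f hf).symm.injective, QuotientGroup.mk'_apply,
        QuotientGroup.eq_one_iff]
      exact Subgroup.mem_subgroupOf
    let uC : ↥Ct := ⟨u, Subgroup.mem_centralizer_singleton_iff.2 huc.eq⟩
    have hu11 : orderOf (π uC) = 11 := by
      refine orderOf_eq_prime (by
        rw [← map_pow, show uC ^ 11 = 1 from Subtype.ext (by show u ^ 11 = 1; rw [← hu, pow_orderOf_eq_one]), map_one]) ?_
      intro h
      have h2 := hV.2 u ((hπk uC).1 h)
      have := orderOf_dvd_iff_pow_eq_one.2 h2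
      rw [hu] at this
      norm_num at this
    have huN : u ∈ Subgroup.normalizer (V : Set G) := hN uC.2
    have hVu : Nat.card ↥(V ⊓ Subgroup.centralizer ({u} : Set G)) = 2 := by
      have hmod := Lib.JankoFour.card_cent_inf_modEq hu huN
      rw [hVc] at hmod
      obtain ⟨n, hn, he⟩ := (Nat.dvd_prime_pow Nat.prime_two).1
        (hVc ▸ Subgroup.card_dvd_of_le (inf_le_left (a := V) (b := Subgroup.centralizer ({u} : Set G))))
      rw [he] at hmod ⊢
      have hn1 : n = 1 ∨ n = 11 := by revert hmod; interval_cases n <;> decide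
      rcases hn1 with rfl | rfl
      · rfl
      · exfalso
        have heq := Subgroup.eq_of_le_of_card_ge (inf_le_left (a := V) (b := Subgroup.centralizer ({u} : Set G)))
          (by rw [he, hVc])
        have huV : u ∈ V := hself (Subgroup.mem_centralizer_iff.2 fun a ha => by
          rw [← heq] at ha
          exact Subgroup.mem_centralizer_singleton_iff.1 ha.2)
        have := orderOf_dvd_iff_pow_eq_one.2 (hV.2 u huV)
        rw [hu] at this
        norm_num at this
    let θ : ↥L →* MulAut ↥Cfsg.Spor.M22 := π.comp (Subgroup.inclusion inf_le_left)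
    have hker : Nat.card ↥θ.ker ∣ 2 := by
      rw [← hVu]
      refine Subgroup.card_dvd_of_injective
        ((L.subtype.comp θ.ker.subtype).codRestrict (V ⊓ Subgroup.centralizer ({u} : Set G)) fun c =>
          ⟨(hπk _).1 c.2, c.1.2.2⟩) fun a b e => ?_
      have e' := congrArg Subtype.val e
      exact Subtype.ext (Subtype.ext e')
    have hran : Nat.card ↥θ.range ∣ 11 := by
      refine dvd_trans (Subgroup.card_dvd_of_le ?_) (card_cent_eleven_A22 _ hu11)
      rintro _ ⟨c, rfl⟩
      rw [Subgroup.mem_centralizer_singleton_iff]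
      show π _ * π uC = π uC * π _
      rw [← map_mul, ← map_mul]
      exact congrArg π (Subtype.ext (Subgroup.mem_centralizer_singleton_iff.1 c.2.2))
    rw [← θ.ker.index_mul_card, Subgroup.index_ker]
    exact (mul_dvd_mul hran hker).trans (by norm_num)

theorem ElevenFacts.map {z : G} (h : ElevenFacts G z) (f : G ≃* Γ) : ElevenFacts Γ (f z) := by
  have hcomm : ∀ {a b : Γ}, Commute a b → Commute (f.symm a) (f.symm b) := fun h => h.map f.symm.toMonoidHom
  have hcard : ∀ a b : Γ,
      Nat.card ↥(Subgroup.centralizer ({a} : Set Γ) ⊓ Subgroup.centralizer ({b} : Set Γ)) =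
        Nat.card ↥(Subgroup.centralizer ({f.symm a} : Set G) ⊓ Subgroup.centralizer ({f.symm b} : Set G)) := by
    intro a b
    refine Nat.card_congr (Equiv.subtypeEquiv f.symm.toEquiv fun c => ?_)
    show c ∈ Subgroup.centralizer ({a} : Set Γ) ⊓ Subgroup.centralizer ({b} : Set Γ) ↔ f.symm c ∈ _
    simp only [Subgroup.mem_inf, Subgroup.mem_centralizer_singleton_iff, ← map_mul, f.symm.injective.eq_iff]
  refine ⟨by rw [f.orderOf_eq, h.z_ord], fun u v hu hv huc hvc => ?_, fun u hu huc => ?_, fun y hy => ?_,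
    fun t ht => ?_⟩
  · obtain ⟨g, k, e⟩ := h.one (f.symm u) (f.symm v) (by rw [f.symm.orderOf_eq, hu])
      (by rw [f.symm.orderOf_eq, hv]) (by simpa using hcomm huc) (by simpa using hcomm hvc)
    exact ⟨f g, k, by simpa using congrArg f e⟩
  · rw [hcard, f.symm_apply_apply]
    exact h.bound _ (by rw [f.symm.orderOf_eq, hu]) (by simpa using hcomm huc)
  · obtain ⟨g, hg⟩ := h.three (f.symm y) (by rw [f.symm.orderOf_eq, hy])
    exact ⟨f g, fun c hc => by simpa using (hg _ (hcomm hc)).map f.toMonoidHom⟩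
  · rcases h.two (f.symm t) (by rw [f.symm.orderOf_eq, ht]) with h' | h'
    · exact Or.inl (by simpa using f.toMonoidHom.map_isConj h')
    · refine Or.inr fun u hu huc => ?_
      rw [hcard]
      exact h' _ (by rw [f.symm.orderOf_eq, hu]) (hcomm huc)

end Cfsg.Lib.J4Classes
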