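import Cfsg.Agent.Lib.J4Classes.Count

/-!
# The classes of the symmetric group of degree five and of `SL(2,3)`
-/

set_option autoImplicit false
set_option maxRecDepth 100000
set_option maxHeartbeats 0

namespace Cfsg.Lib.J4Classes

theorem onlyP_of_card {Γ : Type*} [Group Γ] {L : List ℕ} {N : ℕ} (hN : Nat.card Γ = N)
    (h : ∀ q : ℕ, q.Prime → q ∣ N → q ∈ L) (x : Γ) : OnlyP L x :=
  fun q hq hd => h q hq (hd.trans (hN ▸ orderOf_dvd_natCard x))

/-- Representatives in the symmetric group of degree five. -/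
def symReps : Fin 7 → Equiv.Perm (Fin 5) :=
  ![1, Equiv.swap 0 1, Equiv.swap 0 1 * Equiv.swap 2 3, Equiv.swap 0 1 * Equiv.swap 1 2,
    Equiv.swap 0 1 * Equiv.swap 1 2 * Equiv.swap 2 3, Equiv.swap 0 1 * Equiv.swap 1 2 * Equiv.swap 3 4,
    Equiv.swap 0 1 * Equiv.swap 1 2 * Equiv.swap 2 3 * Equiv.swap 3 4]

theorem symReps_all : ∀ σ : Equiv.Perm (Fin 5), ∃ i, ∃ τ : Equiv.Perm (Fin 5), τ * σ = symReps i * τ := by
  decide +kernel

theorem symReps_sep : ∀ i j, (∃ τ : Equiv.Perm (Fin 5), τ * symReps i = symReps j * τ) → i = j := by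
  decide +kernel

theorem numCls_symFive : NumCls (OnlyP (Γ := Equiv.Perm (Fin 5)) [5, 3, 2]) 7 := by
  refine ⟨symReps, fun i => ?_, fun i j h => symReps_sep i j ?_, fun x _ => ?_⟩
  · refine onlyP_of_card (N := 120) ?_ ?_ _
    · rw [Nat.card_perm, Nat.card_fin]; rfl
    · intro q hq hd
      have h' : q ∣ 2 ^ 3 * 3 * 5 := hd
      rcases (Nat.Prime.dvd_mul hq).1 h' with h' | h'
      · rcases (Nat.Prime.dvd_mul hq).1 h' with h' | h'
        · simp [(Nat.prime_dvd_prime_iff_eq hq Nat.prime_two).1 (hq.dvd_of_dvd_pow h')]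
        · simp [(Nat.prime_dvd_prime_iff_eq hq Nat.prime_three).1 h']
      · simp [(Nat.prime_dvd_prime_iff_eq hq (by norm_num)).1 h']
  · obtain ⟨c, hc⟩ := isConj_iff.1 h
    exact ⟨c, mul_inv_eq_iff_eq_mul.1 hc⟩
  · obtain ⟨i, t, ht⟩ := symReps_all x
    exact ⟨i, isConj_iff.2 ⟨t, mul_inv_eq_iff_eq_mul.2 ht⟩⟩

/-- The product of an upper and a lower transvection. -/
def tvMat (a : Bool) (c : ZMod 3) : Matrix (Fin 2) (Fin 2) (ZMod 3) :=
  if a then !![1, c; 0, 1] else !![1, 0; c, 1]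

/-- A product of four transvections. -/
def fourTv (a b c d : ZMod 3) : Matrix (Fin 2) (Fin 2) (ZMod 3) :=
  tvMat true a * tvMat false b * tvMat true c * tvMat false d

theorem sl_generated : ∀ a b c d : ZMod 3, a * d - b * c = 1 →
    ∃ s t u v : ZMod 3, fourTv s t u v = !![a, b; c, d] := by
  decide +kernel

/-- Entries of representatives in the special linear group. -/
def slReps : Fin 7 → ZMod 3 × ZMod 3 × ZMod 3 × ZMod 3 :=
  ![(1, 0, 0, 1), (2, 0, 0, 2), (0, 2, 1, 0), (1, 1, 0, 1), (1, 2, 0, 1), (2, 2, 0, 2), (2, 1, 0, 2)]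

/-- Multiplication of entries. -/
def qMul (x y : ZMod 3 × ZMod 3 × ZMod 3 × ZMod 3) : ZMod 3 × ZMod 3 × ZMod 3 × ZMod 3 :=
  (x.1 * y.1 + x.2.1 * y.2.2.1, x.1 * y.2.1 + x.2.1 * y.2.2.2,
    x.2.2.1 * y.1 + x.2.2.2 * y.2.2.1, x.2.2.1 * y.2.1 + x.2.2.2 * y.2.2.2)

/-- The determinant. -/
def qDet (x : ZMod 3 × ZMod 3 × ZMod 3 × ZMod 3) : ZMod 3 := x.1 * x.2.2.2 - x.2.1 * x.2.2.1

theorem slReps_all : ∀ x, qDet x = 1 → ∃ i, ∃ g, qDet g = 1 ∧ qMul g x = qMul (slReps i) g := by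
  decide +kernel

theorem slReps_sep : ∀ i j, (∃ g, qDet g = 1 ∧ qMul g (slReps i) = qMul (slReps j) g) → i = j := by
  decide +kernel

theorem slReps_det : ∀ i, qDet (slReps i) = 1 := by decide +kernel

/-- The entries of a matrix. -/
def qOf (m : Matrix (Fin 2) (Fin 2) (ZMod 3)) : ZMod 3 × ZMod 3 × ZMod 3 × ZMod 3 := (m 0 0, m 0 1, m 1 0, m 1 1)

theorem qOf_mul (m n : Matrix (Fin 2) (Fin 2) (ZMod 3)) : qOf (m * n) = qMul (qOf m) (qOf n) := by
  simp [qOf, qMul, Matrix.mul_apply, Fin.sum_univ_two]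

theorem qOf_inj {m n : Matrix (Fin 2) (Fin 2) (ZMod 3)} (h : qOf m = qOf n) : m = n := by
  simp only [qOf, Prod.mk.injEq] at h
  ext i j
  fin_cases i <;> fin_cases j <;> simp [h.1, h.2.1, h.2.2.1, h.2.2.2]

theorem qDet_qOf (m : Matrix (Fin 2) (Fin 2) (ZMod 3)) : qDet (qOf m) = m.det := by
  rw [Matrix.det_fin_two]; rfl

/-- A special linear matrix from its entries. -/
def slOf (x : ZMod 3 × ZMod 3 × ZMod 3 × ZMod 3) (h : qDet x = 1) : Matrix.SpecialLinearGroup (Fin 2) (ZMod 3) :=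
  ⟨!![x.1, x.2.1; x.2.2.1, x.2.2.2], by rw [Matrix.det_fin_two_of]; exact h⟩

theorem qOf_slOf (x : ZMod 3 × ZMod 3 × ZMod 3 × ZMod 3) (h : qDet x = 1) :
    qOf (slOf x h).1 = x := rfl

theorem numCls_slTwoThree :
    NumCls (OnlyP (Γ := Matrix.SpecialLinearGroup (Fin 2) (ZMod 3)) [7, 5, 3, 2]) 7 := by
  refine ⟨fun i => slOf (slReps i) (slReps_det i), fun i => ?_, fun i j h => slReps_sep i j ?_, fun x _ => ?_⟩
  · refine onlyP_of_card (N := 24) ?_ ?_ _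
    · rw [Nat.card_eq_fintype_card]; decide +kernel
    · intro q hq hd
      have h' : q ∣ 2 ^ 3 * 3 := hd
      rcases (Nat.Prime.dvd_mul hq).1 h' with h' | h'
      · simp [(Nat.prime_dvd_prime_iff_eq hq Nat.prime_two).1 (hq.dvd_of_dvd_pow h')]
      · simp [(Nat.prime_dvd_prime_iff_eq hq Nat.prime_three).1 h']
  · obtain ⟨c, hc⟩ := isConj_iff.1 h
    refine ⟨qOf c.1, by rw [qDet_qOf, c.2], ?_⟩
    have h' := congrArg (fun m => qOf m.1) (mul_inv_eq_iff_eq_mul.1 hc)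
    simp only [Matrix.SpecialLinearGroup.coe_mul, qOf_mul, qOf_slOf] at h'
    exact h'
  · obtain ⟨i, g, hg, e⟩ := slReps_all (qOf x.1) (by rw [qDet_qOf, x.2])
    refine ⟨i, isConj_iff.2 ⟨slOf g hg, mul_inv_eq_iff_eq_mul.2 (Subtype.ext (qOf_inj ?_))⟩⟩
    simp only [Matrix.SpecialLinearGroup.coe_mul, qOf_mul, qOf_slOf]
    exact e

end Cfsg.Lib.J4Classes
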