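import Cfsg.Agent.Lib.J4Classes.Count
import Cfsg.Agent.Lib.J4Classes.Small
import Cfsg.Agent.Lib.J4Classes.ThreeFacts
import Cfsg.Agent.Lib.J4Classes.ElevenFacts
import Cfsg.Agent.Lib.J4Eleven.Main

/-!
# The centralizers of the two classes of elements of order 11
-/

set_option autoImplicit false
set_option maxRecDepth 20000
set_option linter.style.haveILetI false

namespace Cfsg.Lib.J4Classes

open Cfsg.Lib.J4Real Cfsg.Lib.J4Eleven

attribute [local irreducible] uHeis jp wp

theorem exists_conj_le_prime {Γ : Type*} [Group Γ] [Finite Γ] {p : ℕ} [Fact p.Prime] (H : Subgroup Γ)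
    (hH : ¬ p ∣ H.index) {A : Subgroup Γ} (hA : IsPGroup p A) : ∃ g : Γ, ∀ a ∈ A, g * a * g⁻¹ ∈ H := by
  obtain ⟨q, hq⟩ := hA.nonempty_fixed_point_of_prime_not_dvd_card (Γ ⧸ H) (by rwa [← Subgroup.index_eq_card])
  induction q using QuotientGroup.induction_on with
  | _ g =>
    refine ⟨g⁻¹, fun a ha => ?_⟩
    have h := hq ⟨a, ha⟩
    change ((a * g : Γ) : Γ ⧸ H) = (g : Γ ⧸ H) at h
    have h' := H.inv_mem (QuotientGroup.eq.1 h)
    rw [show ((a * g)⁻¹ * g)⁻¹ = g⁻¹ * a * g by group] at h'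
    rwa [inv_inv]

/-- The hypotheses on the elements of order 11. -/
structure ElevenSetting (z : ↥Gsub) : Prop where
  facts : ElevenFacts ↥Gsub z
  card_N : Nat.card ↥(Subgroup.normalizer (U0 : Set Gsub)) = 11 ^ 3 * 240
  small : SmallFree
  five : ∀ y : ↥Gsub, orderOf y = 5 → ¬ 11 ∣ Nat.card ↥(Subgroup.centralizer ({y} : Set ↥Gsub))
  seven : ∀ y : ↥Gsub, orderOf y = 7 → ¬ 11 ∣ Nat.card ↥(Subgroup.centralizer ({y} : Set ↥Gsub))

variable {z : ↥Gsub} (hS : ElevenSetting z)

include hS in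
/-- The order of the centralizer of an element of order 11 has prime divisors 2, 3 and 11. -/
theorem prime_cases_cent {u : ↥Gsub} (hu : orderOf u = 11) {q : ℕ} (hq : q.Prime)
    (hd : q ∣ Nat.card ↥(Subgroup.centralizer ({u} : Set ↥Gsub))) : q = 2 ∨ q = 3 ∨ q = 11 := by
  haveI : Fact q.Prime := ⟨hq⟩
  obtain ⟨a, ha⟩ := exists_prime_orderOf_dvd_card' q hd
  have hao : orderOf (a : ↥Gsub) = q := by rw [Subgroup.orderOf_coe, ha]
  have hc : Commute (a : ↥Gsub) u := Subgroup.mem_centralizer_singleton_iff.1 a.2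
  have h11 : 11 ∣ Nat.card ↥(Subgroup.centralizer ({(a : ↥Gsub)} : Set ↥Gsub)) :=
    hu ▸ Subgroup.orderOf_dvd_natCard _ (Subgroup.mem_centralizer_singleton_iff.2 hc.symm.eq)
  have big : ∀ {p e : ℕ}, p.Prime → SylowShape p e → ¬ p ^ 2 ∣ jOrd → p ≠ 11 → q ≠ p := by
    intro p e hp hsh h2 hp11 e'
    haveI : Fact p.Prime := ⟨hp⟩
    exact no_commute_of_shape hsh h2 hp11.symm (by norm_num) (e' ▸ hao) hu hc
  rcases prime_cases hq (hd.trans ((Subgroup.card_subgroup_dvd_card _).trans (dvd_of_eq card_Gsub))) with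
    h | h | h | h | h | h | h | h | h | h
  · exact Or.inl h
  · exact Or.inr (Or.inl h)
  · exact absurd h11 (hS.five _ (h ▸ hao))
  · exact absurd h11 (hS.seven _ (h ▸ hao))
  · exact Or.inr (Or.inr h)
  · exact absurd h (big (by norm_num) (shape23 hS.small) (by norm_num) (by norm_num))
  · exact absurd h (big (by norm_num) (shape29 hS.small) (by norm_num) (by norm_num))
  · exact absurd h (big (by norm_num) (shape31 hS.small) (by norm_num) (by norm_num))
  · exact absurd h (big (by norm_num) (shape37 hS.small) (by norm_num) (by norm_num))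
  · exact absurd h (big (by norm_num) (shape43 hS.small) (by norm_num) (by norm_num))

theorem commute_conj {g a b : ↥Gsub} (h : Commute a b) : Commute (g * a * g⁻¹) (g * b * g⁻¹) :=
  h.map (MulAut.conj g).toMonoidHom

include hS in
/-- A 2-group centralizing an element of order 11. -/
theorem two_part {u : ↥Gsub} (hu : orderOf u = 11) {P : Subgroup ↥Gsub} {k : ℕ} (hP : Nat.card ↥P = 2 ^ k)
    (hc : ∀ a ∈ P, Commute a u) :
    2 ^ k ∣ 8 ∧ (2 ^ k ∣ 2 ∨ ∃ g : ↥Gsub, Commute (g * u * g⁻¹) z) := by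
  haveI : Fact (Nat.Prime 2) := ⟨Nat.prime_two⟩
  rcases Nat.eq_zero_or_pos k with rfl | hk
  · exact ⟨one_dvd _, Or.inl (one_dvd _)⟩
  haveI : Nontrivial ↥P := Finite.one_lt_card_iff_nontrivial.1 (by rw [hP]; exact Nat.one_lt_two_pow hk.ne')
  haveI := (IsPGroup.of_card hP).center_nontrivial
  obtain ⟨t, ht⟩ := exists_prime_orderOf_dvd_card' (G := ↥(Subgroup.center ↥P)) 2 (by
    obtain ⟨j, hj⟩ := IsPGroup.iff_card.1 ((IsPGroup.of_card hP).to_subgroup (Subgroup.center ↥P))
    rcases Nat.eq_zero_or_pos j with rfl | hj0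
    · exact absurd hj (Finite.one_lt_card.ne')
    · rw [hj]; exact dvd_pow_self 2 hj0.ne')
  set t' : ↥Gsub := ((t : ↥P) : ↥Gsub)
  have hto : orderOf t' = 2 := by rw [Subgroup.orderOf_coe, Subgroup.orderOf_coe, ht]
  have htP : ∀ a ∈ P, Commute a t' := fun a ha =>
    congrArg Subtype.val (Subgroup.mem_center_iff.1 t.2 ⟨a, ha⟩)
  have htu : Commute t' u := hc _ (t : ↥P).2
  have h264 : ∀ {n : ℕ}, 2 ^ n ∣ 264 → 2 ^ n ∣ 8 := fun {n} h =>
    (Nat.Coprime.pow_left n (by norm_num : Nat.Coprime 2 33)).dvd_of_dvd_mul_right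
      (show 2 ^ n ∣ 8 * 33 from h)
  rcases hS.facts.two t' hto with h | h
  · obtain ⟨g, hg⟩ := isConj_iff.1 h.symm
    have hzu : Commute (g * u * g⁻¹) z := hg ▸ commute_conj htu.symm
    refine ⟨h264 ?_, Or.inr ⟨g, hzu⟩⟩
    rw [← hP, ← Subgroup.card_map_of_injective (f := (MulAut.conj g).toMonoidHom) (MulAut.conj g).injective]
    refine (Subgroup.card_dvd_of_le ?_).trans
      (hS.facts.bound (g * u * g⁻¹) (by rw [orderOf_conj_eq, hu]) hzu)
    rintro _ ⟨a, ha, rfl⟩
    exact ⟨Subgroup.mem_centralizer_singleton_iff.2 (hg ▸ commute_conj (g := g) (htP a ha)).eq,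
      Subgroup.mem_centralizer_singleton_iff.2 (commute_conj (g := g) (hc a ha)).eq⟩
  · have h22 : 2 ^ k ∣ 22 := by
      rw [← hP]
      refine (Subgroup.card_dvd_of_le ?_).trans (h u hu htu.symm)
      intro a ha
      exact ⟨Subgroup.mem_centralizer_singleton_iff.2 (htP a ha).eq,
        Subgroup.mem_centralizer_singleton_iff.2 (hc a ha).eq⟩
    have h2 : 2 ^ k ∣ 2 := (Nat.Coprime.pow_left k (by norm_num : Nat.Coprime 2 11)).dvd_of_dvd_mul_right
      (show 2 ^ k ∣ 2 * 11 from h22)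
    exact ⟨h2.trans (by norm_num), Or.inl h2⟩

include hS in
/-- A 3-group centralizing an element of order 11. -/
theorem three_part {u : ↥Gsub} (hu : orderOf u = 11) {P : Subgroup ↥Gsub} {k : ℕ} (hP : Nat.card ↥P = 3 ^ k)
    (hc : ∀ a ∈ P, Commute a u) :
    3 ^ k ∣ 3 ∧ (k = 0 ∨ ∃ g : ↥Gsub, Commute (g * u * g⁻¹) z) := by
  haveI : Fact (Nat.Prime 3) := ⟨Nat.prime_three⟩
  rcases Nat.eq_zero_or_pos k with rfl | hk
  · exact ⟨one_dvd _, Or.inl rfl⟩
  haveI : Nontrivial ↥P := Finite.one_lt_card_iff_nontrivial.1 (by rw [hP]; exact Nat.one_lt_pow hk.ne' (by norm_num))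
  haveI := (IsPGroup.of_card hP).center_nontrivial
  obtain ⟨t, ht⟩ := exists_prime_orderOf_dvd_card' (G := ↥(Subgroup.center ↥P)) 3 (by
    obtain ⟨j, hj⟩ := IsPGroup.iff_card.1 ((IsPGroup.of_card hP).to_subgroup (Subgroup.center ↥P))
    rcases Nat.eq_zero_or_pos j with rfl | hj0
    · exact absurd hj (Finite.one_lt_card.ne')
    · rw [hj]; exact dvd_pow_self 3 hj0.ne')
  set t' : ↥Gsub := ((t : ↥P) : ↥Gsub)
  have hto : orderOf t' = 3 := by rw [Subgroup.orderOf_coe, Subgroup.orderOf_coe, ht]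
  obtain ⟨g, hg⟩ := hS.facts.three t' hto
  have hzu : Commute (g * u * g⁻¹) z := hg u (hc _ (t : ↥P).2).symm
  refine ⟨(Nat.Coprime.pow_left k (by norm_num : Nat.Coprime 3 88)).dvd_of_dvd_mul_right
    (show 3 ^ k ∣ 3 * 88 from ?_), Or.inr ⟨g, hzu⟩⟩
  rw [← hP, ← Subgroup.card_map_of_injective (f := (MulAut.conj g).toMonoidHom) (MulAut.conj g).injective]
  refine (Subgroup.card_dvd_of_le ?_).trans (hS.facts.bound (g * u * g⁻¹) (by rw [orderOf_conj_eq, hu]) hzu)
  rintro _ ⟨a, ha, rfl⟩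
  exact ⟨Subgroup.mem_centralizer_singleton_iff.2
      (hg a (congrArg Subtype.val (Subgroup.mem_center_iff.1 t.2 ⟨a, ha⟩) : _)).eq,
    Subgroup.mem_centralizer_singleton_iff.2 (commute_conj (g := g) (hc a ha)).eq⟩

/-- The order of a subgroup from the orders of its subgroups of prime power order. -/
theorem card_dvd_of_parts {Γ : Type*} [Group Γ] [Finite Γ] {C : Subgroup Γ} {m : ℕ}
    (h : ∀ p k : ℕ, p.Prime → 0 < k → ∀ P : Subgroup Γ, P ≤ C → Nat.card ↥P = p ^ k → p ^ k ∣ m) :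
    Nat.card ↥C ∣ m := by
  refine (Nat.dvd_iff_prime_pow_dvd_dvd m (Nat.card ↥C)).2 fun p k hp hd => ?_
  rcases Nat.eq_zero_or_pos k with rfl | hk
  · rw [pow_zero]; exact one_dvd _
  haveI : Fact p.Prime := ⟨hp⟩
  obtain ⟨P, hP⟩ := Sylow.exists_subgroup_card_pow_prime p hd
  exact h p k hp hk (P.map C.subtype) (Subgroup.map_subtype_le P)
    (by rw [Subgroup.card_map_of_injective C.subtype_injective, hP])

theorem eleven_pow_le {P : Subgroup ↥Gsub} {k : ℕ} (hP : Nat.card ↥P = 11 ^ k) : k ≤ 3 := by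
  by_contra hk
  have := (pow_dvd_pow 11 (Nat.not_le.1 hk)).trans (hP ▸ card_Gsub ▸ Subgroup.card_subgroup_dvd_card P)
  norm_num at this

theorem Z_central {a : ↥Gsub} (ha : a ∈ U0) : Commute a uHeis.Z := by
  obtain ⟨i, j, k, rfl⟩ := ha
  rw [show uHeis.Z = uHeis.el 0 0 1 by rw [uHeis.el_Z, show (1 : Z11).val = 1 from rfl, pow_one],
    Commute, SemiconjBy, uHeis.el_mul, uHeis.el_mul]
  congr 1 <;> ring

theorem tvMat_cube : ∀ (a : Bool) (c : ZMod 3), tvMat a c ^ 3 = 1 := by decide +kernel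

theorem two_ne_zero_Z11 : (2 : Z11) ≠ 0 := by decide +kernel

/-- The transvection images and their products fix the central element. -/
theorem sl_cent (ψ : GL (Fin 2) (ZMod 3) →* ↥Gsub) (hle : ψ.range ≤ Subgroup.normalizer (U0 : Set Gsub))
    (m : Matrix.SpecialLinearGroup (Fin 2) (ZMod 3)) : Commute (ψ (Matrix.SpecialLinearGroup.toGL m)) uHeis.Z := by
  let χ : Matrix.SpecialLinearGroup (Fin 2) (ZMod 3) →* ↥Gsub := ψ.comp Matrix.SpecialLinearGroup.toGL
  show Commute (χ m) uHeis.Z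
  have htv : ∀ a c, (tvMat a c).det = 1 := by
    intro a c
    cases a <;> simp [tvMat, Matrix.det_fin_two_of]
  let T : Bool → ZMod 3 → Matrix.SpecialLinearGroup (Fin 2) (ZMod 3) := fun a c => ⟨tvMat a c, htv a c⟩
  have hT : ∀ a c, Commute (χ (T a c)) uHeis.Z := by
    intro a c
    have h3 : T a c ^ 3 = 1 := by
      refine Subtype.ext ?_
      rw [Matrix.SpecialLinearGroup.coe_pow]
      exact tvMat_cube a c
    have hn : χ (T a c) ∈ Subgroup.normalizer (U0 : Set Gsub) := hle ⟨_, rfl⟩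
    obtain ⟨k, hk, -⟩ := Z_conj_mem hn
    rw [uHeis.el_Z] at hk
    set n := χ (T a c)
    have hn3 : n ^ 3 = 1 := by rw [← map_pow, h3, map_one]
    have e2 : n ^ 2 * uHeis.Z * (n ^ 2)⁻¹ = uHeis.Z ^ (k.val * k.val) := by
      calc n ^ 2 * uHeis.Z * (n ^ 2)⁻¹ = n * (n * uHeis.Z * n⁻¹) * n⁻¹ := by rw [pow_two]; group
        _ = (n * uHeis.Z * n⁻¹) ^ k.val := by rw [conj_pow, ← hk]
        _ = _ := by rw [hk, ← pow_mul]
    have e3 : n ^ 3 * uHeis.Z * (n ^ 3)⁻¹ = uHeis.Z ^ (k.val * k.val * k.val) := by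
      calc n ^ 3 * uHeis.Z * (n ^ 3)⁻¹ = n * (n ^ 2 * uHeis.Z * (n ^ 2)⁻¹) * n⁻¹ := by rw [pow_succ' n 2]; group
        _ = (n * uHeis.Z * n⁻¹) ^ (k.val * k.val) := by rw [e2, conj_pow]
        _ = _ := by rw [hk, ← pow_mul]; ring_nf
    rw [hn3, one_mul, inv_one, mul_one] at e3
    have ho : orderOf uHeis.Z = 11 := orderOf_eq_prime uHeis.hZ uHeis.hZ1
    have hmod : k.val * k.val * k.val % 11 = 1 := by
      have h' : uHeis.Z ^ 1 = uHeis.Z ^ (k.val * k.val * k.val) := by rw [pow_one]; exact e3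
      rw [pow_eq_pow_iff_modEq, ho] at h'
      exact h'.symm
    have hk1 : k.val = 1 := by
      have : ∀ v < 11, v * v * v % 11 = 1 → v = 1 := by decide
      exact this _ k.val_lt hmod
    rw [hk1, pow_one] at hk
    exact mul_inv_eq_iff_eq_mul.1 hk
  obtain ⟨s, t, u, v, hst⟩ := sl_generated (m.1 0 0) (m.1 0 1) (m.1 1 0) (m.1 1 1)
    (by rw [← Matrix.det_fin_two]; exact m.2)
  have hm : m = T true s * T false t * T true u * T false v := by
    refine Subtype.ext ?_
    show m.1 = tvMat true s * tvMat false t * tvMat true u * tvMat false v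
    rw [show tvMat true s * tvMat false t * tvMat true u * tvMat false v = fourTv s t u v from rfl, hst]
    exact Matrix.eta_fin_two m.1
  rw [hm, map_mul, map_mul, map_mul]
  exact (((hT _ _).mul_left (hT _ _)).mul_left (hT _ _)).mul_left (hT _ _)

include hS in
/-- The centralizer of the central element lies in the normalizer and is a semidirect product with `SL(2,3)`. -/
theorem cent_Z_structure : Nat.card ↥(Subgroup.centralizer ({uHeis.Z} : Set ↥Gsub)) = 31944 ∧
    Subgroup.centralizer ({uHeis.Z} : Set ↥Gsub) ≤ Subgroup.normalizer (U0 : Set Gsub) ∧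
    ∃ χ : Matrix.SpecialLinearGroup (Fin 2) (ZMod 3) →* ↥Gsub, Function.Injective χ ∧
      ∀ m, χ m ∈ Subgroup.centralizer ({uHeis.Z} : Set ↥Gsub) := by
  haveI : Fact (Nat.Prime 11) := fact_prime_11
  have hZo : orderOf uHeis.Z = 11 := orderOf_eq_prime uHeis.hZ uHeis.hZ1
  obtain ⟨ψ, hψ, hle⟩ := exists_glHom
  let χ : Matrix.SpecialLinearGroup (Fin 2) (ZMod 3) →* ↥Gsub := ψ.comp Matrix.SpecialLinearGroup.toGL
  have hχ : Function.Injective χ := hψ.comp fun a b e => Subtype.ext (congrArg Units.val e)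
  set C := Subgroup.centralizer ({uHeis.Z} : Set ↥Gsub)
  have hχC : ∀ m, χ m ∈ C := fun m => Subgroup.mem_centralizer_singleton_iff.2 (sl_cent ψ hle m).eq
  set D := C ⊓ Subgroup.normalizer (U0 : Set Gsub)
  have hUD : U0 ≤ D := le_inf (fun a ha => Subgroup.mem_centralizer_singleton_iff.2 (Z_central ha).eq)
    Subgroup.le_normalizer
  have hKD : χ.range ≤ D := by
    rintro _ ⟨m, rfl⟩
    exact ⟨hχC m, hle ⟨_, rfl⟩⟩
  have hlow : 31944 ∣ Nat.card ↥D := by
    have h1 : 1331 ∣ Nat.card ↥D := by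
      have := Subgroup.card_dvd_of_le hUD
      rwa [card_U0] at this
    have h2 : 24 ∣ Nat.card ↥D := by
      have := Subgroup.card_dvd_of_le hKD
      rwa [← Nat.card_congr (MonoidHom.ofInjective hχ).toEquiv,
        show Nat.card (Matrix.SpecialLinearGroup (Fin 2) (ZMod 3)) = 24 by
          rw [Nat.card_eq_fintype_card]; decide +kernel] at this
    exact Nat.Coprime.mul_dvd_of_dvd_of_dvd (by norm_num : Nat.Coprime 1331 24) h1 h2
  have hup : Nat.card ↥C ∣ 31944 := by
    refine card_dvd_of_parts fun p k hp hk P hPC hP => ?_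
    have hpd : p ∣ Nat.card ↥C := ((dvd_pow_self p hk.ne').trans (dvd_of_eq hP.symm)).trans (Subgroup.card_dvd_of_le hPC)
    have hc : ∀ a ∈ P, Commute a uHeis.Z := fun a ha => Subgroup.mem_centralizer_singleton_iff.1 (hPC ha)
    rcases prime_cases_cent hS hZo hp hpd with rfl | rfl | rfl
    · exact (two_part hS hZo hP hc).1.trans (by norm_num)
    · exact (three_part hS hZo hP hc).1.trans (by norm_num)
    · exact (pow_dvd_pow 11 (eleven_pow_le hP)).trans (by norm_num)
  have hDC : Nat.card ↥C ≤ Nat.card ↥D :=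
    (Nat.le_of_dvd (by norm_num) hup).trans (Nat.le_of_dvd Nat.card_pos hlow)
  have heq : D = C := Subgroup.eq_of_le_of_card_ge inf_le_left hDC
  exact ⟨Nat.dvd_antisymm hup (heq ▸ hlow), heq ▸ inf_le_right, χ, hχ, hχC⟩

include hS in
/-- The seven classes of elements of order prime to 11 centralizing `Z`. -/
theorem numCls_cent_Z :
    NumCls (OnlyP (Γ := ↥(Subgroup.centralizer ({uHeis.Z} : Set ↥Gsub))) [7, 5, 3, 2]) 7 := by
  classical
  haveI : Fact (Nat.Prime 11) := fact_prime_11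
  obtain ⟨hC, hN, χ, hχ, hχC⟩ := cent_Z_structure hS
  set C := Subgroup.centralizer ({uHeis.Z} : Set ↥Gsub)
  let χ' : Matrix.SpecialLinearGroup (Fin 2) (ZMod 3) →* ↥C := χ.codRestrict C hχC
  have hχ' : Function.Injective χ' := fun a b e => hχ (congrArg Subtype.val e)
  let U : Subgroup ↥C := U0.subgroupOf C
  haveI hUn : U.Normal := ⟨fun a ha c => by
    rw [Subgroup.mem_subgroupOf] at ha ⊢
    exact (Subgroup.mem_normalizer_iff.1 (hN c.2) a).1 ha⟩
  have hUC : U0 ≤ C := fun a ha => Subgroup.mem_centralizer_singleton_iff.2 (Z_central ha).eq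
  have hUcard : Nat.card ↥U = 1331 := by
    rw [Nat.card_congr (Subgroup.subgroupOfEquivOfLe hUC).toEquiv, card_U0]; norm_num
  have hQ : Nat.card (↥C ⧸ U) = 24 := by
    have h := Subgroup.card_eq_card_quotient_mul_card_subgroup U
    rw [hC, hUcard] at h
    omega
  have hSL : Nat.card (Matrix.SpecialLinearGroup (Fin 2) (ZMod 3)) = 24 := by
    rw [Nat.card_eq_fintype_card]; decide +kernel
  let f : ↥C →* ↥C ⧸ U := QuotientGroup.mk' U
  let K : Subgroup ↥C := χ'.range
  have hKcard : Nat.card ↥K = 24 := (Nat.card_congr (MonoidHom.ofInjective hχ').toEquiv).symm.trans hSL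
  have hKU : ∀ a ∈ K, f a = 1 → a = 1 := fun a ha h => by
    have h1 : orderOf a ∣ 24 := hKcard ▸ Subgroup.orderOf_dvd_natCard K ha
    have h2 : orderOf a ∣ 1331 := hUcard ▸ Subgroup.orderOf_dvd_natCard U ((QuotientGroup.eq_one_iff a).1 h)
    exact orderOf_eq_one_iff.1 (Nat.eq_one_of_dvd_one ((Nat.dvd_gcd h1 h2).trans (by norm_num)))
  have hinj : ∀ a ∈ K, ∀ b ∈ K, f a = f b → a = b := fun a ha b hb e => by
    refine inv_mul_eq_one.1 (hKU _ (mul_mem (inv_mem ha) hb) ?_)
    rw [map_mul, map_inv, e, inv_mul_cancel]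
  have hsurj : ∀ q, ∃ a ∈ K, f a = q := by
    intro q
    have hi : Function.Injective (fun a : ↥K => f a) := fun a b e => Subtype.ext (hinj a a.2 b b.2 e)
    obtain ⟨a, ha⟩ := (hi.bijective_of_nat_card_le (by rw [hQ, hKcard])).2 q
    exact ⟨a, a.2, ha⟩
  have hKidx : K.index = 1331 := by
    have h := Subgroup.card_mul_index K
    rw [hKcard, hC] at h
    omega
  refine NumCls.of_retract (K := K) (numCls_slTwoThree.only_map (MonoidHom.ofInjective hχ')) f hinj hsurj
    fun x hx => ?_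
  have h11 : ¬ 11 ∣ orderOf x := not_dvd_of_onlyP (by norm_num) (by decide) hx
  have hd : orderOf x ∣ 2 ^ 3 * 3 := by
    have h1 : orderOf x ∣ 24 * 1331 := (orderOf_dvd_natCard x).trans (dvd_of_eq (hC.trans (by norm_num)))
    exact (Nat.Coprime.pow_right 3 (((show Nat.Prime 11 by norm_num).coprime_iff_not_dvd.2 h11).symm)).dvd_of_dvd_mul_right
      (show orderOf x ∣ 24 * 11 ^ 3 from h1)
  have hpp : ∀ {p : ℕ} [Fact p.Prime] {n : ℕ} {y : ↥C}, p ≠ 11 → orderOf y = p ^ n →
      ∃ c : ↥C, c * y * c⁻¹ ∈ K := by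
    intro p _ n y hp hy
    obtain ⟨c, hc⟩ := exists_conj_le_prime K (p := p) (by
      rw [hKidx, show (1331 : ℕ) = 11 ^ 3 by norm_num]
      exact fun h => hp ((Nat.prime_dvd_prime_iff_eq Fact.out (by norm_num)).1
        ((Fact.out : p.Prime).dvd_of_dvd_pow h)))
      (IsPGroup.of_card (G := ↥(Subgroup.zpowers y)) (n := n) (by rw [Nat.card_zpowers, hy]))
    exact ⟨c, hc y (Subgroup.mem_zpowers y)⟩
  haveI : Fact (Nat.Prime 2) := ⟨Nat.prime_two⟩
  haveI : Fact (Nat.Prime 3) := ⟨Nat.prime_three⟩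
  obtain ⟨d1, d2, hd1, hd2, hd12⟩ := Nat.dvd_mul.1 hd
  obtain ⟨i, -, rfl⟩ := (Nat.dvd_prime_pow Nat.prime_two).1 hd1
  rcases (Nat.dvd_prime Nat.prime_three).1 hd2 with rfl | rfl
  · rw [mul_one] at hd12
    obtain ⟨c, hc⟩ := hpp (p := 2) (y := x) (by norm_num) hd12.symm
    exact ⟨_, hc, isConj_iff.2 ⟨c, rfl⟩⟩
  · have hy : orderOf (x ^ 2 ^ i) = 3 ^ 1 := by
      rw [orderOf_pow_of_dvd (by positivity) (hd12 ▸ Dvd.intro 3 rfl), ← hd12, Nat.mul_div_cancel_left _ (by positivity),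
        pow_one]
    obtain ⟨c, hc⟩ := hpp (p := 3) (by norm_num) hy
    set x' := c * x * c⁻¹ with hx'
    set a := x' ^ 2 ^ i with ha
    have haK : a ∈ K := by rwa [ha, hx', conj_pow]
    let E := Subgroup.centralizer ({a} : Set ↥C)
    -- in the centralizer of the part of order 3 the complement has index prime to 2
    have hidx : ¬ 2 ∣ (K.subgroupOf E).index := by
      intro h2
      let g : ↥E →* ↥C ⧸ U := f.comp E.subtype
      have hker : g.ker ⊔ K.subgroupOf E = ⊤ := by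
        refine eq_top_iff.2 fun d _ => ?_
        obtain ⟨b, hb, hbd⟩ := hsurj (f d)
        have hbE : b ∈ E := by
          rw [Subgroup.mem_centralizer_singleton_iff]
          refine hinj _ (mul_mem hb haK) _ (mul_mem haK hb) ?_
          rw [map_mul, map_mul, hbd, ← map_mul, ← map_mul, Subgroup.mem_centralizer_singleton_iff.1 d.2]
        have h1 : d * (⟨b, hbE⟩ : ↥E)⁻¹ ∈ g.ker := by
          rw [MonoidHom.mem_ker, map_mul, map_inv]
          show f (d : ↥C) * (f b)⁻¹ = 1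
          rw [hbd, mul_inv_cancel]
        have := Subgroup.mul_mem_sup h1 (Subgroup.mem_subgroupOf.2 (show ((⟨b, hbE⟩ : ↥E) : ↥C) ∈ K from hb))
        rwa [inv_mul_cancel_right] at this
      have hdvd : (K.subgroupOf E).index ∣ Nat.card ↥g.ker := by
        have hr : g.ker.index = g.ker.relIndex (K.subgroupOf E) := by
          rw [← Subgroup.relIndex_top_right, ← hker, Subgroup.relIndex_sup_left]
        have h3 : g.ker.index ∣ Nat.card ↥(K.subgroupOf E) := hr ▸ Subgroup.relIndex_dvd_card _ _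
        refine Nat.dvd_of_mul_dvd_mul_right (Nat.card_pos (α := ↥(K.subgroupOf E))) ?_
        rw [Subgroup.index_mul_card, ← g.ker.index_mul_card, mul_comm]
        exact mul_dvd_mul_left _ h3
      have h1331 : Nat.card ↥g.ker ∣ 1331 := by
        rw [← hUcard]
        refine Subgroup.card_dvd_of_injective ((E.subtype.comp g.ker.subtype).codRestrict U fun d =>
          (QuotientGroup.eq_one_iff _).1 d.2) fun p q e => ?_
        have e' := congrArg Subtype.val e
        exact Subtype.ext (Subtype.ext e')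
      have := (h2.trans hdvd).trans h1331
      norm_num at this
    have hxE : x' ∈ E := Subgroup.mem_centralizer_singleton_iff.2 ((Commute.self_pow x' _).eq)
    have ho : orderOf ((⟨x', hxE⟩ : ↥E) ^ 3) = 2 ^ i := by
      have e : orderOf (⟨x', hxE⟩ : ↥E) = 2 ^ i * 3 := by
        rw [Subgroup.orderOf_mk, hx', orderOf_conj_eq, hd12]
      rw [orderOf_pow_of_dvd (by norm_num) (e ▸ Dvd.intro_left _ rfl), e, Nat.mul_div_cancel _ (by norm_num)]
    obtain ⟨d, hd'⟩ := exists_conj_le_prime (K.subgroupOf E) hidx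
      (IsPGroup.of_card (p := 2) (G := ↥(Subgroup.zpowers ((⟨x', hxE⟩ : ↥E) ^ 3))) (n := i) (by rw [Nat.card_zpowers, ho]))
    have h3K : (d : ↥C) * x' ^ 3 * (d : ↥C)⁻¹ ∈ K := Subgroup.mem_subgroupOf.1 (hd' _ (Subgroup.mem_zpowers _))
    have h2K : (d : ↥C) * x' ^ (2 ^ i) * (d : ↥C)⁻¹ ∈ K := by
      rw [← ha, Subgroup.mem_centralizer_singleton_iff.1 d.2, mul_inv_cancel_right]
      exact haK
    refine ⟨(d : ↥C) * x' * (d : ↥C)⁻¹, ?_, isConj_iff.2 ⟨(d : ↥C) * c, by rw [hx']; group⟩⟩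
    rw [← conj_pow] at h3K h2K
    set w := (d : ↥C) * x' * (d : ↥C)⁻¹
    have hcop : ((2 ^ i : ℕ) : ℤ).gcd 3 = 1 := by
      rw [show ((3 : ℤ)) = ((3 : ℕ) : ℤ) from rfl, Int.gcd_natCast_natCast]
      exact Nat.Coprime.pow_left i (by norm_num)
    obtain ⟨s, t, hst⟩ := (Int.isCoprime_iff_gcd_eq_one.2 hcop)
    have : w = (w ^ (2 ^ i)) ^ s * (w ^ 3) ^ t := by
      rw [← zpow_natCast w (2 ^ i), ← zpow_natCast w 3, ← zpow_mul, ← zpow_mul, ← zpow_add,
        show ((2 ^ i : ℕ) : ℤ) * s + ((3 : ℕ) : ℤ) * t = 1 by rw [← hst]; push_cast; ring, zpow_one]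
    rw [this]
    exact mul_mem (zpow_mem h2K _) (zpow_mem h3K _)

include hS in
/-- No conjugate of `A` commutes with the central involution. -/
theorem A_not_central (g : ↥Gsub) : ¬ Commute (g * uHeis.A * g⁻¹) z := by
  intro hA
  haveI : Fact (Nat.Prime 11) := fact_prime_11
  haveI : Fact (Nat.Prime 3) := ⟨Nat.prime_three⟩
  obtain ⟨hAo, hZo, hne, -⟩ := two_classes
  obtain ⟨hC, -, -⟩ := cent_Z_structure hS
  obtain ⟨y, hy⟩ := exists_prime_orderOf_dvd_card' (G := ↥(Subgroup.centralizer ({uHeis.Z} : Set ↥Gsub))) 3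
    (by rw [hC]; norm_num)
  obtain ⟨g', hg'⟩ := hS.facts.three (y : ↥Gsub) (by rw [Subgroup.orderOf_coe, hy])
  have hZ : Commute (g' * uHeis.Z * g'⁻¹) z := hg' _ (Subgroup.mem_centralizer_singleton_iff.1 y.2).symm
  obtain ⟨c, k, e⟩ := hS.facts.one _ _ (by rw [orderOf_conj_eq, hZo]) (by rw [orderOf_conj_eq, hAo]) hZ hA
  refine hne ?_
  have h1 : IsConj (uHeis.Z ^ k) uHeis.A := by
    refine isConj_iff.2 ⟨g⁻¹ * c * g', ?_⟩
    rw [conj_pow] at e
    calc g⁻¹ * c * g' * uHeis.Z ^ k * (g⁻¹ * c * g')⁻¹ = g⁻¹ * (c * (g' * uHeis.Z ^ k * g'⁻¹) * c⁻¹) * g := by group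
      _ = uHeis.A := by rw [e]; group
  have hk : ((k : ℕ) : Z11) ≠ 0 := by
    intro h
    have h11 : 11 ∣ k := (ZMod.natCast_eq_zero_iff _ _).1 h
    obtain ⟨d, rfl⟩ := h11
    rw [pow_mul, uHeis.hZ, one_pow] at h1
    rw [isConj_one_right.1 h1, orderOf_one] at hAo
    norm_num at hAo
  have h2 := isConj_Z hk
  rw [uHeis.el_Z, Heis.pow_val uHeis.hZ] at h2
  exact (h2.trans h1).symm

/-- `A` is not conjugate to a power of `Z`. -/
theorem A_not_Z (g : ↥Gsub) (k : Z11) : g * uHeis.A * g⁻¹ ≠ uHeis.Z ^ k.val := by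
  obtain ⟨hAo, -, hne, -⟩ := two_classes
  intro e
  by_cases hk : k = 0
  · rw [hk, ZMod.val_zero, pow_zero, conj_eq_one_iff] at e
    rw [e, orderOf_one] at hAo
    norm_num at hAo
  · have h := isConj_Z hk
    rw [uHeis.el_Z] at h
    exact hne ((isConj_iff.2 ⟨g, e⟩ : IsConj uHeis.A (uHeis.Z ^ k.val)).trans h.symm)

include hS in
/-- An involution centralizes a conjugate of `A`. -/
theorem exists_invol_cent_A : ∃ t : ↥Gsub, orderOf t = 2 ∧ ∃ A' : ↥Gsub, IsConj uHeis.A A' ∧ Commute t A' := by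
  classical
  haveI : Fact (Nat.Prime 2) := ⟨Nat.prime_two⟩
  set N := Subgroup.normalizer (U0 : Set Gsub)
  let F : ↥Gsub → Z11 × Z11 := fun n => uHeis.chi (n * uHeis.A * n⁻¹)
  have hFmul : ∀ a ∈ N, ∀ c ∈ N, F (a * c) =
      (act a 0 0 * (F c).1 + act a 0 1 * (F c).2, act a 1 0 * (F c).1 + act a 1 1 * (F c).2) := by
    intro a ha c hc
    obtain ⟨i, j, k, e⟩ := (Subgroup.mem_normalizer_iff.1 hc uHeis.A).1
      (by rw [← uHeis.el_A]; exact uHeis.el_mem _ _ _)
    show uHeis.chi (a * c * uHeis.A * (a * c)⁻¹) = _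
    rw [show a * c * uHeis.A * (a * c)⁻¹ = a * (c * uHeis.A * c⁻¹) * a⁻¹ by group, ← e, chi_conj ha]
    simp only [F]
    rw [← e, uHeis.chi_el]
  have hF1 : F 1 = (1, 0) := by
    show uHeis.chi (1 * uHeis.A * 1⁻¹) = _
    rw [one_mul, inv_one, mul_one, ← uHeis.el_A, uHeis.chi_el]
  have hdiv : ∀ a ∈ N, ∀ b ∈ N, F a = F b → F (a⁻¹ * b) = (1, 0) := by
    intro a ha b hb e
    rw [hFmul _ (inv_mem ha) _ hb, ← e, ← hFmul _ (inv_mem ha) _ ha, inv_mul_cancel, hF1]
  have hmul : ∀ a ∈ N, ∀ c ∈ N, F c = (1, 0) → F (a * c) = F a := by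
    intro a ha c hc e
    rw [hFmul _ ha _ hc, e, ← hF1, ← hFmul _ ha _ (one_mem N), mul_one]
  let S : Subgroup ↥Gsub :=
    { carrier := {c | c ∈ N ∧ F c = (1, 0)}
      one_mem' := ⟨one_mem _, hF1⟩
      mul_mem' := fun {a b} ha hb => ⟨mul_mem ha.1 hb.1, (hmul a ha.1 b hb.1 hb.2).trans ha.2⟩
      inv_mem' := fun {a} ha => ⟨inv_mem ha.1, by
        have h := hdiv a ha.1 1 (one_mem N) (ha.2.trans hF1.symm)
        rwa [mul_one] at h⟩ }
  have hcount := JankoFour.ncard_image_mul_card (H := N) (K := S) (fun c hc => hc.1) F fun a ha b hb =>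
    ⟨fun e => ⟨mul_mem (inv_mem ha) hb, hdiv a ha b hb e⟩, fun h => by
      have := hmul a ha _ h.1 h.2
      rw [mul_inv_cancel_left] at this
      exact this.symm⟩
  have himg : F '' (N : Set ↥Gsub) = {v | v ≠ (0, 0)} := by
    ext ⟨i, j⟩
    constructor
    · rintro ⟨n, hn, e⟩ h0
      obtain ⟨a, b, k, hk⟩ := (Subgroup.mem_normalizer_iff.1 hn uHeis.A).1
        (by rw [← uHeis.el_A]; exact uHeis.el_mem _ _ _)
      change uHeis.chi (n * uHeis.A * n⁻¹) = (i, j) at e
      rw [← hk, uHeis.chi_el, h0] at e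
      obtain ⟨rfl, rfl⟩ := Prod.mk.inj e
      refine A_not_Z n k ?_
      rw [← hk, uHeis.el_Z]
    · intro hv
      have he : 11 * i.val + j.val < 121 := by have := i.val_lt; have := j.val_lt; omega
      have he0 : 11 * i.val + j.val ≠ 0 := by
        intro e
        refine hv ?_
        have hi : i.val = 0 := by omega
        have hj : j.val = 0 := by omega
        rw [ZMod.val_eq_zero] at hi hj
        rw [hi, hj]
      obtain ⟨g, hg, k', hk⟩ := orbit_code _ _ he he0 rfl
      refine ⟨g, hg, ?_⟩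
      show uHeis.chi (g * uHeis.A * g⁻¹) = _
      rw [hk, uHeis.chi_el, show (11 * i.val + j.val) / 11 = i.val by have := j.val_lt; omega,
        show (11 * i.val + j.val) % 11 = j.val by have := j.val_lt; omega, ZMod.natCast_zmod_val,
        ZMod.natCast_zmod_val]
  have h120 : (F '' (N : Set ↥Gsub)).ncard = 120 := by
    rw [himg, show {v : Z11 × Z11 | v ≠ (0, 0)} = ({((0 : Z11), (0 : Z11))} : Set (Z11 × Z11))ᶜ from rfl,
      Set.ncard_compl, Set.ncard_singleton, Nat.card_prod, Nat.card_zmod]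
  rw [h120, hS.card_N] at hcount
  obtain ⟨t, ht⟩ := exists_prime_orderOf_dvd_card' (G := ↥S) 2 (by
    rw [show Nat.card ↥S = 2662 by omega]; norm_num)
  refine ⟨t, by rw [Subgroup.orderOf_coe, ht], ?_⟩
  obtain ⟨htN, htF⟩ := t.2
  obtain ⟨i, j, k, e⟩ := (Subgroup.mem_normalizer_iff.1 htN uHeis.A).1
    (by rw [← uHeis.el_A]; exact uHeis.el_mem _ _ _)
  change uHeis.chi ((t : ↥Gsub) * uHeis.A * (t : ↥Gsub)⁻¹) = _ at htF
  rw [← e, uHeis.chi_el] at htF
  obtain ⟨rfl, rfl⟩ := Prod.mk.inj htF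
  refine ⟨uHeis.A * uHeis.el 1 0 k, ?_, ?_⟩
  · rw [← uHeis.el_A, uHeis.el_mul, uHeis.el_A]
    exact isConj_A (Or.inl (by decide))
  · have htt : (t : ↥Gsub)⁻¹ = t := by
      refine inv_eq_of_mul_eq_one_right ?_
      rw [← pow_two, ← Subgroup.coe_pow, ← ht, pow_orderOf_eq_one, Subgroup.coe_one]
    have hback : (t : ↥Gsub) * uHeis.el 1 0 k * (t : ↥Gsub)⁻¹ = uHeis.A := by
      rw [e]
      calc (t : ↥Gsub) * ((t : ↥Gsub) * uHeis.A * (t : ↥Gsub)⁻¹) * (t : ↥Gsub)⁻¹
          = (t : ↥Gsub) * t * uHeis.A * ((t : ↥Gsub) * t)⁻¹ := by group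
        _ = uHeis.A := by
          rw [show (t : ↥Gsub) * t = 1 by nth_rewrite 1 [← htt]; exact inv_mul_cancel _]
          group
    refine mul_inv_eq_iff_eq_mul.1 ?_
    rw [← conj_mul, hback, ← e]
    rw [← uHeis.el_A, uHeis.el_mul, uHeis.el_mul]
    congr 1
    ring

include hS in
/-- The centralizer of `A` has order 242. -/
theorem card_cent_A : Nat.card ↥(Subgroup.centralizer ({uHeis.A} : Set ↥Gsub)) = 242 := by
  classical
  haveI : Fact (Nat.Prime 11) := fact_prime_11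
  obtain ⟨hAo, -, -, -⟩ := two_classes
  set C := Subgroup.centralizer ({uHeis.A} : Set ↥Gsub)
  have hup : Nat.card ↥C ∣ 242 := by
    refine card_dvd_of_parts fun p k hp hk P hPC hP => ?_
    have hpd : p ∣ Nat.card ↥C :=
      ((dvd_pow_self p hk.ne').trans (dvd_of_eq hP.symm)).trans (Subgroup.card_dvd_of_le hPC)
    have hc : ∀ a ∈ P, Commute a uHeis.A := fun a ha => Subgroup.mem_centralizer_singleton_iff.1 (hPC ha)
    rcases prime_cases_cent hS hAo hp hpd with rfl | rfl | rfl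
    · rcases (two_part hS hAo hP hc).2 with h | ⟨g, hg⟩
      · exact h.trans (by norm_num)
      · exact absurd hg (A_not_central hS g)
    · rcases (three_part hS hAo hP hc).2 with rfl | ⟨g, hg⟩
      · exact absurd hk (lt_irrefl 0)
      · exact absurd hg (A_not_central hS g)
    · rcases Nat.lt_or_ge k 3 with h | h
      · exact (pow_dvd_pow 11 (show k ≤ 2 by omega)).trans (by norm_num)
      · exfalso
        obtain rfl : k = 3 := le_antisymm (eleven_pow_le hP) h
        obtain ⟨S1, hS1⟩ := (IsPGroup.of_card hP).exists_le_sylow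
        obtain ⟨S2, hS2⟩ := (IsPGroup.of_card (n := 3) card_U0).exists_le_sylow
        have hfull : ∀ {V : Subgroup ↥Gsub}, Nat.card ↥V = 11 ^ 3 → ∀ {Q : Sylow 11 ↥Gsub},
            V ≤ (Q : Subgroup ↥Gsub) → V = (Q : Subgroup ↥Gsub) := by
          intro V hV Q hle
          obtain ⟨n, hn⟩ := IsPGroup.iff_card.1 Q.isPGroup'
          exact Subgroup.eq_of_le_of_card_ge hle
            (by rw [hn, hV]; exact Nat.pow_le_pow_right (by norm_num) (eleven_pow_le hn))
        have hP1 := hfull hP hS1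
        have hU2 := hfull card_U0 hS2
        obtain ⟨g, hg⟩ := MulAction.exists_smul_eq ↥Gsub S1 S2
        have hmap : ∀ a ∈ P, g * a * g⁻¹ ∈ U0 := fun a ha => by
          rw [hU2, ← hg]
          exact ⟨a, hP1 ▸ ha, rfl⟩
        have hAP : uHeis.A ∈ P := by
          have hnorm : Subgroup.zpowers uHeis.A ≤ Subgroup.normalizer (P : Set ↥Gsub) := by
            rw [Subgroup.zpowers_le, Subgroup.mem_normalizer_iff]
            intro b
            constructor
            · intro hb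
              rwa [← (hc b hb).eq, mul_inv_cancel_right]
            · intro hb
              have e := (hc _ hb).eq
              rwa [show b = uHeis.A * b * uHeis.A⁻¹ by
                rw [inv_mul_cancel_right] at e
                exact mul_left_cancel e]
          obtain ⟨S3, hS3⟩ := ((IsPGroup.of_card (p := 11) (n := 1) (G := ↥(Subgroup.zpowers uHeis.A))
            (by rw [Nat.card_zpowers, hAo, pow_one])).to_sup_of_normal_right' (IsPGroup.of_card hP) hnorm).exists_le_sylow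
          rw [hfull hP (le_sup_right.trans hS3)]
          exact hS3 (Subgroup.mem_sup_left (Subgroup.mem_zpowers _))
        obtain ⟨i, j, l, e⟩ := hmap _ hAP
        have hback : ∀ b ∈ U0, Commute b (uHeis.el i j l) := by
          intro b hb
          obtain ⟨v, hv⟩ : ∃ v ∈ P, g * v * g⁻¹ = b := by
            have : b ∈ ((g • S1 : Sylow 11 ↥Gsub) : Subgroup ↥Gsub) := by rw [hg, ← hU2]; exact hb
            obtain ⟨v, hv, rfl⟩ := this
            exact ⟨v, hP1.symm ▸ hv, rfl⟩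
          rw [e, ← hv.2]
          exact commute_conj (hc v hv.1)
        have h1 := hback _ (uHeis.el_mem 0 1 0)
        have h2 := hback _ (uHeis.el_mem 1 0 0)
        simp only [Commute, SemiconjBy, uHeis.el_mul] at h1 h2
        have hi : i = 0 := by
          have := (uHeis.el_inj h1).2.2
          have h' : (2 : Z11) * i = 0 := by linear_combination this
          exact (mul_eq_zero.1 h').resolve_left two_ne_zero_Z11
        have hj : j = 0 := by
          have := (uHeis.el_inj h2).2.2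
          have h' : (2 : Z11) * j = 0 := by linear_combination -this
          exact (mul_eq_zero.1 h').resolve_left two_ne_zero_Z11
        rw [hi, hj, uHeis.el_Z] at e
        exact A_not_Z g l e.symm
  refine Nat.dvd_antisymm hup ?_
  have h121 : 121 ∣ Nat.card ↥C := by
    let φ : Multiplicative (Z11 × Z11) →* ↥C :=
      { toFun := fun v => ⟨uHeis.el (Multiplicative.toAdd v).1 0 (Multiplicative.toAdd v).2,
          Subgroup.mem_centralizer_singleton_iff.2 (by
            rw [← uHeis.el_A, uHeis.el_mul, uHeis.el_mul]; congr 1 <;> ring)⟩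
        map_one' := Subtype.ext uHeis.el_zero
        map_mul' := fun v w => Subtype.ext (by
          show uHeis.el _ 0 _ = uHeis.el _ 0 _ * uHeis.el _ 0 _
          rw [uHeis.el_mul]
          simp) }
    have hφ : Function.Injective φ := fun v w e => by
      obtain ⟨h1, -, h3⟩ := uHeis.el_inj (congrArg Subtype.val e)
      exact Multiplicative.toAdd.injective (Prod.ext h1 h3)
    have := Subgroup.card_dvd_of_injective φ hφ
    rwa [Nat.card_congr Multiplicative.toAdd, Nat.card_prod, Nat.card_zmod] at this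
  have h2 : 2 ∣ Nat.card ↥C := by
    obtain ⟨t, ht, A', hA', htA⟩ := exists_invol_cent_A hS
    obtain ⟨g, rfl⟩ := isConj_iff.1 hA'
    rw [← centralizer_conj_card g uHeis.A]
    exact ht ▸ Subgroup.orderOf_dvd_natCard _ (Subgroup.mem_centralizer_singleton_iff.2 htA.eq)
  exact Nat.Coprime.mul_dvd_of_dvd_of_dvd (by norm_num : Nat.Coprime 2 121) h2 h121

include hS in
/-- The two classes of elements of order prime to 11 centralizing `A`. -/
theorem numCls_cent_A :
    NumCls (OnlyP (Γ := ↥(Subgroup.centralizer ({uHeis.A} : Set ↥Gsub))) [7, 5, 3, 2]) 2 := by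
  haveI : Fact (Nat.Prime 2) := ⟨Nat.prime_two⟩
  have hC := card_cent_A hS
  obtain ⟨t, ht⟩ := exists_prime_orderOf_dvd_card'
    (G := ↥(Subgroup.centralizer ({uHeis.A} : Set ↥Gsub))) 2 (by rw [hC]; norm_num)
  have ht1 : t ≠ 1 := fun e => by rw [e, orderOf_one] at ht; norm_num at ht
  refine ⟨![1, t], fun i => ?_, fun i j h => ?_, fun x hx => ?_⟩
  · intro q hq hd
    match i with
    | 0 =>
      simp only [Matrix.cons_val_zero, orderOf_one] at hd
      exact absurd (Nat.eq_one_of_dvd_one hd) hq.one_lt.ne'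
    | 1 =>
      simp only [Matrix.cons_val_one, Matrix.cons_val_zero, ht] at hd
      simp [(Nat.prime_dvd_prime_iff_eq hq Nat.prime_two).1 hd]
  · match i, j with
    | 0, 0 => rfl
    | 0, 1 => exact absurd (isConj_one_right.1 (show IsConj 1 t from h)) ht1
    | 1, 0 => exact absurd (isConj_one_right.1 (show IsConj 1 t from (show IsConj t 1 from h).symm)) ht1
    | 1, 1 => rfl
  · have h11 : ¬ 11 ∣ orderOf x := not_dvd_of_onlyP (by norm_num) (by decide) hx
    have hd : orderOf x ∣ 2 := by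
      have h1 : orderOf x ∣ 2 * 11 ^ 2 := (orderOf_dvd_natCard x).trans (dvd_of_eq (hC.trans (by norm_num)))
      exact (Nat.Coprime.pow_right 2
        (((show Nat.Prime 11 by norm_num).coprime_iff_not_dvd.2 h11).symm)).dvd_of_dvd_mul_right h1
    rcases (Nat.dvd_prime Nat.prime_two).1 hd with h | h
    · exact ⟨0, by rw [orderOf_eq_one_iff.1 h]; exact IsConj.refl _⟩
    · obtain ⟨c, hc⟩ := exists_conj_le_prime (Subgroup.zpowers t) (p := 2) (by
        intro h2
        have h' := Subgroup.card_mul_index (Subgroup.zpowers t)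
        rw [Nat.card_zpowers, ht, hC] at h'
        rw [show (Subgroup.zpowers t).index = 121 by omega] at h2
        norm_num at h2)
        (IsPGroup.of_card (n := 1) (G := ↥(Subgroup.zpowers x)) (by rw [Nat.card_zpowers, h, pow_one]))
      refine ⟨1, isConj_iff.2 ⟨c, ?_⟩⟩
      obtain ⟨m, hm⟩ := Subgroup.mem_zpowers_iff.1 (hc x (Subgroup.mem_zpowers x))
      have hne : c * x * c⁻¹ ≠ 1 := fun e => by
        rw [conj_eq_one_iff.1 e, orderOf_one] at h; norm_num at h
      rcases Int.emod_two_eq_zero_or_one m with h0 | h1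
      · refine absurd ?_ hne
        rw [← hm, ← zpow_mod_orderOf, ht, Nat.cast_ofNat, h0, zpow_zero]
      · rw [← hm, ← zpow_mod_orderOf, ht, Nat.cast_ofNat, h1, zpow_one]
        rfl

end Cfsg.Lib.J4Classes
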