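import Cfsg.Agent.Lib.J4Classes.TwoDefs

/-!
# Kernel checks for the classes of 2-elements
-/

set_option autoImplicit false
set_option maxRecDepth 100000
set_option maxHeartbeats 0

namespace Cfsg.Lib.J4Classes

open Cfsg.Lib.J4Real Cfsg.Lib.Concrete Cfsg.Lib.FusionSys.MathieuCert

theorem fin_ok0 : finCheck 0 = true := by decide +kernel

theorem fin_ok1 : finCheck 1 = true := by decide +kernel

theorem fin_ok2 : finCheck 2 = true := by decide +kernel

theorem fin_ok3 : finCheck 3 = true := by decide +kernel

theorem fin_ok4 : finCheck 4 = true := by decide +kernel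

theorem fin_ok5 : finCheck 5 = true := by decide +kernel

theorem fin_ok6 : finCheck 6 = true := by decide +kernel

theorem fin_ok7 : finCheck 7 = true := by decide +kernel

theorem fin_ok8 : finCheck 8 = true := by decide +kernel

theorem fin_ok9 : finCheck 9 = true := by decide +kernel

theorem fins_ok : (List.range 10).all finCheck = true := by
  rw [List.all_eq_true]
  intro f hf
  rw [List.mem_range] at hf
  match f, hf with
  | 0, _ => exact fin_ok0
  | 1, _ => exact fin_ok1
  | 2, _ => exact fin_ok2
  | 3, _ => exact fin_ok3
  | 4, _ => exact fin_ok4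
  | 5, _ => exact fin_ok5
  | 6, _ => exact fin_ok6
  | 7, _ => exact fin_ok7
  | 8, _ => exact fin_ok8
  | 9, _ => exact fin_ok9
  | f + 10, hf => exact absurd hf (Nat.not_lt.2 (Nat.le_add_left 10 f))

end Cfsg.Lib.J4Classes
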