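import Cfsg.Agent.Lib.J4Classes.FiveDefs

/-!
# Kernel checks for the centralizer of an element of order 5
-/

set_option autoImplicit false
set_option maxRecDepth 100000
set_option maxHeartbeats 0

namespace Cfsg.Lib.J4Classes

theorem gens_five_ok : (List.range 3).all genFive = true := by decide +kernel

theorem blocks_five_ok : blocksSep = true := by decide +kernel

theorem y_five_ok : yFive = true := by decide +kernel

theorem table_five_ok : (List.range 1344).all tableFive = true := by decide +kernel

theorem label_five_ok : (List.range 1344).all labelFive = true := by decide +kernel

theorem ord_five_ok : (List.range 11).all ordFive = true := by decide +kernel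

theorem final_five_ok : finalFive = true := by decide +kernel

theorem gens_five_len : (Nat.beq fiveGens.length 3) = true := by decide +kernel

end Cfsg.Lib.J4Classes
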