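import Cfsg.Agent.Lib.J4Classes.Count
import Cfsg.Agent.Lib.J4Classes.LocalFacts
import Cfsg.Agent.Lib.J4Classes.FiveChecks

/-!
# The nine classes of elements of orders prime to 5 and 7 centralizing an element of order 5
-/

set_option autoImplicit false
set_option maxRecDepth 20000
set_option linter.style.haveILetI false

namespace Cfsg.Lib.J4Classes

open Cfsg.Lib.J4Real Cfsg.Lib.CosetEnum Cfsg.Lib.J4Pres

attribute [local irreducible] fKey fMul fPar fTree fBlock fiveMats fiveGens fiveY fPerm fPermInv fiveReps fiveOrds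
  fiveFinal g16 sameW walkW

theorem ne_of_not_beq {a b : ℕ} (h : (!Nat.beq a b) = true) : a ≠ b := fun e => by
  subst e; simp at h

/-- A permutation of fourteen points from a packed one. -/
noncomputable def permFourteen (p : ℕ) : Equiv.Perm (Fin 14) :=
  open Classical in if h : Function.Bijective (fun i : Fin 14 => Fin.ofNat 14 (g16 p i)) then Equiv.ofBijective _ h else 1

theorem gen_spec {j : ℕ} (hj : j < 3) :
    matCheck (fiveGens.getD j []) (fiveMats.getD j []) = true ∧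
      sameW (fiveGens.getD j [] ++ fiveY) (fiveY ++ fiveGens.getD j []) = true ∧ ∀ i < 14,
      g16 (fPerm j) i < 14 ∧ g16 (fPermInv j) i < 14 ∧ g16 (fPerm j) (g16 (fPermInv j) i) = i ∧
        g16 (fPermInv j) (g16 (fPerm j) i) = i ∧
        ∀ v ∈ fBlock i, v < 2 ^ 112 ∧ applyRows (fiveMats.getD j []) v ∈ fBlock (g16 (fPerm j) i) := by
  have h := List.all_eq_true.1 gens_five_ok j (List.mem_range.2 hj)
  simp only [genFive, Bool.and_eq_true, List.all_eq_true, List.mem_range, Nat.blt_eq, Nat.beq_eq, force_eq,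
    List.any_eq_true] at h
  refine ⟨h.1.1, h.1.2, fun i hi => ?_⟩
  obtain ⟨⟨⟨⟨h1, h2⟩, h3⟩, h4⟩, h5⟩ := h.2 i hi
  refine ⟨h1, h2, h3, h4, fun v hv => ⟨(h5 v hv).1, ?_⟩⟩
  obtain ⟨b, hb, e⟩ := (h5 v hv).2
  exact e ▸ hb

theorem permFourteen_apply {j : ℕ} (hj : j < 3) (i : Fin 14) :
    ((permFourteen (fPerm j) i : Fin 14) : ℕ) = g16 (fPerm j) i := by
  have hb : Function.Bijective (fun i : Fin 14 => Fin.ofNat 14 (g16 (fPerm j) i)) := by
    refine Finite.injective_iff_bijective.1 fun a b e => Fin.ext ?_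
    have e' := congrArg Fin.val e
    simp only [Fin.val_ofNat, Nat.mod_eq_of_lt ((gen_spec hj).2.2 a a.2).1,
      Nat.mod_eq_of_lt ((gen_spec hj).2.2 b b.2).1] at e'
    rw [← ((gen_spec hj).2.2 a a.2).2.2.2.1, e', ((gen_spec hj).2.2 b b.2).2.2.2.1]
  rw [permFourteen, dif_pos hb]
  show ((Fin.ofNat 14 (g16 (fPerm j) i)) : Fin 14).val = _
  rw [Fin.val_ofNat, Nat.mod_eq_of_lt ((gen_spec hj).2.2 i i.2).1]

/-- The generators paired with their actions. -/
noncomputable def pairGen (j : ℕ) : Equiv.Perm Vec × Equiv.Perm (Fin 14) :=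
  (wp (fiveGens.getD j []), permFourteen (fPerm j))

/-- The group of pairs. -/
noncomputable def pairGrp : Subgroup (Equiv.Perm Vec × Equiv.Perm (Fin 14)) :=
  Subgroup.closure {x | ∃ j < 3, pairGen j = x}

/-- A pair maps blocks to blocks. -/
def MapsBlocks (x : Equiv.Perm Vec × Equiv.Perm (Fin 14)) : Prop :=
  ∀ (i : Fin 14) (v : Vec), v.1 ∈ fBlock i → (x.1 v).1 ∈ fBlock (x.2 i)

theorem pair_maps {x : Equiv.Perm Vec × Equiv.Perm (Fin 14)} (hx : x ∈ pairGrp) : MapsBlocks x := by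
  induction hx using Subgroup.closure_induction with
  | mem y hy =>
    obtain ⟨j, hj, rfl⟩ := hy
    intro i v hv
    obtain ⟨hm, -, h⟩ := gen_spec hj
    show (wp _ v).1 ∈ fBlock _
    rw [mat_apply hm, pairGen, permFourteen_apply hj]
    exact ((h i i.2).2.2.2.2 _ hv).2
  | one => exact fun _ _ h => h
  | mul a b _ _ ha hb => exact fun i v h => ha _ _ (hb i v h)
  | inv a _ ha =>
    have hpow : ∀ n : ℕ, MapsBlocks (a ^ n) := by
      intro n
      induction n with
      | zero => exact fun _ _ h => h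
      | succ n ih => rw [pow_succ]; exact fun i v h => ih _ _ (ha i v h)
    haveI : Finite Vec := inferInstance
    obtain ⟨n, hn⟩ := (isOfFinOrder_of_finite a).mem_powers_iff_mem_zpowers.2
      (inv_mem (Subgroup.mem_zpowers a))
    exact (show a ^ n = a⁻¹ from hn) ▸ hpow n

theorem pair_snd_eq {x y : Equiv.Perm Vec × Equiv.Perm (Fin 14)} (hx : x ∈ pairGrp) (hy : y ∈ pairGrp)
    (h : x.1 = y.1) : x = y := by
  refine Prod.ext h (Equiv.ext fun i => ?_)
  have hs := blocks_five_ok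
  simp only [blocksSep, Bool.and_eq_true, List.all_eq_true, List.mem_range, Bool.or_eq_true, Nat.beq_eq,
    Nat.blt_eq] at hs
  by_contra hne
  -- the image of the first vector of the preimage block
  set k := x.2 i
  have hk := hs k k.2
  have hmem : (fBlock k).getD 0 0 ∈ fBlock k := by
    rw [List.getD_eq_getElem _ _ hk.1]; exact List.getElem_mem hk.1
  have hlt : (fBlock k).getD 0 0 < 2 ^ 112 :=
    (((gen_spec (show 0 < 3 by norm_num)).2.2 k k.2).2.2.2.2 _ hmem).1
  have h1 := pair_maps (inv_mem hx) k ⟨_, hlt⟩ hmem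
  have h2 := pair_maps hy _ _ h1
  rw [← h, show (x⁻¹).2 k = i from x.2.symm_apply_apply i] at h2
  have h3 : x.1 ((x⁻¹).1 ⟨_, hlt⟩) = ⟨_, hlt⟩ := x.1.apply_symm_apply _
  rw [h3] at h2
  rcases hk.2 (y.2 i) (y.2 i).2 with h4 | h4
  · exact hne (Fin.ext h4)
  · exact ne_of_not_beq (h4 _ h2) rfl

/-- The image on the fourteen blocks. -/
noncomputable def imgFive : Subgroup (Equiv.Perm (Fin 14)) :=
  Subgroup.closure {x | ∃ j < 2, permFourteen (fPerm j) = x}

theorem table_spec {n : ℕ} (hn : n < 1344) :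
    ((fMul n).1 < 1344 ∧ (fMul n).2.1 < 1344 ∧ (fMul n).2.2.1 < 1344 ∧ (fMul n).2.2.2 < 1344) ∧
    (n = 1343 ∨ fKey n < fKey (n + 1)) ∧
    (∀ i < 14, g16 (fKey (fMul n).1) i = g16 (fKey n) (g16 (fPerm 0) i) ∧
      g16 (fKey (fMul n).2.1) i = g16 (fKey n) (g16 (fPerm 1) i) ∧
      g16 (fKey (fMul n).2.2.1) i = g16 (fPerm 0) (g16 (fKey n) i) ∧
      g16 (fKey (fMul n).2.2.2) i = g16 (fPerm 1) (g16 (fKey n) i)) ∧
    (((fPar n).1 = 0 ∧ ∀ i < 14, g16 (fKey n) i = i) ∨
      ((fPar n).2.1 < 1344 ∧ (fPar n).2.2 < 2 ∧ (fPar (fPar n).2.1).1 < (fPar n).1 ∧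
        n = if (fPar n).2.2 = 0 then (fMul (fPar n).2.1).1 else (fMul (fPar n).2.1).2.1)) := by
  have h := List.all_eq_true.1 table_five_ok n (List.mem_range.2 hn)
  simp only [tableFive, Bool.and_eq_true, List.all_eq_true, List.mem_range, Nat.blt_eq, Nat.beq_eq,
    Bool.or_eq_true] at h
  obtain ⟨⟨⟨⟨⟨⟨h1, h2⟩, h3⟩, h4⟩, h5⟩, h6⟩, h7⟩ := h
  refine ⟨⟨h1, h2, h3, h4⟩, h5, fun i hi => ⟨(h6 i hi).1.1.1, (h6 i hi).1.1.2, (h6 i hi).1.2, (h6 i hi).2⟩, ?_⟩
  cases hp : Nat.beq (fPar n).1 0 with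
  | true =>
    simp only [hp, cond_true, List.all_eq_true, List.mem_range, Nat.beq_eq] at h7
    exact Or.inl ⟨Nat.eq_of_beq_eq_true hp, h7⟩
  | false =>
    simp only [hp, cond_false, Bool.and_eq_true, Nat.blt_eq, Nat.beq_eq] at h7
    refine Or.inr ⟨h7.1.1.1, h7.1.1.2, h7.1.2, ?_⟩
    cases hq : Nat.beq (fPar n).2.2 0 with
    | true => rw [if_pos (Nat.eq_of_beq_eq_true hq)]; simpa [hq] using h7.2
    | false =>
      rw [if_neg fun e => by rw [e] at hq; exact absurd hq (by simp)]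
      simpa [hq] using h7.2

/-- A permutation has a given packed form. -/
def HasKey (σ : Equiv.Perm (Fin 14)) (n : ℕ) : Prop := ∀ i : Fin 14, ((σ i : Fin 14) : ℕ) = g16 (fKey n) i

theorem hasKey_mul {σ : Equiv.Perm (Fin 14)} {n j : ℕ} (hn : n < 1344) (hj : j < 2) (h : HasKey σ n) :
    HasKey (σ * permFourteen (fPerm j)) (if j = 0 then (fMul n).1 else (fMul n).2.1) := by
  intro i
  obtain ⟨-, -, h6, -⟩ := table_spec hn
  rw [Equiv.Perm.mul_apply, h, permFourteen_apply (by omega)]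
  interval_cases j
  · exact (h6 i i.2).1.symm
  · exact (h6 i i.2).2.1.symm

theorem exists_perm (d : ℕ) : ∀ n < 1344, (fPar n).1 < d → ∃ σ ∈ imgFive, HasKey σ n := by
  induction d with
  | zero => intro n _ h; omega
  | succ d ih =>
    intro n hn hd
    rcases (table_spec hn).2.2.2 with ⟨-, h⟩ | ⟨hm, hj, hdd, he⟩
    · exact ⟨1, one_mem _, fun i => (h i i.2).symm⟩
    · obtain ⟨σ, hσ, hk⟩ := ih _ hm (by omega)
      refine ⟨σ * permFourteen (fPerm (fPar n).2.2), mul_mem hσ (Subgroup.subset_closure ⟨_, hj, rfl⟩), ?_⟩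
      have hh := hasKey_mul hm hj hk
      rwa [← he] at hh

theorem exists_key {σ : Equiv.Perm (Fin 14)} (hσ : σ ∈ imgFive) : ∃ n < 1344, HasKey σ n := by
  refine Subgroup.closure_induction_right (p := fun x _ => ∃ n < 1344, HasKey x n) ?_ ?_ ?_ hσ
  · have h0 : ∀ d, ∀ n < 1344, (fPar n).1 < d → ∃ m < 1344, HasKey 1 m := by
      intro d
      induction d with
      | zero => intro n _ h; omega
      | succ d ih =>
        intro n hn hd
        rcases (table_spec hn).2.2.2 with ⟨-, h⟩ | ⟨hm, -, hdd, -⟩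
        · exact ⟨n, hn, fun i => (h i i.2).symm⟩
        · exact ih _ hm (by omega)
    exact h0 _ 0 (by norm_num) (Nat.lt_succ_self _)
  · rintro x - y ⟨j, hj, rfl⟩ ⟨n, hn, hk⟩
    refine ⟨_, ?_, hasKey_mul hn hj hk⟩
    obtain ⟨h1, h2, -, -⟩ := (table_spec hn).1
    split_ifs <;> assumption
  · rintro x - y ⟨j, hj, rfl⟩ ⟨n, hn, hk⟩
    obtain ⟨k, hk'⟩ := (isOfFinOrder_of_finite (permFourteen (fPerm j))).mem_powers_iff_mem_zpowers.2
      (inv_mem (Subgroup.mem_zpowers _))
    rw [← show permFourteen (fPerm j) ^ k = (permFourteen (fPerm j))⁻¹ from hk']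
    clear hk'
    induction k with
    | zero => exact ⟨n, hn, by rwa [pow_zero, mul_one]⟩
    | succ k ih =>
      obtain ⟨m, hm, hmk⟩ := ih
      refine ⟨_, ?_, by rw [pow_succ, ← mul_assoc]; exact hasKey_mul hm hj hmk⟩
      obtain ⟨h1, h2, -, -⟩ := (table_spec hm).1
      split_ifs <;> assumption

theorem key_inj {n m : ℕ} (hn : n < 1344) (hm : m < 1344) (h : fKey n = fKey m) : n = m := by
  have mono : ∀ a b, a < b → b < 1344 → fKey a < fKey b := by
    intro a b hab hb
    induction b with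
    | zero => omega
    | succ b ih =>
      rcases (table_spec (show b < 1344 by omega)).2.1 with h' | h'
      · omega
      · rcases Nat.lt_or_ge a b with h'' | h''
        · exact (ih h'' (by omega)).trans h'
        · obtain rfl : a = b := by omega
          exact h'
  rcases Nat.lt_trichotomy n m with h' | h' | h'
  · exact absurd h (mono n m h' hm).ne
  · exact h'
  · exact absurd h (mono m n h' hn).ne'

theorem hasKey_inj {σ : Equiv.Perm (Fin 14)} {n m : ℕ} (hn : n < 1344) (hm : m < 1344) (h : HasKey σ n)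
    (h' : HasKey σ m) : n = m := by
  refine key_inj hn hm ?_
  have hlt : ∀ k < 1344, fKey k < 16 ^ 14 := by
    intro k hk
    have hs : ((List.range 1344).all fun k => Nat.blt (fKey k) (16 ^ 14)) = true := by
      unfold fKey; decide +kernel
    exact Nat.blt_eq.mp (List.all_eq_true.1 hs k (List.mem_range.2 hk))
  refine Nat.eq_of_testBit_eq fun b => ?_
  rcases Nat.lt_or_ge b 56 with hb | hb
  · have e : g16 (fKey n) (b / 4) = g16 (fKey m) (b / 4) :=
      (h ⟨b / 4, by omega⟩).symm.trans (h' ⟨b / 4, by omega⟩)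
    unfold g16 at e
    have e' := congrArg (fun v => Nat.testBit v (b % 4)) e
    simp only [show (16 : ℕ) = 2 ^ 4 by norm_num, Nat.testBit_mod_two_pow, Nat.testBit_shiftRight,
      Nat.mod_lt b (show 4 > 0 by norm_num), decide_true, Bool.true_and, Nat.div_add_mod] at e'
    exact e'
  · rw [Nat.testBit_lt_two_pow ((hlt n hn).trans_le ?_), Nat.testBit_lt_two_pow ((hlt m hm).trans_le ?_)] <;>
      (rw [show (16 : ℕ) ^ 14 = 2 ^ 56 by norm_num]; exact Nat.pow_le_pow_right (by norm_num) hb)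

theorem hasKey_ext {σ τ : Equiv.Perm (Fin 14)} {n : ℕ} (h : HasKey σ n) (h' : HasKey τ n) : σ = τ :=
  Equiv.ext fun i => Fin.ext ((h i).trans (h' i).symm)

theorem card_imgFive : Nat.card ↥imgFive = 1344 := by
  classical
  have hex : ∀ n : Fin 1344, ∃ σ ∈ imgFive, HasKey σ n := fun n => exists_perm _ n n.2 (Nat.lt_succ_self _)
  choose f hf hk using hex
  have hb : Function.Bijective (fun n => (⟨f n, hf n⟩ : ↥imgFive)) := by
    refine ⟨fun a b e => Fin.ext (hasKey_inj a.2 b.2 (hk a) ?_), fun ⟨σ, hσ⟩ => ?_⟩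
    · rw [show f a = f b from congrArg Subtype.val e]; exact hk b
    · obtain ⟨n, hn, h⟩ := exists_key hσ
      exact ⟨⟨n, hn⟩, Subtype.ext (hasKey_ext (hk ⟨n, hn⟩) h)⟩
  rw [← Nat.card_congr (Equiv.ofBijective _ hb), Nat.card_fin]

/-- The class label of an element of the image. -/
noncomputable def labOf (σ : ↥imgFive) : ℕ := (fTree (exists_key σ.2).choose).1

theorem labOf_eq {σ : ↥imgFive} {n : ℕ} (hn : n < 1344) (h : HasKey σ n) : labOf σ = (fTree n).1 := by
  obtain ⟨hm, hk⟩ := (exists_key σ.2).choose_spec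
  rw [labOf, hasKey_inj hm hn hk h]

theorem label_spec {n : ℕ} (hn : n < 1344) :
    (fTree n).1 < 11 ∧ (fTree (fMul n).1).1 = (fTree (fMul n).2.2.1).1 ∧
    (fTree (fMul n).2.1).1 = (fTree (fMul n).2.2.2).1 ∧
    (((fTree n).2.1 = 0 ∧ fiveReps.getD (fTree n).1 0 = n) ∨
      ((fTree n).2.2.1 < 1344 ∧ (fTree (fTree n).2.2.1).2.1 < (fTree n).2.1 ∧
        (fTree (fTree n).2.2.1).1 = (fTree n).1 ∧
        (((fTree n).2.2.2 = 0 ∧ (fMul n).2.2.1 = (fMul (fTree n).2.2.1).1) ∨
          ((fTree n).2.2.2 = 1 ∧ (fMul n).2.2.2 = (fMul (fTree n).2.2.1).2.1)))) := by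
  have h := List.all_eq_true.1 label_five_ok n (List.mem_range.2 hn)
  simp only [labelFive, Bool.and_eq_true, Nat.blt_eq, Nat.beq_eq] at h
  refine ⟨h.1.1.1, h.1.1.2, h.1.2, ?_⟩
  cases h0 : Nat.beq (fTree n).2.1 0 with
  | true =>
    simp only [h0, cond_true, Nat.beq_eq] at h
    exact Or.inl ⟨Nat.eq_of_beq_eq_true h0, h.2⟩
  | false =>
    simp only [h0, cond_false, Bool.and_eq_true, Nat.blt_eq, Nat.beq_eq] at h
    refine Or.inr ⟨h.2.1.1.1.1, h.2.1.1.1.2, h.2.1.1.2, ?_⟩
    cases hj : Nat.beq (fTree n).2.2.2 0 with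
    | true => exact Or.inl ⟨Nat.eq_of_beq_eq_true hj, by simpa [hj] using h.2.2⟩
    | false =>
      refine Or.inr ⟨?_, by simpa [hj] using h.2.2⟩
      have h1 := h.2.1.2
      have h2 : (fTree n).2.2.2 ≠ 0 := fun e => by rw [e] at hj; exact absurd hj (by simp)
      omega

theorem hasKey_left {σ : Equiv.Perm (Fin 14)} {n j : ℕ} (hn : n < 1344) (hj : j < 2) (h : HasKey σ n) :
    HasKey (permFourteen (fPerm j) * σ) (if j = 0 then (fMul n).2.2.1 else (fMul n).2.2.2) := by
  intro i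
  obtain ⟨-, -, h6, -⟩ := table_spec hn
  rw [Equiv.Perm.mul_apply, permFourteen_apply (by omega), h]
  interval_cases j
  · exact (h6 i i.2).2.2.1.symm
  · exact (h6 i i.2).2.2.2.symm

theorem labOf_conj {σ τ : ↥imgFive} (h : IsConj σ τ) : labOf σ = labOf τ := by
  obtain ⟨⟨c, hc⟩, e⟩ := isConj_iff.1 h
  have key : ∀ c ∈ imgFive, ∀ ρ : ↥imgFive, ∀ hm : c * ρ * c⁻¹ ∈ imgFive, labOf ⟨_, hm⟩ = labOf ρ := by
    intro c hc
    induction hc using Subgroup.closure_induction with
    | mem y hy =>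
      obtain ⟨j, hj, rfl⟩ := hy
      intro ρ hm
      obtain ⟨n, hn, hk⟩ := exists_key (mul_mem ρ.2 (inv_mem (Subgroup.subset_closure ⟨j, hj, rfl⟩ :
        permFourteen (fPerm j) ∈ imgFive)))
      have hR := hasKey_mul hn hj hk
      have hL := hasKey_left hn hj hk
      rw [inv_mul_cancel_right] at hR
      rw [← mul_assoc] at hL
      obtain ⟨h1, h2, h3, h4⟩ := (table_spec hn).1
      rw [labOf_eq (by split_ifs <;> assumption) hR, labOf_eq (by split_ifs <;> assumption) hL]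
      obtain ⟨-, e1, e2, -⟩ := label_spec hn
      split_ifs
      · exact e1.symm
      · exact e2.symm
    | one => intro ρ hm; congr 1; first | done | exact Subtype.ext (by simp)
    | mul a b ha hb iha ihb =>
      intro ρ hm
      have hm' : b * ρ * b⁻¹ ∈ imgFive := mul_mem (mul_mem hb ρ.2) (inv_mem hb)
      rw [← ihb ρ hm', ← iha ⟨_, hm'⟩ (mul_mem (mul_mem ha hm') (inv_mem ha))]
      congr 1
      first | done | exact Subtype.ext (by group)
    | inv a ha iha =>
      intro ρ hm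
      rw [← iha ⟨_, hm⟩ (mul_mem (mul_mem ha hm) (inv_mem ha))]
      congr 1
      first | done | exact Subtype.ext (by group)
  subst e
  exact (key c hc σ (mul_mem (mul_mem hc σ.2) (inv_mem hc))).symm

/-- The representative of a label. -/
noncomputable def repFive (l : ℕ) : ↥imgFive :=
  open Classical in
  if h : ∃ σ : ↥imgFive, HasKey σ (fiveReps.getD l 0) then h.choose else 1

theorem repFive_key {l : ℕ} (hl : l < 11) : fiveReps.getD l 0 < 1344 ∧ (fTree (fiveReps.getD l 0)).1 = l ∧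
    HasKey (repFive l : Equiv.Perm (Fin 14)) (fiveReps.getD l 0) := by
  have h := List.all_eq_true.1 ord_five_ok l (List.mem_range.2 hl)
  simp only [ordFive, Bool.and_eq_true, Nat.blt_eq, Nat.beq_eq] at h
  obtain ⟨⟨⟨h1, h2⟩, -⟩, -⟩ := h
  obtain ⟨σ, hσ, hk⟩ := exists_perm _ _ h1 (Nat.lt_succ_self _)
  have hex : ∃ σ : ↥imgFive, HasKey (σ : Equiv.Perm (Fin 14)) (fiveReps.getD l 0) := ⟨⟨σ, hσ⟩, hk⟩
  refine ⟨h1, h2, ?_⟩
  rw [repFive, dif_pos hex]
  exact hex.choose_spec

theorem repFive_lab {l : ℕ} (hl : l < 11) : labOf (repFive l) = l :=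
  (labOf_eq (repFive_key hl).1 (repFive_key hl).2.2).trans (repFive_key hl).2.1

theorem exists_conj_rep (σ : ↥imgFive) : ∃ l < 11, IsConj σ (repFive l) := by
  suffices H : ∀ d, ∀ n < 1344, (fTree n).2.1 < d → ∀ σ : ↥imgFive, HasKey (σ : Equiv.Perm (Fin 14)) n →
      IsConj σ (repFive (fTree n).1) by
    obtain ⟨n, hn, hk⟩ := exists_key σ.2
    exact ⟨_, (label_spec hn).1, H _ n hn (Nat.lt_succ_self _) σ hk⟩
  intro d
  induction d with
  | zero => intro n _ h; omega
  | succ d ih =>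
    intro n hn hd σ hk
    obtain ⟨hl, -, -, h⟩ := label_spec hn
    rcases h with ⟨-, h⟩ | ⟨hm, hdd, hlab, h⟩
    · have : σ = repFive (fTree n).1 := Subtype.ext (hasKey_ext hk (by
        have := (repFive_key hl).2.2
        rwa [h] at this))
      exact this ▸ IsConj.refl _
    · obtain ⟨τ, hτ, hkτ⟩ := exists_perm _ _ hm (Nat.lt_succ_self _)
      have := ih _ hm (by omega) ⟨τ, hτ⟩ hkτ
      rw [hlab] at this
      refine IsConj.trans ?_ this
      have hj : (fTree n).2.2.2 < 2 := by rcases h with ⟨e, -⟩ | ⟨e, -⟩ <;> omega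
      have hq : permFourteen (fPerm (fTree n).2.2.2) ∈ imgFive := Subgroup.subset_closure ⟨_, hj, rfl⟩
      refine isConj_iff.2 ⟨⟨_, hq⟩, Subtype.ext (mul_inv_eq_iff_eq_mul.2 ?_)⟩
      have hR := hasKey_mul hm hj hkτ
      have hL := hasKey_left hn hj hk
      rcases h with ⟨e, e'⟩ | ⟨e, e'⟩ <;> simp only [e, one_ne_zero, ↓reduceIte] at hR hL ⊢ <;> rw [e'] at hL <;>
        exact hasKey_ext hL hR

theorem iter_key {σ : Equiv.Perm (Fin 14)} {n : ℕ} (h : HasKey σ n) : ∀ (k : ℕ) (i : Fin 14),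
    (((σ ^ k) i : Fin 14) : ℕ) = g16Iter (fKey n) k i
  | 0, _ => rfl
  | k + 1, i => by rw [pow_succ', Equiv.Perm.mul_apply, h, iter_key h k]; rfl

theorem numCls_imgFive : NumCls (OnlyP (Γ := ↥imgFive) [3, 2]) 9 := by
  have hf := final_five_ok
  simp only [finalFive, Bool.and_eq_true, List.all_eq_true, List.mem_range, Nat.blt_eq, Nat.beq_eq,
    Bool.or_eq_true] at hf
  have hpow : ∀ {l}, l < 11 → repFive l ^ fiveOrds.getD l 0 = 1 := by
    intro l hl
    have h := List.all_eq_true.1 ord_five_ok l (List.mem_range.2 hl)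
    simp only [ordFive, Bool.and_eq_true, List.all_eq_true, List.mem_range, Nat.beq_eq] at h
    refine Subtype.ext (Equiv.ext fun i => Fin.ext ?_)
    rw [Subgroup.coe_pow, iter_key (repFive_key hl).2.2]
    exact h.1.2 i i.2
  refine ⟨fun a => repFive (fiveFinal.getD a 0), fun a => ?_, fun a b h => ?_, fun x hx => ?_⟩
  · intro q hq hd
    have h24 : q ∣ 24 := hd.trans ((orderOf_dvd_iff_pow_eq_one.2 (hpow (hf.2 a a.2).1.1)).trans
      (Nat.dvd_of_mod_eq_zero (hf.2 a a.2).1.2))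
    have h' : q ∣ 2 ^ 3 * 3 := h24
    rcases (Nat.Prime.dvd_mul hq).1 h' with h' | h'
    · simp [(Nat.prime_dvd_prime_iff_eq hq Nat.prime_two).1 (hq.dvd_of_dvd_pow h')]
    · simp [(Nat.prime_dvd_prime_iff_eq hq Nat.prime_three).1 h']
  · have e := labOf_conj h
    rw [repFive_lab (hf.2 a a.2).1.1, repFive_lab (hf.2 b b.2).1.1] at e
    rcases (hf.2 a a.2).2 b b.2 with h' | h'
    · exact Fin.ext h'
    · exact absurd e (ne_of_not_beq h')
  · obtain ⟨l, hl, hxl⟩ := exists_conj_rep x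
    have h := List.all_eq_true.1 ord_five_ok l (List.mem_range.2 hl)
    simp only [ordFive, Bool.and_eq_true, Bool.or_eq_true, List.any_eq_true, Nat.beq_eq, List.mem_range] at h
    rcases h.2 with ⟨⟨v, hv, e⟩, -⟩ | ⟨ho, i, hi, hne⟩
    · obtain ⟨a, ha, hea⟩ := List.getElem_of_mem hv
      refine ⟨⟨a, hf.1 ▸ ha⟩, ?_⟩
      show IsConj x (repFive (fiveFinal.getD a 0))
      rwa [List.getD_eq_getElem _ _ ha, hea, ← e]
    · exfalso
      haveI : Fact (Nat.Prime 7) := ⟨by norm_num⟩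
      have hne1 : repFive l ≠ 1 := fun e => by
        refine ne_of_not_beq hne ?_
        rw [← (repFive_key hl).2.2 ⟨i, hi⟩, e]
        first | done | rfl
      have h7 : orderOf (repFive l) = 7 := orderOf_eq_prime (ho ▸ hpow hl) hne1
      obtain ⟨c, hc⟩ := isConj_iff.1 hxl
      have h7' : orderOf x = 7 := by rw [← orderOf_conj_eq c, hc, h7]
      simpa using hx 7 (by norm_num) (h7'.symm ▸ dvd_rfl)

/-- The element of order 5. -/
noncomputable def yFiveG : ↥Gsub :=
  ⟨wp fiveY, wp_mem_G fun g hg => (bw_lt (by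
    have h := y_five_ok
    simp only [yFive, Bool.and_eq_true] at h
    exact h.1.1.1) hg).trans (by norm_num)⟩

theorem orderOf_yFiveG : orderOf yFiveG = 5 := by
  have h := y_five_ok
  simp only [yFive, Bool.and_eq_true, Bool.not_eq_true'] at h
  obtain ⟨⟨⟨hb, h5⟩, h1⟩, -⟩ := h
  haveI : Fact (Nat.Prime 5) := ⟨by norm_num⟩
  refine orderOf_eq_prime (Subtype.ext ?_) fun e => ?_
  · show wp fiveY ^ 5 = 1
    rw [pow_succ', pow_succ', pow_succ', pow_succ', pow_one, ← wp_append, ← wp_append, ← wp_append, ← wp_append,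
      wp_eq_of_walk (bw_append hb (bw_append hb (bw_append hb (bw_append hb hb)))) rfl h5, wp_nil]
  · have e' : wp fiveY = 1 := congrArg Subtype.val e
    have := (pp_inj (a := (0, fiveY)) (b := (0, [])) hb rfl (by norm_num) (by norm_num)
      (by simp [pp, eW_zero, e', wp_nil])).2
    rw [h1] at this
    exact Bool.noConfusion this

/-- The nine classes in the centralizer. -/
theorem numCls_five (hF : LocalFacts ↥Gsub) :
    NumCls (OnlyP (Γ := ↥(Subgroup.centralizer ({yFiveG} : Set ↥Gsub))) [3, 2]) 9 := by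
  classical
  set C := Subgroup.centralizer ({yFiveG} : Set ↥Gsub)
  have hC : Nat.card ↥C = 6720 := (hF.five _ orderOf_yFiveG).1
  have hlen : fiveGens.length = 3 := Nat.eq_of_beq_eq_true gens_five_len
  have hsnd : ∀ {x}, x ∈ pairGrp → x.2 ∈ imgFive := by
    intro x hx
    induction hx using Subgroup.closure_induction with
    | mem y hy =>
      obtain ⟨j, hj, rfl⟩ := hy
      rcases Nat.lt_or_ge j 2 with h | h
      · exact Subgroup.subset_closure ⟨j, h, rfl⟩
      · obtain rfl : j = 2 := by omega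
        have : permFourteen (fPerm 2) = 1 := by
          refine Equiv.ext fun i => Fin.ext ?_
          rw [permFourteen_apply (by norm_num)]
          have h := y_five_ok
          simp only [yFive, Bool.and_eq_true, List.all_eq_true, List.mem_range, Nat.beq_eq] at h
          exact h.2 i i.2
        show permFourteen (fPerm 2) ∈ imgFive
        rw [this]
        exact one_mem _
    | one => exact one_mem _
    | mul a b _ _ ha hb => exact mul_mem ha hb
    | inv a _ ha => exact inv_mem ha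
  have hfst : ∀ {x}, x ∈ pairGrp → x.1 ∈ Gsub ∧ Commute x.1 (wp fiveY) := by
    intro x hx
    induction hx using Subgroup.closure_induction with
    | mem y hy =>
      obtain ⟨j, hj, rfl⟩ := hy
      obtain ⟨hm, hs, -⟩ := gen_spec hj
      have hr : ∀ g ∈ fiveGens.getD j [], g < 20 := by
        simp only [matCheck, inRange, Bool.and_eq_true, List.all_eq_true, Nat.blt_eq] at hm
        exact hm.1.1.1
      have hs' := sameW_wp hs
      rw [wp_append, wp_append] at hs'
      exact ⟨wp_mem_G hr, hs'⟩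
    | one => exact ⟨one_mem _, Commute.one_left _⟩
    | mul a b _ _ ha hb => exact ⟨mul_mem ha.1 hb.1, ha.2.mul_left hb.2⟩
    | inv a _ ha => exact ⟨inv_mem ha.1, ha.2.inv_left⟩
  let π : ↥pairGrp →* ↥C :=
    { toFun := fun x => ⟨⟨x.1.1, (hfst x.2).1⟩, Subgroup.mem_centralizer_singleton_iff.2 (Subtype.ext (hfst x.2).2.eq)⟩
      map_one' := rfl
      map_mul' := fun _ _ => rfl }
  let ρ : ↥pairGrp →* ↥imgFive :=
    { toFun := fun x => ⟨x.1.2, hsnd x.2⟩
      map_one' := rfl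
      map_mul' := fun _ _ => rfl }
  have hπi : Function.Injective π := fun a b e =>
    Subtype.ext (pair_snd_eq a.2 b.2 (congrArg (fun u : ↥C => ((u : ↥Gsub) : Equiv.Perm Vec)) e))
  have hρs : Function.Surjective ρ := by
    rintro ⟨σ, hσ⟩
    suffices ∃ x : ↥pairGrp, x.1.2 = σ from ⟨this.choose, Subtype.ext this.choose_spec⟩
    induction hσ using Subgroup.closure_induction with
    | mem y hy =>
      obtain ⟨j, hj, rfl⟩ := hy
      exact ⟨⟨pairGen j, Subgroup.subset_closure ⟨j, by omega, rfl⟩⟩, rfl⟩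
    | one => exact ⟨1, rfl⟩
    | mul a b _ _ ha hb =>
      obtain ⟨x, hx⟩ := ha; obtain ⟨x', hx'⟩ := hb
      exact ⟨x * x', by rw [Subgroup.coe_mul, Prod.snd_mul, hx, hx']⟩
    | inv a _ ha => obtain ⟨x, hx⟩ := ha; exact ⟨x⁻¹, by rw [Subgroup.coe_inv, Prod.snd_inv, hx]⟩
  have hyP : ((wp fiveY, 1) : Equiv.Perm Vec × Equiv.Perm (Fin 14)) ∈ pairGrp := by
    have h2 : pairGen 2 ∈ pairGrp := Subgroup.subset_closure ⟨2, by norm_num, rfl⟩
    have e : pairGen 2 = (wp fiveY, 1) := by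
      refine Prod.ext ?_ (Equiv.ext fun i => Fin.ext ?_)
      · show wp (fiveGens.getD 2 []) = _
        unfold fiveGens
        rfl
      · show ((permFourteen (fPerm 2) i : Fin 14) : ℕ) = _
        rw [permFourteen_apply (by norm_num)]
        have h := y_five_ok
        simp only [yFive, Bool.and_eq_true, List.all_eq_true, List.mem_range, Nat.beq_eq] at h
        exact h.2 i i.2
    rwa [e] at h2
  let y' : ↥pairGrp := ⟨_, hyP⟩
  have hy' : y' ∈ ρ.ker := rfl
  have hyo : orderOf y' = 5 := by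
    rw [← orderOf_injective π hπi y', ← orderOf_yFiveG, ← Subgroup.orderOf_coe]
    rfl
  have hle : Nat.card ↥pairGrp ≤ 6720 := hC ▸ Nat.card_le_card_of_injective π hπi
  haveI : Finite ↥pairGrp := Finite.of_injective π hπi
  have hsplit : Nat.card ↥pairGrp = 1344 * Nat.card ↥ρ.ker := by
    rw [← ρ.ker.index_mul_card, Subgroup.index_ker, MonoidHom.range_eq_top.2 hρs, Subgroup.card_top, card_imgFive]
  have hker : Nat.card ↥ρ.ker = 5 := by
    have h5 : 5 ∣ Nat.card ↥ρ.ker := hyo ▸ (Subgroup.orderOf_mk y' hy' ▸ orderOf_dvd_natCard (⟨y', hy'⟩ : ↥ρ.ker))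
    have hpos : 0 < Nat.card ↥ρ.ker := Nat.card_pos
    have := Nat.le_of_dvd hpos h5
    omega
  have hπs : Function.Surjective π := (hπi.bijective_of_nat_card_le (by rw [hC, hsplit, hker])).2
  let e : ↥pairGrp ≃* ↥C := MulEquiv.ofBijective π ⟨hπi, hπs⟩
  have hK : ρ.ker = Subgroup.zpowers y' := (Subgroup.eq_of_le_of_card_ge (Subgroup.zpowers_le.2 hy')
    (by rw [hker, Nat.card_zpowers, hyo])).symm
  refine NumCls.of_central_quotient numCls_imgFive (ρ.comp e.symm.toMonoidHom) (hρs.comp e.symm.surjective)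
    (show Nat.Prime 5 by norm_num) (by decide) fun k hk => ?_
  have hk' : e.symm k ∈ ρ.ker := hk
  rw [hK] at hk'
  obtain ⟨i, hi⟩ := Subgroup.mem_zpowers_iff.1 hk'
  have hke : k = e (y' ^ i) := by rw [hi, e.apply_symm_apply]
  refine ⟨?_, fun g => ?_⟩
  · rw [hke, ← map_pow, ← zpow_natCast, ← zpow_mul, mul_comm, zpow_mul, zpow_natCast, ← hyo, pow_orderOf_eq_one,
      one_zpow, map_one]
  · rw [hke, map_zpow]
    refine Commute.zpow_left ?_ i
    refine Subtype.ext ?_
    exact (Subgroup.mem_centralizer_singleton_iff.1 g.2).symm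

end Cfsg.Lib.J4Classes
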