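import Cfsg.Agent.Lib.J4Classes.Rank
import Cfsg.Agent.Lib.J4Classes.FiveData

/-!
# The checks for the centralizer of an element of order 5
-/

set_option autoImplicit false
set_option maxRecDepth 100000
set_option maxHeartbeats 0

namespace Cfsg.Lib.J4Classes

open Cfsg.Lib.J4Real Cfsg.Lib.CosetEnum Cfsg.Lib.J4Pres

/-- An entry of a packed permutation of fourteen points. -/
def g16 (p i : ℕ) : ℕ := (p >>> (4 * i)) % 16

/-- A key. -/
def fKey (n : ℕ) : ℕ := (fiveKeys.getD (n / 32) []).getD (n % 32) 0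

/-- A row of products. -/
def fMul (n : ℕ) : ℕ × ℕ × ℕ × ℕ := (fiveMulTab.getD (n / 32) []).getD (n % 32) (0, 0, 0, 0)

/-- A parent. -/
def fPar (n : ℕ) : ℕ × ℕ × ℕ := (fiveParents.getD (n / 32) []).getD (n % 32) (0, 0, 0)

/-- An entry of the tree of conjugation. -/
def fTree (n : ℕ) : ℕ × ℕ × ℕ × ℕ := (fiveTree.getD (n / 32) []).getD (n % 32) (0, 0, 0, 0)

/-- A block. -/
def fBlock (i : ℕ) : List ℕ := fiveBlocks.getD i []

/-- A packed action. -/
def fPerm (j : ℕ) : ℕ := (fivePerms.getD j (0, 0)).1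

/-- Its inverse. -/
def fPermInv (j : ℕ) : ℕ := (fivePerms.getD j (0, 0)).2

/-- The generators act on the blocks as claimed and centralize the element. -/
noncomputable def genFive (j : ℕ) : Bool :=
  matCheck (fiveGens.getD j []) (fiveMats.getD j []) &&
    sameW (fiveGens.getD j [] ++ fiveY) (fiveY ++ fiveGens.getD j []) &&
    (List.range 14).all fun i => Nat.blt (g16 (fPerm j) i) 14 && Nat.blt (g16 (fPermInv j) i) 14 &&
      Nat.beq (g16 (fPerm j) (g16 (fPermInv j) i)) i && Nat.beq (g16 (fPermInv j) (g16 (fPerm j) i)) i &&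
      (fBlock i).all fun v => Nat.blt v (2 ^ 112) &&
        force (applyRows (fiveMats.getD j []) v) fun u => (fBlock (g16 (fPerm j) i)).any fun b => Nat.beq b u

/-- The first vector of a block lies in no other. -/
def blocksSep : Bool :=
  (List.range 14).all fun i => Nat.blt 0 (fBlock i).length && (List.range 14).all fun k =>
    Nat.beq i k || (fBlock k).all fun b => !Nat.beq b ((fBlock i).getD 0 0)

/-- The element of order 5. -/
noncomputable def yFive : Bool :=
  bw fiveY && walkEq (fiveY ++ (fiveY ++ (fiveY ++ (fiveY ++ fiveY)))) [] && !walkEq fiveY [] &&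
    (List.range 14).all fun i => Nat.beq (g16 (fPerm 2) i) i

/-- The table of the image. -/
def tableFive (n : ℕ) : Bool :=
  let m := fMul n
  let p := fPar n
  Nat.blt m.1 1344 && Nat.blt m.2.1 1344 && Nat.blt m.2.2.1 1344 && Nat.blt m.2.2.2 1344 &&
    (Nat.beq n 1343 || Nat.blt (fKey n) (fKey (n + 1))) &&
    ((List.range 14).all fun i =>
      Nat.beq (g16 (fKey m.1) i) (g16 (fKey n) (g16 (fPerm 0) i)) &&
      Nat.beq (g16 (fKey m.2.1) i) (g16 (fKey n) (g16 (fPerm 1) i)) &&
      Nat.beq (g16 (fKey m.2.2.1) i) (g16 (fPerm 0) (g16 (fKey n) i)) &&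
      Nat.beq (g16 (fKey m.2.2.2) i) (g16 (fPerm 1) (g16 (fKey n) i))) &&
    cond (Nat.beq p.1 0) ((List.range 14).all fun i => Nat.beq (g16 (fKey n) i) i)
      (Nat.blt p.2.1 1344 && Nat.blt p.2.2 2 && Nat.blt (fPar p.2.1).1 p.1 &&
        Nat.beq n (cond (Nat.beq p.2.2 0) (fMul p.2.1).1 (fMul p.2.1).2.1))

/-- The labels are invariant under conjugation and lead to the representatives. -/
def labelFive (n : ℕ) : Bool :=
  let m := fMul n
  let t := fTree n
  Nat.blt t.1 11 && Nat.beq (fTree m.1).1 (fTree m.2.2.1).1 && Nat.beq (fTree m.2.1).1 (fTree m.2.2.2).1 &&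
    cond (Nat.beq t.2.1 0) (Nat.beq (fiveReps.getD t.1 0) n)
      (Nat.blt t.2.2.1 1344 && Nat.blt (fTree t.2.2.1).2.1 t.2.1 && Nat.beq (fTree t.2.2.1).1 t.1 &&
        Nat.blt t.2.2.2 2 &&
        cond (Nat.beq t.2.2.2 0) (Nat.beq m.2.2.1 (fMul t.2.2.1).1) (Nat.beq m.2.2.2 (fMul t.2.2.1).2.1))

/-- The iterated image of a point. -/
def g16Iter (p : ℕ) : ℕ → ℕ → ℕ
  | 0, i => i
  | k + 1, i => g16 p (g16Iter p k i)

/-- The orders of the representatives. -/
def ordFive (l : ℕ) : Bool :=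
  let n := fiveReps.getD l 0
  let o := fiveOrds.getD l 0
  Nat.blt n 1344 && Nat.beq (fTree n).1 l && ((List.range 14).all fun i => Nat.beq (g16Iter (fKey n) o i) i) &&
    ((fiveFinal.any (Nat.beq l) && (Nat.beq (24 % o) 0)) ||
      (Nat.beq o 7 && (List.range 14).any fun i => !Nat.beq (g16 (fKey n) i) i))

/-- The finals. -/
def finalFive : Bool :=
  Nat.beq fiveFinal.length 9 && (List.range 9).all fun a => Nat.blt (fiveFinal.getD a 0) 11 &&
    Nat.beq (24 % (fiveOrds.getD (fiveFinal.getD a 0) 0)) 0 &&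
    (List.range 9).all fun b => Nat.beq a b || !Nat.beq (fiveFinal.getD a 0) (fiveFinal.getD b 0)

end Cfsg.Lib.J4Classes
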