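import Cfsg.Agent.Lib.J4Classes.Count
import Cfsg.Agent.Lib.J4Eleven.Count

/-!
# Classes of elements of prime order with cyclic Sylow subgroups of that order
-/

set_option autoImplicit false
set_option linter.style.haveILetI false
set_option linter.unusedSectionVars false

namespace Cfsg.Lib.J4Classes

variable {Γ : Type*} [Group Γ] [Finite Γ] {p : ℕ} [hp : Fact p.Prime]

theorem pow_val_eq_iff {x : Γ} (hx : orderOf x = p) (a b : ℕ) : x ^ a = x ^ b ↔ (a : ZMod p) = (b : ZMod p) := by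
  rw [pow_eq_pow_iff_modEq, hx, ZMod.natCast_eq_natCast_iff]

theorem mem_normalizer_zpowers {x g : Γ} {k : ℕ} (h : g * x * g⁻¹ = x ^ k) :
    g ∈ Subgroup.normalizer (Subgroup.zpowers x : Set Γ) := by
  have hle : (Subgroup.zpowers x).map (MulAut.conj g).toMonoidHom ≤ Subgroup.zpowers x := by
    rw [MonoidHom.map_zpowers, Subgroup.zpowers_le]
    show g * x * g⁻¹ ∈ _
    rw [h]
    exact pow_mem (Subgroup.mem_zpowers x) k
  have he := Subgroup.eq_of_le_of_card_ge hle (Subgroup.card_map_of_injective (MulAut.conj g).injective).ge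
  rw [Subgroup.mem_normalizer_iff]
  intro b
  constructor
  · intro hb
    rw [← he]
    exact ⟨b, hb, rfl⟩
  · intro hb
    rw [← he] at hb
    obtain ⟨c, hc, e⟩ := hb
    exact (MulAut.conj g).injective e ▸ hc

/-- The exponents by which the normalizer acts are the roots of unity of the order of its action. -/
theorem exists_root_conj {e : ℕ} {x : Γ} (hx : orderOf x = p) (he1 : 0 < e)
    (he : e * Nat.card ↥(Subgroup.centralizer ({x} : Set Γ)) =
      Nat.card ↥(Subgroup.normalizer (Subgroup.zpowers x : Set Γ))) :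
    (∀ s : ZMod p, s ^ e = 1 → ∃ g : Γ, g * x * g⁻¹ = x ^ s.val) ∧
      ∀ (g : Γ) (k : ℕ), g * x * g⁻¹ = x ^ k → (k : ZMod p) ^ e = 1 := by
  classical
  set N := Subgroup.normalizer (Subgroup.zpowers x : Set Γ)
  have hex : ∀ n : ↥N, ∃ k : ℕ, (n : Γ) * x * (n : Γ)⁻¹ = x ^ k := fun n => by
    obtain ⟨k, hk⟩ := (isOfFinOrder_of_finite x).mem_powers_iff_mem_zpowers.2
      ((Subgroup.mem_normalizer_iff.1 n.2 x).1 (Subgroup.mem_zpowers x))
    exact ⟨k, hk.symm⟩
  choose k hk using hex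
  let f : ↥N →* ZMod p :=
    { toFun := fun n => (k n : ZMod p)
      map_one' := by
        have h := hk 1
        simp only [Subgroup.coe_one, one_mul, inv_one, mul_one] at h
        rw [← Nat.cast_one, ← pow_val_eq_iff hx, ← h, pow_one]
      map_mul' := fun n m => by
        rw [← Nat.cast_mul, ← pow_val_eq_iff hx, ← hk (n * m), Subgroup.coe_mul, pow_mul, ← hk n, conj_pow, ← hk m]
        group }
  let φ : ↥N →* (ZMod p)ˣ := f.toHomUnits
  have hker : φ.ker = (Subgroup.centralizer ({x} : Set Γ)).subgroupOf N := by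
    ext n
    rw [MonoidHom.mem_ker, Subgroup.mem_subgroupOf, Subgroup.mem_centralizer_singleton_iff, Units.ext_iff]
    show (k n : ZMod p) = 1 ↔ _
    rw [← Nat.cast_one, ← pow_val_eq_iff hx, ← hk n, pow_one, mul_inv_eq_iff_eq_mul]
  have hCN : Subgroup.centralizer ({x} : Set Γ) ≤ N := fun c hc =>
    mem_normalizer_zpowers (k := 1) (by
      rw [pow_one, mul_inv_eq_iff_eq_mul]; exact Subgroup.mem_centralizer_singleton_iff.1 hc)
  have hrange : Nat.card ↥φ.range = e := by
    have h := φ.ker.index_mul_card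
    rw [Subgroup.index_ker, hker, Nat.card_congr (Subgroup.subgroupOfEquivOfLe hCN).toEquiv, ← he] at h
    exact Nat.eq_of_mul_eq_mul_right Nat.card_pos h
  have hval : ∀ u : ↥φ.range, ((u : (ZMod p)ˣ) : ZMod p) ^ e = 1 := fun u => by
    rw [← Units.val_pow_eq_pow_val, ← Subgroup.coe_pow, ← hrange, pow_card_eq_one', Subgroup.coe_one, Units.val_one]
  refine ⟨fun s hs => ?_, fun g j hg => ?_⟩
  · let R : Finset (ZMod p) := (Polynomial.nthRoots e (1 : ZMod p)).toFinset
    have hI : (Set.range fun u : ↥φ.range => ((u : (ZMod p)ˣ) : ZMod p)).ncard = e := by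
      exact (Set.ncard_range_of_injective (Units.val_injective.comp Subtype.val_injective)).trans hrange
    have hR : R.card ≤ e := (Multiset.toFinset_card_le _).trans (Polynomial.card_nthRoots e 1)
    have heq : (Set.range fun u : ↥φ.range => ((u : (ZMod p)ˣ) : ZMod p)) = (R : Set (ZMod p)) :=
      Set.eq_of_subset_of_ncard_le (by
          rintro _ ⟨u, rfl⟩
          exact Multiset.mem_toFinset.2 ((Polynomial.mem_nthRoots he1).2 (hval u)))
        (by rw [hI, Set.ncard_coe_finset]; exact hR)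
    have hsI : s ∈ Set.range fun u : ↥φ.range => ((u : (ZMod p)ˣ) : ZMod p) := by
      rw [heq]; exact Multiset.mem_toFinset.2 ((Polynomial.mem_nthRoots he1).2 hs)
    obtain ⟨⟨u, hur⟩, hu⟩ := hsI
    obtain ⟨n, hn⟩ := hur
    refine ⟨(n : Γ), (hk n).trans ((pow_val_eq_iff hx _ _).2 ?_)⟩
    rw [ZMod.natCast_zmod_val, ← hu]
    exact congrArg Units.val hn
  · let n : ↥N := ⟨g, mem_normalizer_zpowers hg⟩
    have h := hval ⟨φ n, n, rfl⟩
    change (k n : ZMod p) ^ e = 1 at h
    rwa [show (j : ZMod p) = k n from (pow_val_eq_iff hx _ _).1 (hg.symm.trans (hk n))]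

/-- Representatives of the classes of elements of prime order. -/
theorem prime_reps {e n : ℕ} (h2 : ¬ p ^ 2 ∣ Nat.card Γ) {x : Γ} (hx : orderOf x = p) (he1 : 0 < e)
    (he : e * Nat.card ↥(Subgroup.centralizer ({x} : Set Γ)) =
      Nat.card ↥(Subgroup.normalizer (Subgroup.zpowers x : Set Γ)))
    (a : Fin n → ℕ) (ha : ∀ i, (a i : ZMod p) ≠ 0)
    (hdec : ∀ k : ZMod p, k ≠ 0 → ∃ i, k ^ e = (a i : ZMod p) ^ e)
    (hsep : ∀ i j, (a i : ZMod p) ^ e = (a j : ZMod p) ^ e → i = j) :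
    ∃ r : Fin n → Γ, (∀ i, orderOf (r i) = p) ∧ (∀ i j, IsConj (r i) (r j) → i = j) ∧
      (∀ y, orderOf y = p → ∃ i, IsConj y (r i)) ∧
      ∀ i, Subgroup.centralizer ({r i} : Set Γ) = Subgroup.centralizer ({x} : Set Γ) := by
  obtain ⟨hroot, hconj⟩ := exists_root_conj hx he1 he
  have hna : ∀ i, ¬ p ∣ a i := fun i hd => ha i ((ZMod.natCast_eq_zero_iff _ _).2 hd)
  have hback : ∀ i, ∃ b, (x ^ a i) ^ b = x := fun i =>
    exists_pow_eq_self_of_coprime (hx ▸ (hp.out.coprime_iff_not_dvd.2 (hna i)).symm)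
  refine ⟨fun i => x ^ a i, fun i => ?_, fun i j h => hsep i j ?_, fun y hy => ?_, fun i => ?_⟩
  · rw [Nat.Coprime.orderOf_pow (hx ▸ hp.out.coprime_iff_not_dvd.2 (hna i)), hx]
  · obtain ⟨g, hg⟩ := isConj_iff.1 h
    obtain ⟨b, hb⟩ := hback i
    have h1 : g * x * g⁻¹ = x ^ (a j * b) := by
      conv_lhs => rw [← hb]
      rw [← conj_pow, hg, pow_mul]
    have h2' := hconj g _ h1
    have h3 : ((a i * b : ℕ) : ZMod p) = 1 := by
      rw [← Nat.cast_one, ← pow_val_eq_iff hx, pow_mul, hb, pow_one]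
    push_cast at h2' h3
    rw [mul_pow] at h2'
    have hbi : (a i : ZMod p) ^ e * (b : ZMod p) ^ e = 1 := by rw [← mul_pow, h3, one_pow]
    have hb0 : (b : ZMod p) ^ e ≠ 0 := fun h0 => by rw [h0, mul_zero] at hbi; exact zero_ne_one hbi
    exact mul_right_cancel₀ hb0 (hbi.trans h2'.symm)
  · obtain ⟨g, k, hk, rfl⟩ := J4Eleven.exists_conj_pow h2 hx hy
    have hk0 : (k : ZMod p) ≠ 0 := fun h => hk ((ZMod.natCast_eq_zero_iff _ _).1 h)
    obtain ⟨i, hi⟩ := hdec (k : ZMod p) hk0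
    obtain ⟨c, hc⟩ := hroot ((k : ZMod p) * (a i : ZMod p)⁻¹) (by
      rw [mul_pow, hi, inv_pow, mul_inv_cancel₀ (pow_ne_zero _ (ha i))])
    refine ⟨i, (isConj_iff.2 ⟨g, rfl⟩ : IsConj (x ^ k) _).symm.trans (IsConj.symm (isConj_iff.2 ⟨c, ?_⟩))⟩
    rw [← conj_pow, hc, ← pow_mul, pow_val_eq_iff hx, Nat.cast_mul, ZMod.natCast_zmod_val, mul_assoc,
      inv_mul_cancel₀ (ha i), mul_one]
  · refine le_antisymm (fun c hc => ?_) (fun c hc => ?_)
    · obtain ⟨b, hb⟩ := hback i
      rw [Subgroup.mem_centralizer_singleton_iff] at hc ⊢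
      rw [← hb]
      exact (show Commute c (x ^ a i) from hc).pow_right b
    · rw [Subgroup.mem_centralizer_singleton_iff] at hc ⊢
      exact (show Commute c x from hc).pow_right (a i)

/-- A centralizer equal to the group generated contributes one class. -/
theorem numCls_cyclic {L : List ℕ} (hpL : p ∉ L) {x : Γ} (hx : orderOf x = p) {H : Subgroup Γ}
    (hH : H = Subgroup.zpowers x) : NumCls (OnlyP (Γ := ↥H) L) 1 := by
  subst hH
  refine numCls_one fun y hy => ?_
  have hd : orderOf y ∣ p := (orderOf_dvd_natCard y).trans (by rw [Nat.card_zpowers, hx])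
  rcases (Nat.dvd_prime hp.out).1 hd with h | h
  · exact orderOf_eq_one_iff.1 h
  · exact absurd (hy p hp.out (h ▸ dvd_rfl)) hpL

end Cfsg.Lib.J4Classes
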