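import Cfsg.Agent.Lib.J4Classes.Five
import Cfsg.Agent.Lib.J4Classes.Prime
import Cfsg.Agent.Lib.J4Classes.Small

/-!
# The classes adjoined by the primes 5 and 7
-/

set_option autoImplicit false
set_option linter.style.haveILetI false

namespace Cfsg.Lib.J4Classes

open Cfsg.Lib.J4Real

theorem sq_not_dvd_order {p : ℕ} (h : ¬ p ^ 2 ∣ Nat.card ↥Gsub) (x : ↥Gsub) : ¬ p ^ 2 ∣ orderOf x :=
  fun hd => h (hd.trans (orderOf_dvd_natCard x))

theorem five_reps_ok : ∀ k : ZMod 5, k ≠ 0 → ∃ i : Fin 1, k ^ 4 = (((fun _ => 1) i : ℕ) : ZMod 5) ^ 4 := by decide +kernel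

theorem seven_reps_ne : ∀ i : Fin 2, ((![1, 3] i : ℕ) : ZMod 7) ≠ 0 := by decide +kernel

theorem seven_reps_ok : ∀ k : ZMod 7, k ≠ 0 → ∃ i : Fin 2, k ^ 3 = ((![1, 3] i : ℕ) : ZMod 7) ^ 3 := by decide +kernel

theorem seven_reps_inj : ∀ i j : Fin 2, ((![1, 3] i : ℕ) : ZMod 7) ^ 3 = ((![1, 3] j : ℕ) : ZMod 7) ^ 3 → i = j := by
  decide +kernel

/-- The stage of the prime 5. -/
theorem stage_five (hF : LocalFacts ↥Gsub) {k : ℕ} (h : NumCls (OnlyP (Γ := ↥Gsub) [3, 2]) k) :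
    NumCls (OnlyP (Γ := ↥Gsub) [5, 3, 2]) (k + 1 * 9) := by
  haveI : Fact (Nat.Prime 5) := ⟨by norm_num⟩
  obtain ⟨hC, hN⟩ := hF.five _ orderOf_yFiveG
  obtain ⟨r, hr1, hr2, hr3, hr4⟩ := prime_reps (e := 4) (n := 1) hF.five_sq orderOf_yFiveG (by norm_num)
    (by rw [hC, hN]) (fun _ => 1) (fun _ => by rw [Nat.cast_one]; exact one_ne_zero)
    five_reps_ok (fun i j _ => Subsingleton.elim i j)
  refine h.stage (by norm_num) (by decide) (sq_not_dvd_order hF.five_sq) hr1 hr2 hr3 fun i => ?_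
  rw [hr4 i]
  exact numCls_five hF

/-- The stage of the prime 7. -/
theorem stage_seven (hF : LocalFacts ↥Gsub) {k : ℕ} (h : NumCls (OnlyP (Γ := ↥Gsub) [5, 3, 2]) k) :
    NumCls (OnlyP (Γ := ↥Gsub) [7, 5, 3, 2]) (k + 2 * 7) := by
  haveI : Fact (Nat.Prime 7) := ⟨by norm_num⟩
  obtain ⟨y, hy⟩ := exists_prime_orderOf_dvd_card' (G := ↥Gsub) 7 (by rw [card_Gsub]; norm_num)
  obtain ⟨hC, hN, f, hf, hk⟩ := hF.seven y hy
  obtain ⟨r, hr1, hr2, hr3, hr4⟩ := prime_reps (e := 3) (n := 2) hF.seven_sq hy (by norm_num)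
    (by rw [hC, hN]) ![1, 3] seven_reps_ne seven_reps_ok seven_reps_inj
  refine h.stage (by norm_num) (by decide) (sq_not_dvd_order hF.seven_sq) hr1 hr2 hr3 fun i => ?_
  rw [hr4 i]
  exact numCls_symFive.of_central_quotient f hf (show Nat.Prime 7 by norm_num) (by decide) hk

end Cfsg.Lib.J4Classes
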