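import Cfsg.Agent.Lib.J4Classes.ThreeDefs

/-!
# Kernel checks for the classes of 2-elements centralizing an element of order 3
-/

set_option autoImplicit false
set_option maxRecDepth 100000
set_option maxHeartbeats 0

namespace Cfsg.Lib.J4Classes

open Cfsg.Lib.J4Real

theorem y_ok : yCheck = true := by decide +kernel

theorem group_ok : groupCheck = true := by decide +kernel

theorem inv_ok : invCheck = true := by decide +kernel

theorem tab_three_ok : (List.range 256).all tabThreeStep = true := by decide +kernel

theorem links_three_ok : (List.range 13).all linkThree = true := by decide +kernel

theorem edges_three_ok : threeEdges.all edgeThree = true := by decide +kernel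

theorem centre_ok : (List.range 256).all centreStep = true := by decide +kernel

theorem swap_ok : (List.range 256).all swapStep = true := by decide +kernel

theorem twist_ok : twistCheck = true := by decide +kernel

theorem final_vals_ok : (Nat.beq (threeFinal.getD 7 0) 10 && Nat.beq (threeFinal.getD 8 0) 12 &&
    Nat.beq threeFinal.length 9 && Nat.blt 0 threeEdges.length) = true := by decide +kernel

theorem sep_three_ok : ((List.range 9).all fun f => (List.range 9).all (sepThree f)) = true := by decide +kernel

end Cfsg.Lib.J4Classes
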