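import Cfsg.Agent.Lib.J4Classes.ThreeDefs

/-!
# Kernel checks of the invariants of the classes centralizing an element of order 3
-/

set_option autoImplicit false
set_option maxRecDepth 100000
set_option maxHeartbeats 0

namespace Cfsg.Lib.J4Classes

theorem fin_three_ok0 : finThreeCheck 0 = true := by decide +kernel

theorem fin_three_ok1 : finThreeCheck 1 = true := by decide +kernel

theorem fin_three_ok2 : finThreeCheck 2 = true := by decide +kernel

theorem fin_three_ok3 : finThreeCheck 3 = true := by decide +kernel

theorem fin_three_ok4 : finThreeCheck 4 = true := by decide +kernel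

theorem fin_three_ok5 : finThreeCheck 5 = true := by decide +kernel

theorem fin_three_ok6 : finThreeCheck 6 = true := by decide +kernel

theorem fin_three_ok7 : finThreeCheck 7 = true := by decide +kernel

theorem fin_three_ok8 : finThreeCheck 8 = true := by decide +kernel

theorem fins_three_ok : (List.range 9).all finThreeCheck = true := by
  rw [List.all_eq_true]
  intro f hf
  rw [List.mem_range] at hf
  match f, hf with
  | 0, _ => exact fin_three_ok0
  | 1, _ => exact fin_three_ok1
  | 2, _ => exact fin_three_ok2
  | 3, _ => exact fin_three_ok3
  | 4, _ => exact fin_three_ok4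
  | 5, _ => exact fin_three_ok5
  | 6, _ => exact fin_three_ok6
  | 7, _ => exact fin_three_ok7
  | 8, _ => exact fin_three_ok8
  | f + 9, hf => exact absurd hf (Nat.not_lt.2 (Nat.le_add_left 9 f))

end Cfsg.Lib.J4Classes
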