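import Cfsg.Agent.Lib.J4Classes.Count
import Cfsg.Agent.Lib.J4Classes.ThreeFacts
import Cfsg.Agent.Lib.J4Classes.ThreeChecks
import Cfsg.Agent.Lib.J4Classes.ThreeFins

/-!
# The nine classes of 2-elements centralizing an element of order 3
-/

set_option autoImplicit false
set_option maxRecDepth 20000
set_option linter.style.haveILetI false

namespace Cfsg.Lib.J4Classes

open Cfsg.Lib.J4Real Cfsg.Lib.CosetEnum Cfsg.Lib.J4Pres

attribute [local irreducible] tW fixM tAct tTab threeY threeTab threeTwist threeEdges threeFinal threeCerts threeMats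
  threeMixMats threeRoots sameW walkW wMask firstEdge

/-- A p-group is conjugate into a subgroup of index prime to `p`. -/
theorem exists_conj_le_coprime {Γ : Type*} [Group Γ] [Finite Γ] {p : ℕ} [Fact p.Prime] (H : Subgroup Γ)
    (hH : ¬ p ∣ H.index) {A : Subgroup Γ} (hA : IsPGroup p A) : ∃ g : Γ, ∀ a ∈ A, g * a * g⁻¹ ∈ H := by
  obtain ⟨q, hq⟩ := hA.nonempty_fixed_point_of_prime_not_dvd_card (Γ ⧸ H) (by rwa [← Subgroup.index_eq_card])
  induction q using QuotientGroup.induction_on with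
  | _ g =>
    refine ⟨g⁻¹, fun a ha => ?_⟩
    have h := hq ⟨a, ha⟩
    change ((a * g : Γ) : Γ ⧸ H) = (g : Γ ⧸ H) at h
    have h' := H.inv_mem (QuotientGroup.eq.1 h)
    rw [show ((a * g)⁻¹ * g)⁻¹ = g⁻¹ * a * g by group] at h'
    rwa [inv_inv]

theorem mem_normalizer_of_map_le {Γ : Type*} [Group Γ] [Finite Γ] {A : Subgroup Γ} {g : Γ}
    (hle : ∀ a ∈ A, g * a * g⁻¹ ∈ A) : g ∈ Subgroup.normalizer (A : Set Γ) := by
  have h : A.map (MulAut.conj g).toMonoidHom ≤ A := by rintro _ ⟨a, ha, rfl⟩; exact hle a ha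
  have he := Subgroup.eq_of_le_of_card_ge h (Subgroup.card_map_of_injective (MulAut.conj g).injective).ge
  rw [Subgroup.mem_normalizer_iff]
  intro b
  refine ⟨hle b, fun hb => ?_⟩
  rw [← he] at hb
  obtain ⟨c, hc, e⟩ := hb
  exact (MulAut.conj g).injective e ▸ hc

theorem not_beq_self {a b : ℕ} (h : (!Nat.beq a b) = true) : a ≠ b := fun e => by
  rw [e, Nat.beq_refl] at h
  exact Bool.noConfusion h

theorem linMask_add (C : List ℕ) : ∀ n a b, linMask C n (a ^^^ b) = linMask C n a ^^^ linMask C n b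
  | 0, _, _ => by simp [linMask]
  | n + 1, a, b => by
    simp only [linMask, linMask_add C n a b, Nat.testBit_xor]
    cases a.testBit n <;> cases b.testBit n <;>
      simp [Nat.xor_assoc, Nat.xor_comm, Nat.xor_left_comm]

/-- The element of order 3. -/
noncomputable def yW : Equiv.Perm Vec := wp threeY

theorem y_bw : bw threeY = true := by
  have h := y_ok
  simp only [yCheck, Bool.and_eq_true] at h
  exact h.1.1

theorem yW_eq : yW = pp (0, threeY) := by simp [yW, pp, eW_zero]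

/-- The element of order 3 in the group. -/
noncomputable def yG : ↥Gsub := ⟨yW, by rw [yW_eq]; exact pp_mem_G y_bw⟩

theorem orderOf_yG : orderOf yG = 3 := by
  have h := y_ok
  simp only [yCheck, Bool.and_eq_true, Bool.not_eq_true'] at h
  obtain ⟨⟨hb, h3⟩, h1⟩ := h
  haveI : Fact (Nat.Prime 3) := ⟨Nat.prime_three⟩
  refine orderOf_eq_prime (Subtype.ext ?_) fun e => ?_
  · show yW ^ 3 = 1
    rw [pow_three, yW, ← wp_append, ← wp_append, wp_eq_of_walk (bw_append hb (bw_append hb hb)) rfl h3, wp_nil]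
  · have e' : wp threeY = 1 := congrArg Subtype.val e
    have := (pp_inj (a := (0, threeY)) (b := (0, [])) hb rfl (by norm_num) (by norm_num)
      (by rw [← yW_eq, yW, e']; simp [pp, eW_zero, wp_nil])).2
    rw [h1] at this
    exact Bool.noConfusion this

theorem pairCent_spec {p : ℕ × List ℕ} (h : pairCent p = true) :
    bw p.2 = true ∧ p.1 < 2048 ∧ Commute (pp p) yW := by
  simp only [pairCent, Bool.and_eq_true, Nat.blt_eq, Nat.beq_eq] at h
  obtain ⟨⟨⟨hb, hlt⟩, hf⟩, hw⟩ := h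
  refine ⟨hb, hlt, ?_⟩
  rw [yW_eq, Commute, SemiconjBy, pp_mul hb, pp_mul y_bw]
  show eW _ * wp _ = eW _ * wp _
  rw [wp_eq_of_walk (bw_append hb y_bw) (bw_append y_bw hb) hw]
  congr 2
  show p.1 ^^^ wMask p.2 0 = 0 ^^^ wMask threeY p.1
  rw [hf, Nat.zero_xor]
  have : ∀ w : List ℕ, wMask w 0 = 0 := by
    intro w
    induction w with
    | nil => simp [wMask]
    | cons g w ih =>
      have e : wMask (g :: w) 0 = cMask g (wMask w 0) := by simp [wMask]
      have h0 := linMask_add (conjMasks.getD g []) 11 0 0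
      rw [Nat.xor_self, Nat.xor_self] at h0
      rw [e, ih]
      exact h0
  rw [this, Nat.xor_zero]

/-- Conjugacy by elements centralizing the element of order 3. -/
def YConj (x x' : Equiv.Perm Vec) : Prop := ∃ g ∈ Gsub, Commute g yW ∧ g * x * g⁻¹ = x'

theorem YConj.refl (x : Equiv.Perm Vec) : YConj x x := ⟨1, one_mem _, Commute.one_left _, by group⟩

theorem YConj.symm {x x' : Equiv.Perm Vec} (h : YConj x x') : YConj x' x := by
  obtain ⟨g, hg, hc, rfl⟩ := h
  exact ⟨g⁻¹, inv_mem hg, hc.inv_left, by group⟩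

theorem YConj.trans {x x' x'' : Equiv.Perm Vec} (h : YConj x x') (h' : YConj x' x'') : YConj x x'' := by
  obtain ⟨g, hg, hc, rfl⟩ := h
  obtain ⟨k, hk, hkc, rfl⟩ := h'
  exact ⟨k * g, mul_mem hk hg, hkc.mul_left hc, by group⟩

theorem YConj.gConj {x x' : Equiv.Perm Vec} (h : YConj x x') : GConj x x' := by
  obtain ⟨g, hg, -, e⟩ := h
  exact ⟨g, hg, e⟩

theorem YConj.mul {x x' : Equiv.Perm Vec} (h : YConj x x') : YConj (yW * x) (yW * x') := by
  obtain ⟨g, hg, hc, rfl⟩ := h
  exact ⟨g, hg, hc, by rw [← mul_assoc g, hc.eq]; group⟩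

theorem move_spec {a p q : ℕ × List ℕ} (ha : pairCent a = true) (h : pairMove a p q = true) : YConj (pp p) (pp q) := by
  obtain ⟨hb, -, hc⟩ := pairCent_spec ha
  simp only [pairMove, Bool.and_eq_true, Nat.beq_eq] at h
  obtain ⟨⟨⟨hp, hq⟩, hm⟩, hw⟩ := h
  obtain ⟨p1, p2⟩ := p
  obtain ⟨q1, q2⟩ := q
  exact ⟨pp a, pp_mem_G hb, hc, pp_conj hb hp hq hm hw⟩

theorem group_spec {a : ℕ} (ha : a < 8) : pairCent (0, tW a) = true ∧
    (∀ k < 32, pairCent (fixM k, []) = true ∧ tAct a k < 32 ∧ fixM (tAct a k) = wMask (tW a) (fixM k)) ∧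
    ∀ b < 8, tTab a b < 8 ∧ walkEq (tW a ++ tW b) (tW (tTab a b)) = true ∧
      (a = b ∨ walkEq (tW a) (tW b) = false) := by
  have h := group_ok
  simp only [groupCheck, Bool.and_eq_true, List.all_eq_true, Bool.or_eq_true, Bool.not_eq_true', Nat.blt_eq,
    Nat.beq_eq, List.mem_range] at h
  obtain ⟨⟨h1, h2⟩, h3⟩ := h.2 a ha
  exact ⟨h1, fun k hk => ⟨(h2 k hk).1.1, (h2 k hk).1.2, (h2 k hk).2⟩,
    fun b hb => ⟨(h3 b hb).1.1, (h3 b hb).1.2, (h3 b hb).2⟩⟩

theorem group_base : fixM 9 = 313 ∧ walkEq (tW 0) [] = true ∧ fixM 0 = 0 ∧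
    ∀ j < 32, ∀ k < 32, fixM j = fixM k → j = k := by
  have h := group_ok
  simp only [groupCheck, Bool.and_eq_true, List.all_eq_true, Bool.or_eq_true, Bool.not_eq_true', Nat.beq_eq,
    List.mem_range] at h
  refine ⟨h.1.1.1.1, h.1.1.1.2, h.1.1.2, fun j hj k hk e => ?_⟩
  rcases h.1.2 j hj k hk with h' | h'
  · exact h'
  · rw [e, Nat.beq_refl] at h'
    exact Bool.noConfusion h'

theorem tPair_cent {n : ℕ} (hn : n < 256) : pairCent (tPair n) = true := by
  obtain ⟨h1, h2, -⟩ := group_spec (Nat.mod_lt n (by norm_num : 0 < 8))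
  have h3 := (h2 (n / 8) (by omega)).1
  simp only [pairCent, Bool.and_eq_true, tPair] at h1 h3 ⊢
  exact ⟨⟨⟨h1.1.1.1, h3.1.1.2⟩, h3.1.2⟩, h1.2⟩

theorem tMul_lt {n m : ℕ} (hn : n < 256) (hm : m < 256) : tMul n m < 256 := by
  obtain ⟨-, h2, h3⟩ := group_spec (Nat.mod_lt n (by norm_num : 0 < 8))
  have ha := (h2 (m / 8) (by omega)).2.1
  have hb := (h3 (m % 8) (Nat.mod_lt _ (by norm_num))).1
  have := Nat.xor_lt_two_pow (show n / 8 < 2 ^ 5 by omega) (show tAct (n % 8) (m / 8) < 2 ^ 5 from ha)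
  unfold tMul
  omega

theorem tPair_mul {n m : ℕ} (hn : n < 256) (hm : m < 256) : pp (tPair n) * pp (tPair m) = pp (tPair (tMul n m)) := by
  obtain ⟨-, h2, h3⟩ := group_spec (Nat.mod_lt n (by norm_num : 0 < 8))
  obtain ⟨-, ha, hact⟩ := h2 (m / 8) (by omega)
  obtain ⟨hb, hw, -⟩ := h3 (m % 8) (Nat.mod_lt _ (by norm_num))
  have b1 := (pairCent_spec (tPair_cent hn)).1
  have b2 := (pairCent_spec (tPair_cent hm)).1
  have b3 := (pairCent_spec (tPair_cent (tMul_lt hn hm))).1
  rw [pp_mul b1]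
  have e1 : tMul n m / 8 = (n / 8) ^^^ tAct (n % 8) (m / 8) := by unfold tMul; omega
  have e2 : tMul n m % 8 = tTab (n % 8) (m % 8) := by unfold tMul; omega
  show eW _ * wp _ = eW _ * wp _
  simp only [tPair, e1, e2] at b1 b2 b3 ⊢
  rw [wp_eq_of_walk (bw_append b1 b2) b3 hw]
  congr 2
  rw [← hact]
  unfold fixM
  rw [linMask_add]

theorem tPair_inj {n m : ℕ} (hn : n < 256) (hm : m < 256) (h : pp (tPair n) = pp (tPair m)) : n = m := by
  obtain ⟨b1, l1, -⟩ := pairCent_spec (tPair_cent hn)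
  obtain ⟨b2, l2, -⟩ := pairCent_spec (tPair_cent hm)
  obtain ⟨e1, e2⟩ := pp_inj b1 b2 l1 l2 h
  have h1 := group_base.2.2.2 _ (by omega) _ (by omega) e1
  rcases ((group_spec (Nat.mod_lt n (by norm_num : 0 < 8))).2.2 (m % 8) (Nat.mod_lt _ (by norm_num))).2.2 with h' | h'
  · omega
  · simp only [tPair] at e2
    rw [h'] at e2
    exact Bool.noConfusion e2

theorem tPair_zero : pp (tPair 0) = 1 := by
  obtain ⟨-, h0, h0', -⟩ := group_base
  have hb := (pairCent_spec (tPair_cent (show 0 < 256 by norm_num))).1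
  show eW (fixM 0) * wp (tW 0) = 1
  rw [h0', eW_zero, one_mul, wp_eq_of_walk (by simpa [tPair] using hb) rfl h0, wp_nil]

theorem tPair_z : pp (tPair 72) = eW 313 := by
  obtain ⟨hz, h0, -, -⟩ := group_base
  have hb := (pairCent_spec (tPair_cent (show 72 < 256 by norm_num))).1
  show eW (fixM 9) * wp (tW 0) = eW 313
  rw [hz, wp_eq_of_walk (by simpa [tPair] using hb) rfl h0, wp_nil, mul_one]

/-- The group of order 256. -/
noncomputable def Tsub : Subgroup (Equiv.Perm Vec) where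
  carrier := {x | ∃ n < 256, pp (tPair n) = x}
  one_mem' := ⟨0, by norm_num, tPair_zero⟩
  mul_mem' := by
    rintro _ _ ⟨n, hn, rfl⟩ ⟨m, hm, rfl⟩
    exact ⟨_, tMul_lt hn hm, (tPair_mul hn hm).symm⟩
  inv_mem' := by
    rintro _ ⟨n, hn, rfl⟩
    have h := List.all_eq_true.1 inv_ok n (List.mem_range.2 hn)
    simp only [List.any_eq_true, List.mem_range, Nat.beq_eq] at h
    obtain ⟨m, hm, e⟩ := h
    refine ⟨m, hm, (inv_eq_of_mul_eq_one_right ?_).symm⟩
    rw [tPair_mul hn hm, e, tPair_zero]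

theorem card_Tsub : Nat.card ↥Tsub = 256 := by
  let f : Fin 256 → ↥Tsub := fun n => ⟨pp (tPair n), n, n.2, rfl⟩
  have hb : Function.Bijective f := ⟨fun a b e => Fin.ext (tPair_inj a.2 b.2 (congrArg Subtype.val e)),
    fun ⟨x, n, hn, hx⟩ => ⟨⟨n, hn⟩, Subtype.ext hx⟩⟩
  rw [← Nat.card_congr (Equiv.ofBijective f hb), Nat.card_fin]

/-- The centralizer of the element of order 3. -/
noncomputable abbrev Cy : Subgroup ↥Gsub := Subgroup.centralizer ({yG} : Set ↥Gsub)

theorem mem_Cy {g : ↥Gsub} : g ∈ Cy ↔ Commute (g : Equiv.Perm Vec) yW := by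
  rw [Subgroup.mem_centralizer_singleton_iff]
  exact ⟨fun h => congrArg Subtype.val h, fun h => Subtype.ext h⟩

theorem yConj_iff {x x' : ↥Cy} : YConj (x : Equiv.Perm Vec) (x' : Equiv.Perm Vec) ↔ IsConj x x' := by
  rw [isConj_iff]
  constructor
  · rintro ⟨g, hg, hc, e⟩
    exact ⟨⟨⟨g, hg⟩, mem_Cy.2 hc⟩, Subtype.ext (Subtype.ext e)⟩
  · rintro ⟨g, e⟩
    exact ⟨(g : ↥Gsub), g.1.2, mem_Cy.1 g.2, congrArg (fun u : ↥Cy => ((u : ↥Gsub) : Equiv.Perm Vec)) e⟩

/-- The group of order 256 inside the centralizer. -/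
noncomputable def TC : Subgroup ↥Cy := (Tsub.subgroupOf Gsub).subgroupOf Cy

theorem mem_TC {g : ↥Cy} : g ∈ TC ↔ ∃ n < 256, pp (tPair n) = ((g : ↥Gsub) : Equiv.Perm Vec) := by
  rw [TC, Subgroup.mem_subgroupOf, Subgroup.mem_subgroupOf]
  rfl

theorem index_TC (hF : ThreeFacts ↥Gsub) : ¬ 2 ∣ TC.index := by
  have hle : Tsub ≤ Gsub := fun x ⟨n, hn, e⟩ => e ▸ pp_mem_G (pairCent_spec (tPair_cent hn)).1
  have hle' : Tsub.subgroupOf Gsub ≤ Cy := fun g hg => by
    obtain ⟨n, hn, e⟩ := hg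
    rw [mem_Cy, ← show pp (tPair n) = (g : Equiv.Perm Vec) from e]
    exact (pairCent_spec (tPair_cent hn)).2.2
  have h := Subgroup.card_mul_index TC
  rw [TC, Nat.card_congr (Subgroup.subgroupOfEquivOfLe hle').toEquiv,
    Nat.card_congr (Subgroup.subgroupOfEquivOfLe hle).toEquiv, card_Tsub, (hF.cent yG orderOf_yG).1] at h
  intro h2
  rw [TC] at h2
  have e := Nat.eq_of_mul_eq_mul_left (by norm_num : 0 < 256) (h.trans (show (2661120 : ℕ) = 256 * 10395 by norm_num))
  rw [e] at h2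
  norm_num at h2

theorem edgeThree_spec {e : ℕ × ℕ × List ℕ} (he : e ∈ threeEdges) :
    wp e.2.2 ∈ Gsub ∧ Commute (wp e.2.2) yW ∧ YConj (pp (rootThree e.2.1)) (pp (rootThree e.1)) := by
  have h := List.all_eq_true.1 edges_three_ok e he
  simp only [edgeThree, inRange, Bool.and_eq_true, List.all_eq_true, Nat.blt_eq] at h
  obtain ⟨⟨hr, hy⟩, hc⟩ := h
  have hy' := sameW_wp hy
  have hc' := sameW_wp hc
  simp only [pairW, wp_append] at hy' hc'
  refine ⟨wp_mem_G hr, hy', ⟨wp e.2.2, wp_mem_G hr, hy', mul_inv_eq_iff_eq_mul.2 ?_⟩⟩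
  simp only [pp, eW]
  exact hc'

theorem tab_spec {n : ℕ} (hn : n < 256) : ∃ r < 13, YConj (pp (tPair n)) (pp (rootThree r)) := by
  have h := List.all_eq_true.1 tab_three_ok n (List.mem_range.2 hn)
  simp only [tabThreeStep, Bool.and_eq_true, Nat.blt_eq] at h
  exact ⟨_, h.1.1, move_spec h.1.2 h.2⟩

theorem link_spec {r : ℕ} (hr : r < 13) : ∃ f < 9, YConj (pp (rootThree r)) (pp (rootThree (threeFinal.getD f 0))) := by
  have hlen : threeFinal.length = 9 := by
    have h := final_vals_ok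
    simp only [Bool.and_eq_true, Nat.beq_eq] at h
    exact h.1.2
  have key : ∀ v ∈ threeFinal, ∃ f < 9, threeFinal.getD f 0 = v := fun v hv => by
    obtain ⟨f, hf, e⟩ := List.getElem_of_mem hv
    exact ⟨f, hlen ▸ hf, by rw [List.getD_eq_getElem _ _ hf, e]⟩
  have h := List.all_eq_true.1 links_three_ok r (List.mem_range.2 hr)
  simp only [linkThree, Bool.or_eq_true, Bool.and_eq_true, List.any_eq_true, Nat.beq_eq] at h
  rcases h with ⟨v, hv, e⟩ | ⟨e, he, e1, v, hv, e2⟩
  · obtain ⟨f, hf, hfv⟩ := key v hv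
    exact ⟨f, hf, by rw [hfv, e]; exact YConj.refl _⟩
  · obtain ⟨f, hf, hfv⟩ := key v hv
    refine ⟨f, hf, ?_⟩
    rw [hfv, e2, ← e1]
    exact (edgeThree_spec he).2.2.symm

theorem diffW_ne {a b : List ℕ} (h : diffW a b = true) : wp a ≠ wp b := by
  intro e
  simp only [diffW, inRange, Bool.and_eq_true, List.all_eq_true, Nat.blt_eq, List.any_eq_true, List.mem_range] at h
  obtain ⟨⟨ha, hb⟩, i, hi, hne⟩ := h
  have hlt : 2 ^ i < 2 ^ 112 := Nat.pow_lt_pow_right (by norm_num) hi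
  refine not_beq_self hne ?_
  rw [← wp_apply a ha ⟨_, hlt⟩, ← wp_apply b hb ⟨_, hlt⟩, e]

/-- The central involution. -/
theorem z_central (hF : ThreeFacts ↥Gsub) {g : Equiv.Perm Vec} (hg : g ∈ Gsub) (hc : Commute g yW) :
    Commute g (eW 313) := by
  obtain ⟨-, t, ht, hty, htc⟩ := hF.cent yG orderOf_yG
  let tC : ↥Cy := ⟨t, mem_Cy.2 (congrArg Subtype.val hty.eq)⟩
  have hcen : ∀ u : ↥Cy, u * tC = tC * u := fun u =>
    Subtype.ext (htc u.1 (Subgroup.mem_centralizer_singleton_iff.1 u.2)).eq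
  haveI : Fact (Nat.Prime 2) := ⟨Nat.prime_two⟩
  obtain ⟨c, hcT⟩ := exists_conj_le_coprime TC (index_TC hF) (A := Subgroup.zpowers tC) (p := 2)
    (IsPGroup.of_card (n := 1) (by rw [Nat.card_zpowers, pow_one, ← ht, ← Subgroup.orderOf_coe]))
  have hmem := hcT tC (Subgroup.mem_zpowers _)
  rw [show c * tC * c⁻¹ = tC by rw [hcen c]; group] at hmem
  obtain ⟨n, hn, hnt⟩ := mem_TC.1 hmem
  suffices n = 72 by
    subst this
    rw [tPair_z] at hnt
    rw [hnt]
    exact congrArg Subtype.val (htc ⟨g, hg⟩ (Subtype.ext hc.eq)).eq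
  have h := List.all_eq_true.1 centre_ok n (List.mem_range.2 hn)
  simp only [centreStep, Bool.or_eq_true, List.any_eq_true, List.mem_range] at h
  have htt : (t : Equiv.Perm Vec) * t = 1 := by
    rw [← pow_two, ← Subgroup.coe_pow, ← ht, pow_orderOf_eq_one, Subgroup.coe_one]
  rcases h with (((h | h) | h) | ⟨m, hm, h⟩) | h
  · exfalso
    rw [Nat.beq_eq] at h
    subst h
    rw [tPair_zero] at hnt
    have : t = 1 := Subtype.ext hnt.symm
    rw [this, orderOf_one] at ht
    norm_num at ht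
  · exact Nat.eq_of_beq_eq_true h
  · exfalso
    refine not_beq_self h (tPair_inj (tMul_lt hn hn) (by norm_num) ?_)
    rw [← tPair_mul hn hn, tPair_zero, hnt]
    exact htt
  · exfalso
    refine not_beq_self h (tPair_inj (tMul_lt hn hm) (tMul_lt hm hn) ?_)
    rw [← tPair_mul hn hm, ← tPair_mul hm hn, hnt]
    obtain ⟨hb, -, hcy⟩ := pairCent_spec (tPair_cent hm)
    exact congrArg Subtype.val (htc ⟨_, pp_mem_G hb⟩ (Subtype.ext hcy.eq)).eq.symm
  · exfalso
    refine diffW_ne h ?_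
    simp only [pairW, wp_append]
    have hmemE : threeEdges.getD 0 (0, 0, []) ∈ threeEdges := by
      have h := final_vals_ok
      simp only [Bool.and_eq_true, Nat.blt_eq] at h
      rw [List.getD_eq_getElem _ _ h.2]
      exact List.getElem_mem h.2
    obtain ⟨hG1, hy1, -⟩ := edgeThree_spec hmemE
    have := congrArg Subtype.val (htc ⟨_, hG1⟩ (Subtype.ext hy1.eq)).eq
    change wp firstEdge * (eW (tPair n).1 * wp (tPair n).2) = eW (tPair n).1 * wp (tPair n).2 * wp firstEdge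
    rw [show eW (tPair n).1 * wp (tPair n).2 = (t : Equiv.Perm Vec) from hnt]
    unfold firstEdge
    exact this

theorem twist_spec (hF : ThreeFacts ↥Gsub) :
    YConj (pp (rootThree 10) * eW 313) (pp (rootThree 12)) ∧ pp (rootThree 10) ^ 4 ≠ 1 := by
  have h := twist_ok
  simp only [twistCheck, Bool.and_eq_true, Bool.not_eq_true'] at h
  obtain ⟨⟨ha, hm⟩, hw⟩ := h
  have hb : bw (rootThree 10).2 = true := by
    have h' := hm
    simp only [pairMove, Bool.and_eq_true] at h'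
    exact h'.1.1.1
  refine ⟨?_, fun e => ?_⟩
  · have h' := move_spec ha hm
    have e : pp (rootThree 10) * pp (313, []) =
        pp ((rootThree 10).1 ^^^ wMask (rootThree 10).2 313, (rootThree 10).2) := by
      rw [pp_mul hb, List.append_nil]
    rw [show pp ((313 : ℕ), ([] : List ℕ)) = eW 313 by simp [pp, wp_nil]] at e
    rwa [← e] at h'
  · rw [pow_succ', pow_succ', pow_succ', pow_one, pp_mul hb, pp_mul hb, pp_mul hb] at e
    simp only at e
    set M := (rootThree 10).1 ^^^ wMask (rootThree 10).2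
      ((rootThree 10).1 ^^^ wMask (rootThree 10).2 ((rootThree 10).1 ^^^ wMask (rootThree 10).2 (rootThree 10).1))
    have e' : pp (M % 2048, (rootThree 10).2 ++ ((rootThree 10).2 ++ ((rootThree 10).2 ++ (rootThree 10).2))) =
        pp (0, []) := by
      show eW (M % 2048) * _ = eW 0 * wp []
      rw [eW_mod, eW_zero, wp_nil, mul_one]
      exact e
    have h1 := (pp_inj (bw_append hb (bw_append hb (bw_append hb hb))) rfl (Nat.mod_lt _ (by norm_num)) (by norm_num) e').1
    have h2 : Nat.beq (M % 2048) 0 = true := by rw [show M % 2048 = 0 from h1]; rfl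
    exact Bool.noConfusion (hw.symm.trans h2)

theorem no_swap (hF : ThreeFacts ↥Gsub) :
    ¬ YConj (pp (rootThree 10)) (pp (rootThree 10) * eW 313) := by
  rintro ⟨g, hg, hc, e⟩
  have h4 := (twist_spec hF).2
  have hcent : Commute (pp (rootThree 10)) yW ∧ pp (rootThree 10) ∈ Gsub := by
    have h := List.all_eq_true.1 fins_three_ok 7 (by simp)
    simp only [finThreeCheck, Bool.and_eq_true] at h
    have hv := final_vals_ok
    simp only [Bool.and_eq_true, Nat.beq_eq] at hv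
    have h' := h.1.1.1.1
    rw [hv.1.1.1] at h'
    exact ⟨(pairCent_spec h').2.2, pp_mem_G (pairCent_spec h').1⟩
  have hz72 := pairCent_spec (tPair_cent (show 72 < 256 by norm_num))
  let h : ↥Cy := ⟨⟨_, hcent.2⟩, mem_Cy.2 hcent.1⟩
  let z : ↥Cy := ⟨⟨eW 313, by rw [← tPair_z]; exact pp_mem_G hz72.1⟩, mem_Cy.2 (show Commute (eW 313) yW by rw [← tPair_z]; exact hz72.2.2)⟩
  let u : ↥Cy := ⟨⟨g, hg⟩, mem_Cy.2 hc⟩
  have hzc : ∀ v : ↥Cy, Commute v z := fun v =>
    Subtype.ext (Subtype.ext (z_central hF v.1.2 (mem_Cy.1 v.2)).eq)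
  have hzz : z * z = 1 := Subtype.ext (Subtype.ext (eW_sq 313))
  have huh : u * h * u⁻¹ = h * z := Subtype.ext (Subtype.ext e)
  have hpow : ∀ k : ℕ, u ^ k * h * (u ^ k)⁻¹ = h * z ^ k := by
    intro k
    induction k with
    | zero => simp
    | succ k ih =>
      calc u ^ (k + 1) * h * (u ^ (k + 1))⁻¹ = u * (u ^ k * h * (u ^ k)⁻¹) * u⁻¹ := by rw [pow_succ']; group
        _ = u * h * u⁻¹ * (u * z ^ k * u⁻¹) := by rw [ih]; group
        _ = h * z ^ (k + 1) := by
          rw [huh, ((hzc u).pow_right k).eq, mul_inv_cancel_right, mul_assoc, ← pow_succ']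
  haveI : Fact (Nat.Prime 2) := ⟨Nat.prime_two⟩
  obtain ⟨a, m, hm2, hm⟩ := Nat.exists_eq_pow_mul_and_not_dvd (orderOf_pos u).ne' 2 (by norm_num)
  have hu' : (u ^ m) ^ 2 ^ a = 1 := by rw [← pow_mul, mul_comm, ← hm, pow_orderOf_eq_one]
  have hzm : z ^ m = z := by
    obtain ⟨k, rfl⟩ : Odd m := Nat.not_even_iff_odd.1 fun h => hm2 h.two_dvd
    rw [pow_succ, pow_mul, pow_two, hzz, one_pow, one_mul]
  have hswap : u ^ m * h * (u ^ m)⁻¹ = h * z := by rw [hpow, hzm]
  have hh16 : h ^ 2 ^ 4 = 1 := by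
    have h' := List.all_eq_true.1 fins_three_ok 7 (by simp)
    simp only [finThreeCheck, Bool.and_eq_true, List.all_eq_true, Nat.beq_eq, List.mem_range, applyWord_same] at h'
    have hv := final_vals_ok
    simp only [Bool.and_eq_true, Nat.beq_eq] at hv
    obtain ⟨⟨⟨⟨-, hmc⟩, hp⟩, -⟩, -⟩ := h'
    unfold finThree at hmc
    rw [hv.1.1.1] at hmc
    refine Subtype.ext (Subtype.ext ?_)
    show pp (rootThree 10) ^ 2 ^ 4 = 1
    refine Equiv.ext fun v => Subtype.ext ?_
    rw [pp_eq_word]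
    simp only [pairW] at hmc
    have key : ∀ (k : ℕ) (v : Vec), ((wp (eL (rootThree 10).1 ++ (rootThree 10).2) ^ k) v).1 =
        (applyRows (threeMats.getD 7 []))^[k] v.1 := by
      intro k
      induction k with
      | zero => intro v; rfl
      | succ k ih => intro v; rw [pow_succ' _ k, Equiv.Perm.mul_apply, mat_apply hmc, ih, Function.iterate_succ_apply']
    rw [key]
    have hx : ∀ n a b, (applyRows (threeMats.getD 7 []))^[n] (a ^^^ b) =
        (applyRows (threeMats.getD 7 []))^[n] a ^^^ (applyRows (threeMats.getD 7 []))^[n] b := by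
      intro n a b
      induction n with
      | zero => rfl
      | succ n ih => simp only [Function.iterate_succ_apply', ih, applyRows_xor]
    exact units_ext (g := id) (hx (2 ^ 4)) (fun _ _ => rfl) hp v.1 v.2
  -- the 2-group generated by the three elements
  have hcyc : ∀ {x : ↥Cy} {k : ℕ}, x ^ 2 ^ k = 1 → IsPGroup 2 ↥(Subgroup.zpowers x) := by
    intro x k hx
    obtain ⟨j, -, hj⟩ := (Nat.dvd_prime_pow Nat.prime_two).1 (orderOf_dvd_iff_pow_eq_one.2 hx)
    exact IsPGroup.of_card (n := j) (by rw [Nat.card_zpowers, hj])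
  let K : Subgroup ↥Cy := Subgroup.zpowers h ⊔ Subgroup.zpowers z
  have hK : IsPGroup 2 K := (hcyc hh16).to_sup_of_normal_right' (hcyc (k := 1) (by rw [pow_one, pow_two, hzz]))
    (by
      rw [Subgroup.zpowers_le]
      refine mem_normalizer_of_map_le fun b hb => ?_
      obtain ⟨j, rfl⟩ := Subgroup.mem_zpowers_iff.1 hb
      rw [((hzc h).zpow_right j).eq, mul_inv_cancel_right]
      exact zpow_mem (Subgroup.mem_zpowers z) j)
  have hnorm : Subgroup.zpowers (u ^ m) ≤ Subgroup.normalizer (K : Set ↥Cy) := by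
    rw [Subgroup.zpowers_le]
    refine mem_normalizer_of_map_le fun b hb => ?_
    have : K ≤ K.comap (MulAut.conj (u ^ m)).toMonoidHom := by
      refine sup_le ?_ ?_ <;> rw [Subgroup.zpowers_le, Subgroup.mem_comap]
      · show u ^ m * h * (u ^ m)⁻¹ ∈ K
        rw [hswap]
        exact mul_mem (Subgroup.mem_sup_left (Subgroup.mem_zpowers h)) (Subgroup.mem_sup_right (Subgroup.mem_zpowers z))
      · show u ^ m * z * (u ^ m)⁻¹ ∈ K
        rw [(hzc (u ^ m)).eq, mul_inv_cancel_right]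
        exact Subgroup.mem_sup_right (Subgroup.mem_zpowers z)
    exact this hb
  obtain ⟨c, hcT⟩ := exists_conj_le_coprime TC (index_TC hF) ((hcyc hu').to_sup_of_normal_right' hK hnorm)
  obtain ⟨n, hn, hn'⟩ := mem_TC.1 (hcT h (Subgroup.mem_sup_right (Subgroup.mem_sup_left (Subgroup.mem_zpowers h))))
  obtain ⟨k, hk, hk'⟩ := mem_TC.1 (hcT (u ^ m) (Subgroup.mem_sup_left (Subgroup.mem_zpowers _)))
  have h' := List.all_eq_true.1 swap_ok n (List.mem_range.2 hn)
  simp only [swapStep, Bool.or_eq_true, List.all_eq_true, List.mem_range] at h'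
  rcases h' with h' | h'
  · refine h4 ?_
    rw [Nat.beq_eq] at h'
    have e4 : pp (tPair n) ^ 4 = 1 := by
      rw [show (4 : ℕ) = 2 * 2 by norm_num, pow_mul, pow_two, pow_two, tPair_mul hn hn,
        tPair_mul (tMul_lt hn hn) (tMul_lt hn hn), h', tPair_zero]
    rw [hn'] at e4
    have e5 : (c * h * c⁻¹) ^ 4 = 1 := Subtype.ext (Subtype.ext e4)
    rw [conj_pow, conj_eq_one_iff] at e5
    exact congrArg (fun v : ↥Cy => ((v : ↥Gsub) : Equiv.Perm Vec)) e5
  · refine not_beq_self (h' k hk) (tPair_inj (tMul_lt hk hn) (tMul_lt (tMul_lt hn (by norm_num)) hk) ?_)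
    rw [← tPair_mul hk hn, ← tPair_mul (tMul_lt hn (by norm_num)) hk, ← tPair_mul hn (by norm_num : 72 < 256),
      tPair_z, hn', hk']
    have e6 : c * (u ^ m) * c⁻¹ * (c * h * c⁻¹) = c * h * c⁻¹ * z * (c * (u ^ m) * c⁻¹) := by
      calc c * (u ^ m) * c⁻¹ * (c * h * c⁻¹) = c * (u ^ m * h * (u ^ m)⁻¹) * c⁻¹ * (c * (u ^ m) * c⁻¹) := by group
        _ = c * h * c⁻¹ * (c * z * c⁻¹) * (c * (u ^ m) * c⁻¹) := by rw [hswap]; group
        _ = _ := by rw [(hzc c).eq, mul_inv_cancel_right]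
    exact congrArg (fun v : ↥Cy => ((v : ↥Gsub) : Equiv.Perm Vec)) e6

theorem final_cent {f : ℕ} (hf : f < 9) : pairCent (rootThree (threeFinal.getD f 0)) = true := by
  have h := List.all_eq_true.1 fins_three_ok f (List.mem_range.2 hf)
  simp only [finThreeCheck, Bool.and_eq_true] at h
  exact h.1.1.1.1

theorem final_pow {f : ℕ} (hf : f < 9) : pp (rootThree (threeFinal.getD f 0)) ^ 16 = 1 := by
  have h := List.all_eq_true.1 fins_three_ok f (List.mem_range.2 hf)
  simp only [finThreeCheck, Bool.and_eq_true, List.all_eq_true, Nat.beq_eq, List.mem_range, applyWord_same] at h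
  obtain ⟨⟨⟨⟨-, hm⟩, hp⟩, -⟩, -⟩ := h
  simp only [finThree, pairW] at hm
  refine Equiv.ext fun v => Subtype.ext ?_
  rw [pp_eq_word]
  have key : ∀ (k : ℕ) (v : Vec), ((wp (eL (rootThree (threeFinal.getD f 0)).1 ++
      (rootThree (threeFinal.getD f 0)).2) ^ k) v).1 = (applyRows (threeMats.getD f []))^[k] v.1 := by
    intro k
    induction k with
    | zero => intro v; rfl
    | succ k ih => intro v; rw [pow_succ' _ k, Equiv.Perm.mul_apply, mat_apply hm, ih, Function.iterate_succ_apply']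
  have hx : ∀ n a b, (applyRows (threeMats.getD f []))^[n] (a ^^^ b) =
      (applyRows (threeMats.getD f []))^[n] a ^^^ (applyRows (threeMats.getD f []))^[n] b := by
    intro n a b
    induction n with
    | zero => rfl
    | succ n ih => simp only [Function.iterate_succ_apply', ih, applyRows_xor]
  rw [key]
  exact units_ext (g := id) (hx 16) (fun _ _ => rfl) hp v.1 v.2

/-- The representatives. -/
noncomputable def threeRep (f : Fin 9) : ↥Cy :=
  ⟨⟨pp (rootThree (threeFinal.getD f 0)), pp_mem_G (pairCent_spec (final_cent f.2)).1⟩,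
    mem_Cy.2 (pairCent_spec (final_cent f.2)).2.2⟩

theorem vals_spec {f j : ℕ} (hf : f < 9) (hj : j < (valsThree f).length) :
    (imgN (if ((valsThree f).getD j (0, 0, 0)).1 = 0 then pp (rootThree (threeFinal.getD f 0))
      else yW * pp (rootThree (threeFinal.getD f 0))) ((valsThree f).getD j (0, 0, 0)).2.1).ncard =
      2 ^ ((valsThree f).getD j (0, 0, 0)).2.2 := by
  have h := List.all_eq_true.1 fins_three_ok f (List.mem_range.2 hf)
  simp only [finThreeCheck, Bool.and_eq_true, List.all_eq_true, Bool.or_eq_true] at h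
  obtain ⟨⟨⟨⟨-, hm⟩, -⟩, hmix⟩, hc⟩ := h
  rw [List.getD_eq_getElem _ _ hj]
  simp only [valsThree, List.getElem_map]
  have hj' : j < (threeCerts.getD f []).length := by simpa [valsThree] using hj
  have h' := hc _ (List.getElem_mem hj')
  cases hk : Nat.beq ((threeCerts.getD f [])[j]'hj').1 0 with
  | true =>
    rw [hk, cond_true] at h'
    rw [if_pos (Nat.eq_of_beq_eq_true hk), pp_eq_word]
    exact rankCheck_spec (by simpa only [finThree, pairW] using hm) h'
  | false =>
    rw [hk, cond_false, Bool.and_eq_true, Bool.not_eq_true'] at h'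
    rw [if_neg (fun e => by rw [e] at hk; exact absurd hk (by simp))]
    rcases hmix with h2 | h2
    · rw [h'.1] at h2; exact Bool.noConfusion h2
    · rw [pp_eq_word, yW, ← wp_append]
      exact rankCheck_spec (by simpa only [finThree, pairW] using h2) h'.2

/-- The nine classes of 2-elements centralizing an element of order 3. -/
theorem numCls_three (hF : ThreeFacts ↥Gsub) : NumCls (OnlyP (Γ := ↥Cy) [2]) 9 := by
  refine ⟨threeRep, fun f q hq hd => ?_, fun f g h => ?_, fun x hx => ?_⟩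
  · have h16 : threeRep f ^ 16 = 1 := Subtype.ext (Subtype.ext (final_pow f.2))
    rw [List.mem_singleton]
    exact (Nat.prime_dvd_prime_iff_eq hq Nat.prime_two).1
      (hq.dvd_of_dvd_pow (n := 4) (hd.trans (orderOf_dvd_iff_pow_eq_one.2 h16)))
  · have hrep : ∀ i : Fin 9, ((threeRep i : ↥Gsub) : Equiv.Perm Vec) = pp (rootThree (threeFinal.getD i 0)) :=
      fun i => by unfold threeRep; rfl
    have hY : YConj (pp (rootThree (threeFinal.getD f 0))) (pp (rootThree (threeFinal.getD g 0))) := by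
      rw [← hrep, ← hrep]; exact (yConj_iff (x := threeRep f) (x' := threeRep g)).2 h
    have hs := List.all_eq_true.1 (List.all_eq_true.1 sep_three_ok f (List.mem_range.2 f.2)) g (List.mem_range.2 g.2)
    have hv := final_vals_ok
    simp only [Bool.and_eq_true, Nat.beq_eq] at hv
    simp only [sepThree, Bool.or_eq_true, Bool.and_eq_true, List.any_eq_true, Nat.beq_eq, Nat.blt_eq] at hs
    rcases hs with ((hs | hs) | hs) | ⟨j, -, ⟨⟨⟨hjf, hjg⟩, hk⟩, he⟩, hne⟩
    · exact Fin.ext hs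
    · exfalso
      rw [hs.1, hs.2, hv.1.1.1, hv.1.1.2] at hY
      exact no_swap hF (hY.trans (twist_spec hF).1.symm)
    · exfalso
      rw [hs.1, hs.2, hv.1.1.1, hv.1.1.2] at hY
      exact no_swap hF (hY.symm.trans (twist_spec hF).1.symm)
    · exfalso
      refine not_beq_self hne (Nat.pow_right_injective (le_refl 2) ?_)
      dsimp only
      rw [← vals_spec f.2 hjf, ← vals_spec g.2 hjg, hk, he]
      split_ifs with h0
      · exact imgN_gConj hY.gConj _
      · exact imgN_gConj hY.mul.gConj _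
  · haveI : Fact (Nat.Prime 2) := ⟨Nat.prime_two⟩
    obtain ⟨c, hc⟩ := exists_conj_le_coprime TC (index_TC hF) (A := Subgroup.zpowers x) (p := 2)
      (IsPGroup.of_card (n := (orderOf x).primeFactorsList.length) (by
        rw [Nat.card_zpowers]
        exact Nat.eq_prime_pow_of_unique_prime_dvd (orderOf_pos x).ne'
          fun {d} hd hdd => List.mem_singleton.1 (hx d hd hdd)))
    obtain ⟨n, hn, hn'⟩ := mem_TC.1 (hc x (Subgroup.mem_zpowers x))
    obtain ⟨r, hr, h1⟩ := tab_spec hn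
    obtain ⟨f, hf, h2⟩ := link_spec hr
    rw [hn'] at h1
    exact ⟨⟨f, hf⟩, yConj_iff.1 (YConj.trans ⟨(c : ↥Gsub), c.1.2, mem_Cy.1 c.2, rfl⟩ (h1.trans h2))⟩

end Cfsg.Lib.J4Classes
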