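import Cfsg.Agent.Lib.J4Classes.Two
import Cfsg.Agent.Lib.J4Classes.Three
import Cfsg.Agent.Lib.J4Classes.Small57
import Cfsg.Agent.Lib.J4Classes.Eleven
import Cfsg.Agent.Lib.JankoFourOrder.Main

/-!
# The sixty-two classes
-/

set_option autoImplicit false
set_option maxRecDepth 20000
set_option linter.style.haveILetI false

namespace Cfsg.Lib.J4Classes

open Cfsg.Lib.J4Real Cfsg.Lib.J4Eleven

/-- The stage of a prime with a self-centralizing Sylow subgroup. -/
theorem stage_large {p e n k : ℕ} [hp : Fact p.Prime] {L : List ℕ} (h : NumCls (OnlyP (Γ := ↥Gsub) L) k)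
    (hpL : p ∉ L) (h2 : ¬ p ^ 2 ∣ jOrd) (hd : p ∣ jOrd) (hshape : SylowShape p e) (he : 0 < e)
    (a : Fin n → ℕ) (ha : ∀ i, (a i : ZMod p) ≠ 0)
    (hdec : ∀ k : ZMod p, k ≠ 0 → ∃ i, k ^ e = (a i : ZMod p) ^ e)
    (hsep : ∀ i j, (a i : ZMod p) ^ e = (a j : ZMod p) ^ e → i = j) :
    NumCls (OnlyP (Γ := ↥Gsub) (p :: L)) (k + n * 1) := by
  have h2' : ¬ p ^ 2 ∣ Nat.card ↥Gsub := by rw [card_Gsub]; exact h2
  obtain ⟨x, hx⟩ := exists_prime_orderOf_dvd_card' (G := ↥Gsub) p (by rw [card_Gsub]; exact hd)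
  obtain ⟨U, hU⟩ := (IsPGroup.of_card (n := 1) (p := p) (G := ↥(Subgroup.zpowers x))
    (by rw [Nat.card_zpowers, hx, pow_one])).exists_le_sylow
  have hUx : Subgroup.zpowers x = (U : Subgroup ↥Gsub) := by
    refine Subgroup.eq_of_le_of_card_ge hU ?_
    rw [card_sylow_prime (hx ▸ orderOf_dvd_natCard x) h2', Nat.card_zpowers, hx]
  obtain ⟨hc, hn⟩ := hshape U
  rw [← hUx] at hc hn
  rw [centralizer_zpowers_eq] at hc
  obtain ⟨r, hr1, hr2, hr3, hr4⟩ := prime_reps (e := e) (n := n) h2' hx he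
    (by rw [hc, hn, Nat.card_zpowers, hx, mul_comm]) a ha hdec hsep
  refine h.stage hp.out hpL (sq_not_dvd_order h2') hr1 hr2 hr3 fun i => ?_
  exact numCls_cyclic hpL hx ((hr4 i).trans hc)

theorem hsq_eleven (x : ↥Gsub) : ¬ 11 ^ 2 ∣ orderOf x := by
  intro h
  haveI : Fact (Nat.Prime 11) := fact_prime_11
  obtain ⟨c, hc⟩ := h
  have hxc : orderOf (x ^ c) = 11 ^ 2 := by
    rcases Nat.eq_zero_or_pos c with rfl | hc0
    · rw [mul_zero] at hc; exact absurd hc (orderOf_pos x).ne'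
    · rw [orderOf_pow_of_dvd hc0.ne' (hc ▸ Dvd.intro_left _ rfl), hc, Nat.mul_div_cancel _ hc0]
  obtain ⟨g, hg⟩ := exists_conj_le_prime U0 (p := 11) (by
      intro h11
      have h' := Subgroup.card_mul_index U0
      rw [card_U0, card_Gsub] at h'
      obtain ⟨d, hd⟩ := h11
      rw [hd] at h'
      omega)
    (IsPGroup.of_card (n := 2) (G := ↥(Subgroup.zpowers (x ^ c))) (by rw [Nat.card_zpowers, hxc]))
  obtain ⟨i, j, k, e⟩ := hg _ (Subgroup.mem_zpowers (x ^ c))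
  have h11 : (g * x ^ c * g⁻¹) ^ 11 = 1 := by rw [← e]; exact uHeis.el_pow_eleven i j k
  rw [conj_pow, conj_eq_one_iff, ← orderOf_dvd_iff_pow_eq_one, hxc] at h11
  norm_num at h11

theorem reps23_ne : ∀ i : Fin 1, ((![1] i : ℕ) : ZMod 23) ≠ 0 := by decide +kernel

theorem reps23_dec : ∀ k : ZMod 23, k ≠ 0 → ∃ i : Fin 1, k ^ 22 = ((![1] i : ℕ) : ZMod 23) ^ 22 := by decide +kernel

theorem reps23_sep : ∀ i j : Fin 1, ((![1] i : ℕ) : ZMod 23) ^ 22 = ((![1] j : ℕ) : ZMod 23) ^ 22 → i = j := by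
  decide +kernel

theorem reps29_ne : ∀ i : Fin 1, ((![1] i : ℕ) : ZMod 29) ≠ 0 := by decide +kernel

theorem reps29_dec : ∀ k : ZMod 29, k ≠ 0 → ∃ i : Fin 1, k ^ 28 = ((![1] i : ℕ) : ZMod 29) ^ 28 := by decide +kernel

theorem reps29_sep : ∀ i j : Fin 1, ((![1] i : ℕ) : ZMod 29) ^ 28 = ((![1] j : ℕ) : ZMod 29) ^ 28 → i = j := by
  decide +kernel

theorem reps31_ne : ∀ i : Fin 3, ((![1, 3, 9] i : ℕ) : ZMod 31) ≠ 0 := by decide +kernel

theorem reps31_dec : ∀ k : ZMod 31, k ≠ 0 → ∃ i : Fin 3, k ^ 10 = ((![1, 3, 9] i : ℕ) : ZMod 31) ^ 10 := by decide +kernel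

theorem reps31_sep : ∀ i j : Fin 3, ((![1, 3, 9] i : ℕ) : ZMod 31) ^ 10 = ((![1, 3, 9] j : ℕ) : ZMod 31) ^ 10 → i = j := by
  decide +kernel

theorem reps37_ne : ∀ i : Fin 3, ((![1, 2, 4] i : ℕ) : ZMod 37) ≠ 0 := by decide +kernel

theorem reps37_dec : ∀ k : ZMod 37, k ≠ 0 → ∃ i : Fin 3, k ^ 12 = ((![1, 2, 4] i : ℕ) : ZMod 37) ^ 12 := by decide +kernel

theorem reps37_sep : ∀ i j : Fin 3, ((![1, 2, 4] i : ℕ) : ZMod 37) ^ 12 = ((![1, 2, 4] j : ℕ) : ZMod 37) ^ 12 → i = j := by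
  decide +kernel

theorem reps43_ne : ∀ i : Fin 3, ((![1, 3, 9] i : ℕ) : ZMod 43) ≠ 0 := by decide +kernel

theorem reps43_dec : ∀ k : ZMod 43, k ≠ 0 → ∃ i : Fin 3, k ^ 14 = ((![1, 3, 9] i : ℕ) : ZMod 43) ^ 14 := by decide +kernel

theorem reps43_sep : ∀ i j : Fin 3, ((![1, 3, 9] i : ℕ) : ZMod 43) ^ 14 = ((![1, 3, 9] j : ℕ) : ZMod 43) ^ 14 → i = j := by
  decide +kernel

variable {G : Type*} [Group G] [Finite G] [IsSimpleGroup G] (hG : ¬ IsMulCommutative G)
  (hJ : Cfsg.IsOfJankoFourType G) (φ : G ≃* ↥Gsub)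

include hG hJ φ in
theorem numCls_all : NumCls (OnlyP (Γ := ↥Gsub) [43, 37, 31, 29, 23, 11, 7, 5, 3, 2]) 62 := by
  have h3F := (three_facts hG hJ).map φ
  have hLF := (local_facts hG hJ).map φ
  obtain ⟨z, hz⟩ := eleven_facts hG hJ
  have hS : ElevenSetting (φ z) :=
    { facts := hz.map φ
      card_N := card_normalizer fun y hr h11 => cube_not_dvd hG hJ φ hr h11
      small := smallFree_of_type hG hJ φ
      five := fun y hy => by rw [(hLF.five y hy).1]; norm_num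
      seven := fun y hy => by rw [(hLF.seven y hy).1]; norm_num }
  have s3 : NumCls (OnlyP (Γ := ↥Gsub) [3, 2]) (10 + 1 * 9) :=
    numCls_two.stage Nat.prime_three (by decide) h3F.sq (r := fun _ => yG) (fun _ => orderOf_yG)
      (fun i j _ => Subsingleton.elim i j) (fun x hx => ⟨0, h3F.conj x yG hx orderOf_yG⟩)
      fun _ => numCls_three h3F
  have s7 := stage_seven hLF (stage_five hLF s3)
  obtain ⟨hA, hZ, hne, hall⟩ := two_classes
  have s11 : NumCls (OnlyP (Γ := ↥Gsub) [11, 7, 5, 3, 2]) (10 + 1 * 9 + 1 * 9 + 2 * 7 + 1 * 9) := by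
    -- the two classes have different numbers of classes in their centralizers
    exact stage_two_classes (n₁ := 2) (n₂ := 7) s7 (by norm_num) (by decide) hsq_eleven hA hZ hne hall
      (numCls_cent_A hS) (numCls_cent_Z hS)
  haveI h23 : Fact (Nat.Prime 23) := ⟨by norm_num⟩
  haveI h29 : Fact (Nat.Prime 29) := ⟨by norm_num⟩
  haveI h31 : Fact (Nat.Prime 31) := ⟨by norm_num⟩
  haveI h37 : Fact (Nat.Prime 37) := ⟨by norm_num⟩
  haveI h43 : Fact (Nat.Prime 43) := ⟨by norm_num⟩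
  have s23 := stage_large (p := 23) (n := 1) s11 (by decide) (by norm_num) (by norm_num) (shape23 hS.small)
    (by norm_num) ![1] reps23_ne reps23_dec reps23_sep
  have s29 := stage_large (p := 29) (n := 1) s23 (by decide) (by norm_num) (by norm_num) (shape29 hS.small)
    (by norm_num) ![1] reps29_ne reps29_dec reps29_sep
  have s31 := stage_large (p := 31) (n := 3) s29 (by decide) (by norm_num) (by norm_num) (shape31 hS.small)
    (by norm_num) ![1, 3, 9] reps31_ne reps31_dec reps31_sep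
  have s37 := stage_large (p := 37) (n := 3) s31 (by decide) (by norm_num) (by norm_num) (shape37 hS.small)
    (by norm_num) ![1, 2, 4] reps37_ne reps37_dec reps37_sep
  exact stage_large (p := 43) (n := 3) s37 (by decide) (by norm_num) (by norm_num) (shape43 hS.small)
    (by norm_num) ![1, 3, 9] reps43_ne reps43_dec reps43_sep

include hG hJ in
theorem card_conjClasses : Nat.card (ConjClasses G) = 62 := by
  obtain ⟨φ⟩ := JankoFourOrder.gsub_of_type hG hJ
  refine ((numCls_all hG hJ φ).only_map φ.symm).card fun x q hq hd => ?_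
  have hd' : q ∣ jOrd := hd.trans ((orderOf_dvd_natCard x).trans
    (dvd_of_eq ((Nat.card_congr φ.toEquiv).trans card_Gsub)))
  rcases prime_cases hq hd' with h | h | h | h | h | h | h | h | h | h <;> subst h <;> simp

end Cfsg.Lib.J4Classes
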