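import Cfsg.Agent.Lib.J4Classes.TwoDefs

/-!
# Kernel checks for the classes of 2-elements
-/

set_option autoImplicit false
set_option maxRecDepth 100000
set_option maxHeartbeats 0

namespace Cfsg.Lib.J4Classes

open Cfsg.Lib.J4Real Cfsg.Lib.Concrete Cfsg.Lib.FusionSys.MathieuCert

theorem fast_ok0 : maskFast 0 = true := by decide +kernel

theorem fast_ok1 : maskFast 1 = true := by decide +kernel

theorem fast_ok2 : maskFast 2 = true := by decide +kernel

theorem fast_ok3 : maskFast 3 = true := by decide +kernel

theorem fast_ok4 : maskFast 4 = true := by decide +kernel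

theorem fast_ok5 : maskFast 5 = true := by decide +kernel

theorem fast_ok6 : maskFast 6 = true := by decide +kernel

end Cfsg.Lib.J4Classes
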