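import Cfsg.Agent.Lib.J4Real.Order

/-!
# Pairs of a mask and a word in the two generators of the complement
-/

set_option autoImplicit false
set_option maxRecDepth 20000

namespace Cfsg.Lib.J4Classes

open Cfsg.Lib.J4Real Cfsg.Lib.CosetEnum Cfsg.Lib.J4Pres
open Cfsg.Lib.Concrete

/-- Only the two generators of the complement occur. -/
def bw (w : List ℕ) : Bool := w.all fun g => Nat.blt g 2

theorem bw_lt {w : List ℕ} (h : bw w = true) {g : ℕ} (hg : g ∈ w) : g < 2 :=
  Nat.blt_eq.mp (List.all_eq_true.1 h g hg)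

theorem bw_kOK {w : List ℕ} (h : bw w = true) : kOK w = true := by
  simp only [kOK, List.all_eq_true, Bool.or_eq_true, Nat.beq_eq]
  intro g hg
  have := bw_lt h hg
  omega

theorem bw_append {a b : List ℕ} (ha : bw a = true) (hb : bw b = true) : bw (a ++ b) = true := by
  simp only [bw, List.all_append, Bool.and_eq_true]; exact ⟨ha, hb⟩

/-- The element of the presented complement given by a word. -/
noncomputable def kel (w : List ℕ) : TwoGroup := (w.map fun g => twoGen (pLetter g)).prod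

theorem wp_eq_kEmb {w : List ℕ} (h : bw w = true) : wp w = kEmb (kel w) := (kEmb_word (bw_kOK h)).1.symm

theorem walk_kel {w : List ℕ} (h : bw w = true) (x : GolayPt) :
    (gidx (kPts (kel w) x)).val = walkW w (gidx x).val := by
  rw [kel, (kEmb_word (bw_kOK h)).2]
  exact walkW_spec (bw_kOK h) x

/-- Two words agree on the positions. -/
def walkEq (a b : List ℕ) : Bool := bits24.all fun i => Nat.beq (walkW a i) (walkW b i)

theorem kel_eq_of_walk {a b : List ℕ} (ha : bw a = true) (hb : bw b = true) (h : walkEq a b = true) :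
    kel a = kel b := by
  refine kPts_spec.1 (Equiv.ext fun x => (Function.LeftInverse.injective gpt_gidx) (Fin.ext ?_))
  rw [walk_kel ha, walk_kel hb]
  exact Nat.eq_of_beq_eq_true (List.all_eq_true.1 h _ (mem_bits24.2 (gidx x).isLt))

theorem wp_eq_of_walk {a b : List ℕ} (ha : bw a = true) (hb : bw b = true) (h : walkEq a b = true) :
    wp a = wp b := by
  rw [wp_eq_kEmb ha, wp_eq_kEmb hb, kel_eq_of_walk ha hb h]

/-- The image of a mask under a word. -/
def wMask (w : List ℕ) (m : ℕ) : ℕ := w.foldr cMask m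

theorem wp_eW : ∀ {w : List ℕ}, bw w = true → ∀ m, wp w * eW m = eW (wMask w m) * wp w
  | [], _, m => by simp [wp_nil, wMask]
  | g :: w, h, m => by
    simp only [bw, List.all_cons, Bool.and_eq_true, Nat.blt_eq] at h
    have ih := wp_eW (w := w) h.2 m
    rw [wp_cons, mul_assoc, ih, ← mul_assoc, conj_eW h.1, mul_assoc]
    rfl

/-- The element of a pair. -/
noncomputable def pp (p : ℕ × List ℕ) : Equiv.Perm Vec := eW p.1 * wp p.2

theorem pp_mem_M {p : ℕ × List ℕ} (h : bw p.2 = true) : pp p ∈ Msub := pair_mem (bw_kOK h)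

theorem pp_mem_G {p : ℕ × List ℕ} (h : bw p.2 = true) : pp p ∈ Gsub := M_le_G (pp_mem_M h)

theorem wp_mem_M {w : List ℕ} (h : bw w = true) : wp w ∈ Msub := K_le_M (kOK_mem (bw_kOK h))

theorem pp_eq_word (p : ℕ × List ℕ) : pp p = wp (eL p.1 ++ p.2) := by rw [wp_append]; rfl

/-- Product of pairs. -/
theorem pp_mul {a b : ℕ × List ℕ} (ha : bw a.2 = true) :
    pp a * pp b = pp (a.1 ^^^ wMask a.2 b.1, a.2 ++ b.2) := by
  show eW a.1 * wp a.2 * (eW b.1 * wp b.2) = eW (a.1 ^^^ wMask a.2 b.1) * wp (a.2 ++ b.2)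
  rw [← eW_mul, wp_append, mul_assoc, ← mul_assoc (wp a.2), wp_eW ha, mul_assoc, mul_assoc]

/-- Conjugation of a pair by a pair, as a commutation. -/
theorem pp_conj {a : ℕ × List ℕ} {m m' : ℕ} {w w' : List ℕ} (ha : bw a.2 = true) (hw : bw w = true)
    (hw' : bw w' = true) (hm : a.1 ^^^ wMask a.2 m = m' ^^^ wMask w' a.1)
    (hwalk : walkEq (a.2 ++ w) (w' ++ a.2) = true) :
    pp a * pp (m, w) * (pp a)⁻¹ = pp (m', w') := by
  rw [mul_inv_eq_iff_eq_mul, pp_mul ha, pp_mul hw']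
  show eW _ * wp _ = eW _ * wp _
  rw [hm, wp_eq_of_walk (bw_append ha hw) (bw_append hw' ha) hwalk]

theorem pp_inj {a b : ℕ × List ℕ} (ha : bw a.2 = true) (hb : bw b.2 = true) (h1 : a.1 < 2048) (h2 : b.1 < 2048)
    (h : pp a = pp b) : a.1 = b.1 ∧ walkEq a.2 b.2 = true := by
  obtain ⟨e1, e2⟩ := M_unique (kOK_mem (bw_kOK ha)) (kOK_mem (bw_kOK hb)) h
  refine ⟨eW_inj h1 h2 e1, ?_⟩
  rw [wp_eq_kEmb ha, wp_eq_kEmb hb] at e2
  simp only [walkEq, List.all_eq_true, Nat.beq_eq]
  intro i hi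
  have h' := congrArg (fun q => (gidx (kPts q (gpt (Fin.ofNat 24 i)))).val) (kEmb_inj e2)
  simp only [walk_kel ha, walk_kel hb, gidx_gpt, Fin.val_ofNat, Nat.mod_eq_of_lt (mem_bits24.1 hi)] at h'
  exact h'

theorem kPts_range : kPts.range = M24 := by
  have hfin : (M24 : Set (Equiv.Perm GolayPt)).Finite := Set.toFinite _
  have hle : M24 ≤ kPts.range := by
    rw [← closure_gPerm, Subgroup.closure_le]
    rintro _ ⟨g, hg, rfl⟩
    exact ⟨twoGen g, (kPts_spec.2 g (lt_trans hg (by norm_num))).2⟩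
  refine (Subgroup.eq_of_le_of_card_ge hle ?_).symm
  obtain ⟨φ⟩ := twoGroup_iso
  rw [← Nat.card_congr (MonoidHom.ofInjective kPts_spec.1).toEquiv, Nat.card_congr φ.toEquiv]

/-- Conjugacy in the group. -/
def GConj (x y : Equiv.Perm Vec) : Prop := ∃ g ∈ Gsub, g * x * g⁻¹ = y

theorem GConj.refl (x : Equiv.Perm Vec) : GConj x x := ⟨1, one_mem _, by group⟩

theorem GConj.symm {x y : Equiv.Perm Vec} (h : GConj x y) : GConj y x := by
  obtain ⟨g, hg, rfl⟩ := h
  exact ⟨g⁻¹, inv_mem hg, by group⟩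

theorem GConj.trans {x y z : Equiv.Perm Vec} (h : GConj x y) (h' : GConj y z) : GConj x z := by
  obtain ⟨g, hg, rfl⟩ := h
  obtain ⟨k, hk, rfl⟩ := h'
  exact ⟨k * g, mul_mem hk hg, by group⟩

theorem gConj_iff {x y : Gsub} : GConj x y ↔ IsConj x y := by
  rw [isConj_iff]
  constructor
  · rintro ⟨g, hg, e⟩; exact ⟨⟨g, hg⟩, Subtype.ext e⟩
  · rintro ⟨g, e⟩; exact ⟨g, g.2, congrArg Subtype.val e⟩

end Cfsg.Lib.J4Classes
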