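import Cfsg.Agent.Lib.J4Real.Linear
import Cfsg.Agent.Lib.J4Eleven.Fix
import Cfsg.Agent.Lib.J4Classes.Walk

/-!
# The size of the image of a power of `x - 1`, as an invariant of the class of `x`
-/

set_option autoImplicit false
set_option maxRecDepth 20000

namespace Cfsg.Lib.J4Classes

open Cfsg.Lib.J4Real Cfsg.Lib.CosetEnum Cfsg.Lib.J4Pres

/-- A matrix less the identity. -/
noncomputable def nOp (X : List ℕ) (v : ℕ) : ℕ := applyRows X v ^^^ v

/-- Its powers. -/
noncomputable def nPow (X : List ℕ) : ℕ → ℕ → ℕ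
  | 0, v => v
  | k + 1, v => force (nPow X k v) fun u => nOp X u

/-- The rows of a word. -/
noncomputable def matCheck (w X : List ℕ) : Bool :=
  inRange w && Nat.ble X.length 112 && (X.all fun r => Nat.blt r (2 ^ 112)) &&
    (List.range 112).all fun i => Nat.beq (applyWord rows w (2 ^ i)) (applyRows X (2 ^ i))

/-- A basis, a left inverse and preimages for the image of a power. -/
noncomputable def rankCheck (X : List ℕ) (k r : ℕ) (B K P : List ℕ) : Bool :=
  ((List.range 112).all fun i => force (nPow X k (2 ^ i)) fun u => force (applyRows K u) fun c =>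
    Nat.beq u (applyRows B c) && Nat.blt c (2 ^ r)) &&
  (List.range r).all fun j => force (applyRows B (2 ^ j)) fun b =>
    Nat.beq (applyRows K b) (2 ^ j) && Nat.beq (nPow X k (P.getD j 0)) b && Nat.blt (P.getD j 0) (2 ^ 112)

/-- The image of a power of `x - 1`. -/
def imgN (g : Equiv.Perm Vec) (k : ℕ) : Set Vec := Set.range ((fun v => vxor (g v) v)^[k])

theorem applyRows_zero (X : List ℕ) : applyRows X 0 = 0 := by
  have h := applyRows_xor X 0 0
  rwa [Nat.xor_self, Nat.xor_self] at h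

theorem nOp_xor (X : List ℕ) (a b : ℕ) : nOp X (a ^^^ b) = nOp X a ^^^ nOp X b := by
  simp only [nOp, applyRows_xor, Nat.xor_assoc, Nat.xor_comm, Nat.xor_left_comm]

theorem nPow_xor (X : List ℕ) : ∀ (k a b : ℕ), nPow X k (a ^^^ b) = nPow X k a ^^^ nPow X k b
  | 0, _, _ => rfl
  | k + 1, a, b => by simp only [nPow, force_eq, nPow_xor X k, nOp_xor]

theorem nPow_zero (X : List ℕ) (k : ℕ) : nPow X k 0 = 0 := by
  have h := nPow_xor X k 0 0
  rwa [Nat.xor_self, Nat.xor_self] at h

theorem mat_apply {w X : List ℕ} (h : matCheck w X = true) (v : Vec) : (wp w v).1 = applyRows X v.1 := by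
  simp only [matCheck, inRange, Bool.and_eq_true, List.all_eq_true, Nat.blt_eq, Nat.beq_eq, List.mem_range] at h
  rw [wp_apply w h.1.1.1 v]
  exact units_ext (applyWord_xor rows w) (applyRows_xor X) (fun i hi => h.2 i hi) v.1 v.2

theorem iterate_val {w X : List ℕ} (h : matCheck w X = true) : ∀ (k : ℕ) (v : Vec),
    (((fun u => vxor (wp w u) u)^[k]) v).1 = nPow X k v.1
  | 0, _ => rfl
  | k + 1, v => by
    rw [Function.iterate_succ_apply', nPow, force_eq, ← iterate_val h k v]
    show (wp w _).1 ^^^ _ = _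
    rw [mat_apply h]
    rfl

theorem rankCheck_spec {w X B K P : List ℕ} {k r : ℕ} (hm : matCheck w X = true) (h : rankCheck X k r B K P = true) :
    (imgN (wp w) k).ncard = 2 ^ r := by
  classical
  simp only [rankCheck, force_eq, Bool.and_eq_true, List.all_eq_true, Nat.blt_eq, Nat.beq_eq, List.mem_range] at h
  obtain ⟨hC, hB⟩ := h
  have hleft : ∀ c < 2 ^ r, applyRows K (applyRows B c) = c :=
    units_ext (fun a b => by rw [applyRows_xor, applyRows_xor]) (fun _ _ => rfl) fun j hj => (hB j hj).1.1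
  have hin : ∀ c < 2 ^ r, ∃ v < 2 ^ 112, nPow X k v = applyRows B c := by
    refine J4Eleven.bits_mem (P := fun u => ∃ v < 2 ^ 112, nPow X k v = u) (applyRows_xor B) ⟨0, by norm_num, nPow_zero X k⟩
      (fun a b ⟨u, hu, e⟩ ⟨v, hv, e'⟩ => ⟨u ^^^ v, Nat.xor_lt_two_pow hu hv, by rw [nPow_xor, e, e']⟩) ?_
    intro j hj
    exact ⟨_, (hB j hj).2, (hB j hj).1.2⟩
  have hout : ∀ v < 2 ^ 112, ∃ c < 2 ^ r, applyRows B c = nPow X k v := by
    refine J4Eleven.bits_mem (P := fun u => ∃ c < 2 ^ r, applyRows B c = u) (nPow_xor X k)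
      ⟨0, Nat.two_pow_pos r, applyRows_zero B⟩
      (fun a b ⟨u, hu, e⟩ ⟨v, hv, e'⟩ => ⟨u ^^^ v, Nat.xor_lt_two_pow hu hv, by rw [applyRows_xor, e, e']⟩) ?_
    intro i hi
    exact ⟨_, (hC i hi).2, ((hC i hi).1).symm⟩
  have himg : (fun u : Vec => u.1) '' imgN (wp w) k = (fun c => applyRows B c) '' Set.Iio (2 ^ r) := by
    ext u
    constructor
    · rintro ⟨_, ⟨v, rfl⟩, rfl⟩
      obtain ⟨c, hc, e⟩ := hout v.1 v.2
      exact ⟨c, hc, e.trans (iterate_val hm k v).symm⟩
    · rintro ⟨c, hc, rfl⟩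
      obtain ⟨v, hv, e⟩ := hin c hc
      exact ⟨_, ⟨⟨v, hv⟩, rfl⟩, (iterate_val hm k ⟨v, hv⟩).trans e⟩
  have h1 := congrArg Set.ncard himg
  rw [Set.ncard_image_of_injective _ Subtype.val_injective, Set.ncard_image_of_injOn fun a ha b hb e => by
    rw [← hleft a ha, ← hleft b hb]; exact congrArg (applyRows K) e] at h1
  rw [h1, Set.ncard_Iio_nat]

theorem imgN_conj {g h : Equiv.Perm Vec} (hh : h ∈ addSub) (k : ℕ) : imgN (h * g * h⁻¹) k = h '' imgN g k := by
  have step : ∀ (v : Vec) (k : ℕ), ((fun u => vxor ((h * g * h⁻¹) u) u)^[k]) (h v) = h (((fun u => vxor (g u) u)^[k]) v) := by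
    intro v k
    induction k with
    | zero => rfl
    | succ k ih =>
      rw [Function.iterate_succ_apply', Function.iterate_succ_apply', ih, hh]
      simp
  ext u
  constructor
  · rintro ⟨v, rfl⟩
    refine ⟨_, ⟨h⁻¹ v, rfl⟩, ?_⟩
    rw [← step]
    simp
  · rintro ⟨_, ⟨v, rfl⟩, rfl⟩
    exact ⟨h v, step v k⟩

theorem imgN_gConj {x y : Equiv.Perm Vec} (h : GConj x y) (k : ℕ) : (imgN x k).ncard = (imgN y k).ncard := by
  obtain ⟨g, hg, rfl⟩ := h
  rw [imgN_conj (G_le_addSub hg), Set.ncard_image_of_injective _ g.injective]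

end Cfsg.Lib.J4Classes
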