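import Cfsg.Agent.Lib.J4Classes.TwoDefs

/-!
# Kernel checks for the classes of 2-elements
-/

set_option autoImplicit false
set_option maxRecDepth 100000
set_option maxHeartbeats 0

namespace Cfsg.Lib.J4Classes

open Cfsg.Lib.J4Real Cfsg.Lib.Concrete Cfsg.Lib.FusionSys.MathieuCert

theorem keys_eq : certM24.keys = (List.range 1024).map sylKey := by decide +kernel

theorem syl_ok : (List.range 1024).all sylStep = true := by decide +kernel

theorem gens_ok : (List.range 7).all gensCheck = true := by decide +kernel

theorem links_ok : (List.range 27).all linkCheck = true := by decide +kernel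

theorem roots_bw : ((List.range 27).all fun r => Nat.blt (twoRoots.getD r (0, 0)).1 7) = true := by decide +kernel

theorem finals_ok : ((List.range 10).all fun f => Nat.blt (twoFinal.getD f 0) 27) = true := by decide +kernel

theorem finVals_sep : ((List.range 10).all fun f => (List.range 10).all fun g => Nat.beq f g ||
    (List.range 3).any fun j => Nat.beq ((finVals f).getD j (0, 0)).1 ((finVals g).getD j (0, 0)).1 &&
      !Nat.beq ((finVals f).getD j (0, 0)).2 ((finVals g).getD j (0, 0)).2 &&
      Nat.blt j (finVals f).length && Nat.blt j (finVals g).length) = true := by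
  decide +kernel

end Cfsg.Lib.J4Classes
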