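import Cfsg.Agent.Lib.J4Classes.Rank
import Cfsg.Agent.Lib.J4Classes.ThreeData

/-!
# The checks for the classes of 2-elements centralizing an element of order 3
-/

set_option autoImplicit false
set_option maxRecDepth 100000
set_option maxHeartbeats 0

namespace Cfsg.Lib.J4Classes

open Cfsg.Lib.J4Real Cfsg.Lib.CosetEnum Cfsg.Lib.J4Pres

/-- A fixed mask. -/
def fixM (j : ℕ) : ℕ := linMask threeBasis 5 j

/-- A word of the group of order 8. -/
def tW (t : ℕ) : List ℕ := threeT.getD t []

/-- An element of the group of order 256. -/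
def tPair (n : ℕ) : ℕ × List ℕ := (fixM (n / 8), tW (n % 8))

/-- Its action. -/
def tAct (t k : ℕ) : ℕ := (threeAct.getD t []).getD k 0

/-- The table of the group of order 8. -/
def tTab (a b : ℕ) : ℕ := (threeMul.getD a []).getD b 0

/-- The product in the group of order 256. -/
def tMul (n m : ℕ) : ℕ := 8 * ((n / 8) ^^^ tAct (n % 8) (m / 8)) + tTab (n % 8) (m % 8)

/-- A pair centralizes the element of order 3. -/
def pairCent (p : ℕ × List ℕ) : Bool :=
  bw p.2 && Nat.blt p.1 2048 && Nat.beq (wMask threeY p.1) p.1 && walkEq (p.2 ++ threeY) (threeY ++ p.2)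

/-- A pair moves one pair onto another. -/
def pairMove (a p q : ℕ × List ℕ) : Bool :=
  bw p.2 && bw q.2 && Nat.beq (a.1 ^^^ wMask a.2 p.1) (q.1 ^^^ wMask q.2 a.1) &&
    walkEq (a.2 ++ p.2) (q.2 ++ a.2)

/-- A root. -/
def rootThree (r : ℕ) : ℕ × List ℕ := threeRoots.getD r (0, [])

/-- The order of the element. -/
def yCheck : Bool :=
  bw threeY && walkEq (threeY ++ (threeY ++ threeY)) [] && !walkEq threeY []

/-- The group of order 256. -/
def groupCheck : Bool :=
  Nat.beq (fixM 9) 313 && walkEq (tW 0) [] && Nat.beq (fixM 0) 0 &&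
  ((List.range 32).all fun j => (List.range 32).all fun k => Nat.beq j k || !Nat.beq (fixM j) (fixM k)) &&
  (List.range 8).all fun a =>
    pairCent (0, tW a) && ((List.range 32).all fun k =>
      pairCent (fixM k, []) && Nat.blt (tAct a k) 32 && Nat.beq (fixM (tAct a k)) (wMask (tW a) (fixM k))) &&
    (List.range 8).all fun b => Nat.blt (tTab a b) 8 && walkEq (tW a ++ tW b) (tW (tTab a b)) &&
      (Nat.beq a b || !walkEq (tW a) (tW b))

/-- The inverses in the group of order 256. -/
def invCheck : Bool :=
  (List.range 256).all fun n => (List.range 256).any fun m => Nat.beq (tMul n m) 0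

/-- A conjugation of an element onto a root. -/
def tabThreeStep (n : ℕ) : Bool :=
  let e := (threeTab.getD (n / 32) []).getD (n % 32) (0, 0, 0)
  let a := (e.2.1, (threeConjWords.getD (e.2.2 / 32) []).getD (e.2.2 % 32) [])
  Nat.blt e.1 13 && pairCent a && pairMove a (tPair n) (rootThree e.1)

/-- A root reaches a final one. -/
def linkThree (r : ℕ) : Bool :=
  (threeFinal.any fun f => Nat.beq f r) ||
    threeEdges.any fun e => Nat.beq e.1 r && threeFinal.any fun f => Nat.beq f e.2.1

/-- The word of a pair. -/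
def pairW (p : ℕ × List ℕ) : List ℕ := eL p.1 ++ p.2

/-- One fusion. -/
noncomputable def edgeThree (e : ℕ × ℕ × List ℕ) : Bool :=
  inRange e.2.2 && sameW (e.2.2 ++ threeY) (threeY ++ e.2.2) &&
    sameW (e.2.2 ++ pairW (rootThree e.2.1)) (pairW (rootThree e.1) ++ e.2.2)

/-- A word of the fusions. -/
def firstEdge : List ℕ := (threeEdges.getD 0 (0, 0, [])).2.2

/-- Two words differ on a unit vector. -/
noncomputable def diffW (a b : List ℕ) : Bool :=
  inRange a && inRange b &&
    (List.range 112).any fun i => !Nat.beq (applyWord rows a (2 ^ i)) (applyWord rows b (2 ^ i))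

/-- The central involution is the only candidate. -/
noncomputable def centreStep (n : ℕ) : Bool :=
  Nat.beq n 0 || Nat.beq n 72 || !Nat.beq (tMul n n) 0 ||
    ((List.range 256).any fun m => !Nat.beq (tMul n m) (tMul m n)) ||
    diffW (firstEdge ++ pairW (tPair n)) (pairW (tPair n) ++ firstEdge)

/-- No element of the group moves an element of order 8 onto its product with the involution. -/
def swapStep (n : ℕ) : Bool :=
  Nat.beq (tMul (tMul n n) (tMul n n)) 0 ||
    (List.range 256).all fun m => !Nat.beq (tMul m n) (tMul (tMul n 72) m)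

/-- The twisted pair of finals. -/
def twistCheck : Bool :=
  let h := rootThree 10
  let m4 := h.1 ^^^ wMask h.2 (h.1 ^^^ wMask h.2 (h.1 ^^^ wMask h.2 h.1))
  pairCent threeTwist && pairMove threeTwist (h.1 ^^^ wMask h.2 313, h.2) (rootThree 12) && !Nat.beq (m4 % 2048) 0

/-- The word of a final representative. -/
def finThree (f : ℕ) : List ℕ := pairW (rootThree (threeFinal.getD f 0))

/-- The certificates of a final representative. -/
noncomputable def finThreeCheck (f : ℕ) : Bool :=
  pairCent (rootThree (threeFinal.getD f 0)) &&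
  matCheck (finThree f) (threeMats.getD f []) &&
  ((List.range 112).all fun i =>
    Nat.beq (applyWord [threeMats.getD f []] (List.replicate 16 0) (2 ^ i)) (2 ^ i)) &&
  ((threeMixMats.getD f []).isEmpty || matCheck (threeY ++ finThree f) (threeMixMats.getD f [])) &&
  (threeCerts.getD f []).all fun c =>
    cond (Nat.beq c.1 0) (rankCheck (threeMats.getD f []) c.2.1 c.2.2.1 c.2.2.2.1 c.2.2.2.2.1 c.2.2.2.2.2)
      (!(threeMixMats.getD f []).isEmpty &&
        rankCheck (threeMixMats.getD f []) c.2.1 c.2.2.1 c.2.2.2.1 c.2.2.2.2.1 c.2.2.2.2.2)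

/-- The kinds, exponents and sizes. -/
def valsThree (f : ℕ) : List (ℕ × ℕ × ℕ) := (threeCerts.getD f []).map fun c => (c.1, c.2.1, c.2.2.1)

/-- Two finals are told apart. -/
def sepThree (f g : ℕ) : Bool :=
  Nat.beq f g || (Nat.beq f 7 && Nat.beq g 8) || (Nat.beq f 8 && Nat.beq g 7) ||
    (List.range 3).any fun j => Nat.blt j (valsThree f).length && Nat.blt j (valsThree g).length &&
      Nat.beq ((valsThree f).getD j (0, 0, 0)).1 ((valsThree g).getD j (0, 0, 0)).1 &&
      Nat.beq ((valsThree f).getD j (0, 0, 0)).2.1 ((valsThree g).getD j (0, 0, 0)).2.1 &&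
      !Nat.beq ((valsThree f).getD j (0, 0, 0)).2.2 ((valsThree g).getD j (0, 0, 0)).2.2

theorem applyWord_same (X : List ℕ) (v : ℕ) : ∀ n : ℕ, applyWord [X] (List.replicate n 0) v = (applyRows X)^[n] v
  | 0 => rfl
  | n + 1 => by
    rw [List.replicate_succ, applyWord_cons, applyWord_same X v n, Function.iterate_succ_apply']
    rfl

end Cfsg.Lib.J4Classes
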