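import Cfsg.Agent.Lib.J4Classes.Count
import Cfsg.Agent.Lib.J4Classes.SylChecks
import Cfsg.Agent.Lib.J4Classes.MaskChecks
import Cfsg.Agent.Lib.J4Classes.EdgeChecks
import Cfsg.Agent.Lib.J4Classes.FinChecks

/-!
# The ten classes of 2-elements
-/

set_option autoImplicit false
set_option maxRecDepth 20000

namespace Cfsg.Lib.J4Classes

open Cfsg.Lib.J4Real Cfsg.Lib.CosetEnum Cfsg.Lib.J4Pres Cfsg.Lib.Concrete Cfsg.Lib.FusionSys.MathieuCert

attribute [local irreducible] pcode pmul toPerm prodL pget sylKey sylEnt tabE repW rootPair genW finW sylTree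
  twoRoots twoGens twoLinks fuseEdges twoFinal twoCerts twoMats sylWords certM24 sameW walkW wMask

/-- A 2-element is conjugate into a subgroup of odd index. -/
theorem exists_conj_mem_odd {Γ : Type*} [Group Γ] [Finite Γ] (H : Subgroup Γ) (hH : ¬ 2 ∣ H.index) {x : Γ} {k : ℕ}
    (hx : x ^ 2 ^ k = 1) : ∃ g : Γ, g * x * g⁻¹ ∈ H := by
  haveI : Fact (Nat.Prime 2) := ⟨Nat.prime_two⟩
  have hP : IsPGroup 2 (Subgroup.zpowers x) := fun y => by
    obtain ⟨y, hy⟩ := y
    obtain ⟨m, rfl⟩ := Subgroup.mem_zpowers_iff.1 hy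
    refine ⟨k, Subtype.ext ?_⟩
    show (x ^ m) ^ 2 ^ k = 1
    rw [← zpow_natCast, ← zpow_mul, mul_comm, zpow_mul, zpow_natCast, hx, one_zpow]
  obtain ⟨q, hq⟩ := hP.nonempty_fixed_point_of_prime_not_dvd_card (Γ ⧸ H) (by rwa [← Subgroup.index_eq_card])
  induction q using QuotientGroup.induction_on with
  | _ g =>
    have h := hq ⟨x, Subgroup.mem_zpowers x⟩
    change ((x * g : Γ) : Γ ⧸ H) = (g : Γ ⧸ H) at h
    refine ⟨g⁻¹, ?_⟩
    have h' := H.inv_mem (QuotientGroup.eq.1 h)
    rw [show ((x * g)⁻¹ * g)⁻¹ = g⁻¹ * x * g by group] at h'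
    rwa [inv_inv]

theorem wMask_zero : ∀ w : List ℕ, wMask w 0 = 0
  | [] => by simp [wMask]
  | g :: w => by
    have h : ∀ C n, linMask C n 0 = 0 := fun C n => by
      induction n with
      | zero => rfl
      | succ n ih => simp [linMask, ih]
    have e : wMask (g :: w) 0 = cMask g (wMask w 0) := by simp [wMask]
    rw [e, wMask_zero w]
    exact h _ _

theorem walkEq_refl (w : List ℕ) : walkEq w w = true :=
  List.all_eq_true.2 fun _ _ => Nat.beq_refl _

theorem GConj.of_comm {x y g : Equiv.Perm Vec} (hg : g ∈ Gsub) (h : g * x = y * g) : GConj x y :=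
  ⟨g, hg, mul_inv_eq_iff_eq_mul.2 h⟩

theorem repW_spec {i : ℕ} (hi : i < 7) : bw (repW i) = true ∧
    ∀ k, k < (twoGens.getD i []).length → bw (genW i k) = true ∧
      walkEq (genW i k ++ repW i) (repW i ++ genW i k) = true := by
  have h := List.all_eq_true.1 gens_ok i (List.mem_range.2 hi)
  simp only [gensCheck, Bool.and_eq_true, List.all_eq_true] at h
  refine ⟨h.1, fun k hk => h.2 _ ?_⟩
  unfold genW
  rw [List.getD_eq_getElem _ _ hk]
  exact List.getElem_mem hk

theorem mask_ok {i : ℕ} (hi : i < 7) : (List.range 2048).all (maskStep i) = true := by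
  interval_cases i
  exacts [maskFast_spec fast_ok0, maskFast_spec fast_ok1, maskFast_spec fast_ok2, maskFast_spec fast_ok3,
    maskFast_spec fast_ok4, maskFast_spec fast_ok5, maskFast_spec fast_ok6]

/-- A root is linked to an entry of a tree on the masks. -/
theorem mask_tree {i : ℕ} (hi : i < 7) (d : ℕ) : ∀ m < 2048, tRank (tabE i m) < d →
    tRid (tabE i m) < 27 ∧ GConj (pp (m, repW i)) (pp (rootPair (tRid (tabE i m)))) := by
  induction d with
  | zero => intro m _ h; omega
  | succ d ih =>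
    intro m hm hd
    obtain ⟨hrep, hgen⟩ := repW_spec hi
    have h := List.all_eq_true.1 (mask_ok hi) m (List.mem_range.2 hm)
    simp only [maskStep, Bool.and_eq_true, Nat.blt_eq] at h
    obtain ⟨hr, h⟩ := h
    refine ⟨hr, ?_⟩
    cases htag : Nat.beq ((tabE i m >>> 11) % 4) 0 with
    | true =>
      simp only [htag, cond_true, Bool.and_eq_true, Nat.beq_eq] at h
      rw [show rootPair (tRid (tabE i m)) = (m, repW i) by unfold rootPair; rw [h.1, h.2]]
      exact GConj.refl _
    | false =>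
      simp only [htag, cond_false, Bool.and_eq_true, Nat.blt_eq, Nat.beq_eq] at h
      obtain ⟨⟨⟨hq, hrk⟩, hrid⟩, h⟩ := h
      obtain ⟨-, hqroot⟩ := ih _ hq (by omega)
      rw [hrid] at hqroot
      refine GConj.trans ?_ hqroot
      cases htag1 : Nat.beq ((tabE i m >>> 11) % 4) 1 with
      | true =>
        simp only [htag1, cond_true, Bool.and_eq_true, Nat.blt_eq, Nat.beq_eq] at h
        refine GConj.symm ⟨pp (2 ^ ((tabE i m >>> 13) % 32), []), pp_mem_G rfl, ?_⟩
        refine pp_conj rfl hrep hrep ?_ (by simpa using walkEq_refl _)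
        simpa [wMask] using h.2
      | false =>
        simp only [htag1, cond_false, Bool.and_eq_true, Nat.blt_eq, Nat.beq_eq] at h
        obtain ⟨hb, hw⟩ := hgen _ h.1
        refine GConj.symm ⟨pp (0, genW i ((tabE i m >>> 13) % 32)), pp_mem_G hb, ?_⟩
        refine pp_conj hb hrep hrep ?_ hw
        show 0 ^^^ wMask _ _ = m ^^^ wMask (repW i) 0
        rw [Nat.zero_xor]
        exact h.2

/-- A pair on a representative reaches a root. -/
theorem exists_root {i m : ℕ} (hi : i < 7) (hm : m < 2048) : ∃ r < 27, GConj (pp (m, repW i)) (pp (rootPair r)) :=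
  ⟨_, mask_tree hi _ m hm (Nat.lt_succ_self _)⟩

theorem side_spec {s : (ℕ × List ℕ) × (ℕ × List ℕ)} (h : sideCheck s = true) :
    bw s.1.2 = true ∧ GConj (pp s.1) (pp (rootPair (sideRoot s))) := by
  obtain ⟨⟨m, u⟩, i, c⟩ := s
  simp only [sideCheck, Bool.and_eq_true, Nat.blt_eq] at h
  obtain ⟨⟨⟨⟨hu, hi⟩, hc⟩, hw⟩, hlt⟩ := h
  refine ⟨hu, GConj.trans ⟨pp (0, c), pp_mem_G hc, pp_conj hc hu (repW_spec hi).1 ?_ hw⟩
    (mask_tree hi _ _ hlt (Nat.lt_succ_self _)).2⟩
  show 0 ^^^ wMask c m = wMask c m ^^^ wMask (repW i) 0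
  rw [Nat.zero_xor, wMask_zero, Nat.xor_zero]

theorem edge_spec {e : ((ℕ × List ℕ) × (ℕ × List ℕ)) × ((ℕ × List ℕ) × (ℕ × List ℕ))} (he : e ∈ fuseEdges) :
    GConj (pp (rootPair (sideRoot e.1))) (pp (rootPair (sideRoot e.2))) := by
  have h := List.all_eq_true.1 edges_ok e he
  simp only [edgeCheck, Bool.and_eq_true] at h
  obtain ⟨⟨h1, h2⟩, hs⟩ := h
  obtain ⟨-, g1⟩ := side_spec h1
  obtain ⟨-, g2⟩ := side_spec h2
  refine g1.symm.trans (GConj.trans (GConj.symm ?_) g2)
  refine GConj.of_comm (g := jp 2) (jp_mem_G (by norm_num)) ?_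
  have e' := sameW_wp hs
  simp only [wp_append, wp_single] at e'
  simp only [pp, eW]
  rw [← mul_assoc, ← e']

/-- A root reaches a final root. -/
theorem exists_final {r : ℕ} (hr : r < 27) :
    ∃ f < 10, GConj (pp (rootPair r)) (pp (rootPair (twoFinal.getD f 0))) := by
  suffices H : ∀ d, ∀ r < 27, (twoLinks.getD r (0, 0, 0, 0, 0)).2.1 < d →
      (twoLinks.getD r (0, 0, 0, 0, 0)).1 < 10 ∧ GConj (pp (rootPair r))
        (pp (rootPair (twoFinal.getD (twoLinks.getD r (0, 0, 0, 0, 0)).1 0))) from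
    ⟨_, H _ r hr (Nat.lt_succ_self _)⟩
  intro d
  induction d with
  | zero => intro r _ h; omega
  | succ d ih =>
    intro r hr hd
    have h := List.all_eq_true.1 links_ok r (List.mem_range.2 hr)
    simp only [linkCheck, Bool.and_eq_true, Nat.blt_eq] at h
    obtain ⟨hl, h⟩ := h
    refine ⟨hl, ?_⟩
    cases h0 : Nat.beq (twoLinks.getD r (0, 0, 0, 0, 0)).2.1 0 with
    | true =>
      simp only [h0, cond_true, Nat.beq_eq] at h
      rw [h]
      exact GConj.refl _
    | false =>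
      simp only [h0, cond_false, Bool.and_eq_true, Bool.or_eq_true, Nat.blt_eq, Nat.beq_eq] at h
      obtain ⟨⟨⟨⟨he, hq⟩, hdd⟩, hsame⟩, hsides⟩ := h
      obtain ⟨-, hqf⟩ := ih _ hq (by omega)
      rw [hsame] at hqf
      refine GConj.trans ?_ hqf
      have hedge := edge_spec (List.getElem_mem he)
      rw [← List.getD_eq_getElem _ (((0, []), (0, [])), ((0, []), (0, []))) he] at hedge
      rcases hsides with ⟨e1, e2⟩ | ⟨e1, e2⟩
      · rwa [e1, e2] at hedge
      · rw [e1, e2] at hedge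
        exact hedge.symm

/-- An element of the Sylow subgroup is conjugate to a representative. -/
theorem syl_tree (d : ℕ) : ∀ n < 1024, (sylEnt n).1 < d → ∃ a : TwoGroup, ∃ i < 7,
    kPts a * toPerm (sylKey n) * (kPts a)⁻¹ = kPts (kel (repW i)) := by
  induction d with
  | zero => intro n _ h; omega
  | succ d ih =>
    intro n hn hd
    have hkey : sylKey n ∈ certM24.keys := by
      rw [keys_eq]; exact List.mem_map.2 ⟨n, List.mem_range.2 hn, rfl⟩
    obtain ⟨⟨p, ee⟩, hmem, hp⟩ := List.mem_map.1 hkey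
    obtain ⟨hrep, -⟩ := Cert.node_spec MathieuSylow.hok0 certM24_genOK certM24_treeOK hmem
    change p = sylKey n at hp
    rw [hp] at hrep
    have h := List.all_eq_true.1 syl_ok n (List.mem_range.2 hn)
    simp only [sylStep] at h
    cases h0 : Nat.beq (sylEnt n).2.1 0 with
    | true =>
      simp only [h0, cond_true, Bool.and_eq_true, Nat.blt_eq, List.all_eq_true, Nat.beq_eq] at h
      obtain ⟨⟨hi, hc⟩, hw⟩ := h
      refine ⟨kel (sylWords.getD (sylEnt n).2.2.2.1 []), _, hi,
        mul_inv_eq_iff_eq_mul.2 (Equiv.ext fun x => ?_)⟩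
      refine Function.LeftInverse.injective gpt_gidx (Fin.ext ?_)
      rw [Equiv.Perm.mul_apply, Equiv.Perm.mul_apply, walk_kel hc, hrep, walk_kel (repW_spec hi).1, walk_kel hc]
      exact hw _ (mem_bits24.2 (gidx x).isLt)
    | false =>
      simp only [h0, cond_false, Bool.and_eq_true, Nat.blt_eq, List.all_eq_true, Nat.beq_eq] at h
      obtain ⟨⟨⟨hg, hq⟩, hrk⟩, hw⟩ := h
      obtain ⟨a, i, hi, ha⟩ := ih _ hq (by omega)
      have hgp : certM24.gp.getD (sylEnt n).2.2.1 0 ∈ certM24.gp := by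
        rw [List.getD_eq_getElem _ _ hg]; exact List.getElem_mem hg
      obtain ⟨hgr, hgm⟩ := Cert.gp_rep MathieuSylow.hok0 certM24_genOK hgp
      have hq' : sylKey (sylEnt n).2.2.2.2 ∈ certM24.keys := by
        rw [keys_eq]; exact List.mem_map.2 ⟨_, List.mem_range.2 hq, rfl⟩
      obtain ⟨⟨p', e'⟩, hmem', hp'⟩ := List.mem_map.1 hq'
      obtain ⟨hrep', -⟩ := Cert.node_spec MathieuSylow.hok0 certM24_genOK certM24_treeOK hmem'
      change p' = sylKey _ at hp'
      rw [hp'] at hrep'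
      have heq : toPerm (certM24.gp.getD (sylEnt n).2.2.1 0) * toPerm (sylKey (sylEnt n).2.2.2.2) =
          toPerm (sylKey n) * toPerm (certM24.gp.getD (sylEnt n).2.2.1 0) := by
        refine Equiv.ext fun x => Function.LeftInverse.injective gpt_gidx (Fin.ext ?_)
        rw [Equiv.Perm.mul_apply, Equiv.Perm.mul_apply, hgr, hrep', hrep, hgr]
        exact (hw _ (mem_bits24.2 (gidx x).isLt)).2
      obtain ⟨b, hb⟩ : toPerm (certM24.gp.getD (sylEnt n).2.2.1 0) ∈ kPts.range := by rw [kPts_range]; exact hgm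
      rw [← hb] at heq
      refine ⟨a * b⁻¹, i, hi, ?_⟩
      rw [← ha, map_mul, map_inv, ← mul_inv_eq_iff_eq_mul.2 heq]
      group

theorem card_M24_eq_G0 : Nat.card M24 = 2 ^ 10 * 239085 := by rw [card_M24]; norm_num

/-- A 2-element of `2^11:M24` lies over a representative, up to conjugacy. -/
theorem exists_rep_pair (y : Msub) {k : ℕ} (hy : y ^ 2 ^ k = 1) :
    ∃ i < 7, ∃ m < 2048, GConj (y : Equiv.Perm Vec) (pp (m, repW i)) := by
  obtain ⟨a, m₀, e⟩ := exists_proj_pts y
  have hka : kPts a ^ 2 ^ k = 1 := by rw [← psi_eq e, ← map_pow, hy, map_one]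
  have hmem : kPts a ∈ M24 := kPts_range ▸ ⟨a, rfl⟩
  obtain ⟨g, hg⟩ := exists_conj_mem_odd (MathieuSylow.G0.subgroupOf M24) (x := ⟨kPts a, hmem⟩) (k := k) (by
    intro h2
    have h := Subgroup.card_mul_index (MathieuSylow.G0.subgroupOf M24)
    rw [Nat.card_congr (Subgroup.subgroupOfEquivOfLe MathieuSylow.G0_le).toEquiv, MathieuSylow.card_G0,
      card_M24_eq_G0] at h
    have := Nat.eq_of_mul_eq_mul_left (by norm_num) h
    rw [this] at h2
    norm_num at h2) (Subtype.ext hka)
  rw [Subgroup.mem_subgroupOf] at hg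
  simp only [Subgroup.coe_mul, Subgroup.coe_inv] at hg
  obtain ⟨b, hb⟩ : (g : Equiv.Perm GolayPt) ∈ kPts.range := by rw [kPts_range]; exact g.2
  rw [← hb, ← map_inv, ← map_mul, ← map_mul] at hg
  let k0 : MathieuSylow.G0 := ⟨_, hg⟩
  have hkk := MathieuSylow.key_mem_keys k0
  rw [keys_eq] at hkk
  obtain ⟨n, hn, hnk⟩ := List.mem_map.1 hkk
  obtain ⟨c, i, hi, hc⟩ := syl_tree _ n (List.mem_range.1 hn) (Nat.lt_succ_self _)
  rw [hnk, toPerm_eq (MathieuSylow.key_rep k0)] at hc
  change kPts c * kPts (b * a * b⁻¹) * (kPts c)⁻¹ = _ at hc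
  rw [← map_mul, ← map_inv, ← map_mul] at hc
  have ea : c * b * a * (c * b)⁻¹ = kel (repW i) := by
    rw [← kPts_spec.1 hc]; group
  obtain ⟨m₁, hm₁, hE⟩ := mem_Esub (conj_mem_E (kEmb_mem (c * b)) (eW_mem m₀))
  refine ⟨i, hi, m₁, hm₁, ⟨kEmb (c * b), M_le_G (K_le_M (kEmb_mem _)), ?_⟩⟩
  show kEmb (c * b) * (y : Equiv.Perm Vec) * (kEmb (c * b))⁻¹ = eW m₁ * wp (repW i)
  rw [hE, wp_eq_kEmb (repW_spec hi).1, ← ea, e]
  simp only [map_mul, map_inv]
  group

theorem index_Msub : (Msub.subgroupOf Gsub).index = 173067389 := by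
  have h := Subgroup.card_mul_index (Msub.subgroupOf Gsub)
  rw [Nat.card_congr (Subgroup.subgroupOfEquivOfLe M_le_G).toEquiv, card_Msub, card_Gsub] at h
  exact Nat.eq_of_mul_eq_mul_left (by norm_num : 0 < 501397585920) (h.trans (by norm_num))

theorem final_root {f : ℕ} (hf : f < 10) : twoFinal.getD f 0 < 27 :=
  Nat.blt_eq.mp (List.all_eq_true.1 finals_ok f (List.mem_range.2 hf))

theorem root_bw {r : ℕ} (hr : r < 27) : bw (rootPair r).2 = true := by
  unfold rootPair
  exact (repW_spec (Nat.blt_eq.mp (List.all_eq_true.1 roots_bw r (List.mem_range.2 hr)))).1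

theorem pow_val {w X : List ℕ} (hm : matCheck w X = true) : ∀ (n : ℕ) (v : Vec),
    ((wp w ^ n) v).1 = (applyRows X)^[n] v.1
  | 0, _ => rfl
  | n + 1, v => by
    rw [pow_succ' _ n, Equiv.Perm.mul_apply, mat_apply hm, pow_val hm n v, Function.iterate_succ_apply']

theorem applyWord_replicate (X : List ℕ) (v : ℕ) : ∀ n : ℕ,
    applyWord [X] (List.replicate n 0) v = (applyRows X)^[n] v
  | 0 => rfl
  | n + 1 => by
    rw [List.replicate_succ, applyWord_cons, applyWord_replicate X v n, Function.iterate_succ_apply']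
    rfl

theorem fin_pow {f : ℕ} (hf : f < 10) : pp (rootPair (twoFinal.getD f 0)) ^ 16 = 1 := by
  have h := List.all_eq_true.1 fins_ok f (List.mem_range.2 hf)
  simp only [finCheck, powSixteen, Bool.and_eq_true, List.all_eq_true, Nat.beq_eq, List.mem_range,
    applyWord_replicate] at h
  obtain ⟨⟨hm, hp⟩, -⟩ := h
  refine Equiv.ext fun v => Subtype.ext ?_
  rw [pp_eq_word]
  unfold finW at hm
  rw [pow_val hm]
  have hx : ∀ n a b, (applyRows (twoMats.getD f []))^[n] (a ^^^ b) =
      (applyRows (twoMats.getD f []))^[n] a ^^^ (applyRows (twoMats.getD f []))^[n] b := by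
    intro n a b
    induction n with
    | zero => rfl
    | succ n ih => simp only [Function.iterate_succ_apply', ih, applyRows_xor]
  exact units_ext (g := id) (hx 16) (fun _ _ => rfl) hp v.1 v.2

/-- The representatives. -/
noncomputable def twoRep (f : Fin 10) : ↥Gsub :=
  ⟨pp (rootPair (twoFinal.getD f 0)), pp_mem_G (root_bw (final_root f.2))⟩

/-- The ten classes of 2-elements. -/
theorem numCls_two : NumCls (OnlyP (Γ := ↥Gsub) [2]) 10 := by
  refine ⟨twoRep, fun f q hq hd => ?_, fun f g h => ?_, fun x hx => ?_⟩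
  · have h16 : twoRep f ^ 16 = 1 := Subtype.ext (fin_pow f.2)
    rw [List.mem_singleton]
    exact (Nat.prime_dvd_prime_iff_eq hq Nat.prime_two).1
      (hq.dvd_of_dvd_pow (n := 4) (hd.trans (orderOf_dvd_iff_pow_eq_one.2 h16)))
  · by_contra hne
    have hv := List.all_eq_true.1 (List.all_eq_true.1 finVals_sep f (List.mem_range.2 f.2)) g (List.mem_range.2 g.2)
    simp only [Bool.or_eq_true, List.any_eq_true, Bool.and_eq_true, Nat.beq_eq, Bool.not_eq_true', Nat.blt_eq] at hv
    rcases hv with hv | ⟨j, -, ⟨⟨hk, hr⟩, hjf⟩, hjg⟩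
    · exact hne (Fin.ext hv)
    have key : ∀ f : Fin 10, ∀ j < (finVals f).length,
        (imgN (pp (rootPair (twoFinal.getD f 0))) ((finVals f).getD j (0, 0)).1).ncard =
          2 ^ ((finVals f).getD j (0, 0)).2 := by
      intro f j hj
      have h := List.all_eq_true.1 fins_ok f (List.mem_range.2 f.2)
      simp only [finCheck, Bool.and_eq_true, List.all_eq_true] at h
      obtain ⟨⟨hm, -⟩, hc⟩ := h
      rw [List.getD_eq_getElem _ _ hj]
      simp only [finVals, List.getElem_map]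
      rw [pp_eq_word]
      exact rankCheck_spec (by simpa only [finW] using hm) (hc _ (List.getElem_mem _))
    have := imgN_gConj (gConj_iff.2 h) ((finVals f).getD j (0, 0)).1
    change (imgN (pp (rootPair (twoFinal.getD f 0))) _).ncard = (imgN (pp (rootPair (twoFinal.getD g 0))) _).ncard at this
    rw [key f j hjf, hk, key g j hjg] at this
    rw [Nat.pow_right_injective (le_refl 2) this, Nat.beq_refl] at hr
    exact Bool.noConfusion hr
  · have hpow : x ^ 2 ^ (orderOf x).factorization 2 = 1 := by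
      have ho := Nat.eq_prime_pow_of_unique_prime_dvd (orderOf_pos x).ne' (p := 2)
        fun {d} hd hdd => List.mem_singleton.1 (hx d hd hdd)
      rw [show (orderOf x).factorization 2 = (orderOf x).primeFactorsList.length by
        conv_lhs => rw [ho]
        rw [Nat.Prime.factorization_pow Nat.prime_two, Finsupp.single_eq_same], ← ho, pow_orderOf_eq_one]
    obtain ⟨g, hg⟩ := exists_conj_mem_odd (Msub.subgroupOf Gsub) (x := x)
      (by rw [index_Msub]; norm_num) hpow
    rw [Subgroup.mem_subgroupOf] at hg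
    have hyp : (⟨_, hg⟩ : Msub) ^ 2 ^ (orderOf x).factorization 2 = 1 := by
      refine Subtype.ext ?_
      show ((g * x * g⁻¹ : ↥Gsub) : Equiv.Perm Vec) ^ _ = 1
      rw [← Subgroup.coe_pow, conj_pow, hpow, mul_one, mul_inv_cancel, Subgroup.coe_one]
    obtain ⟨i, hi, m, hm, h1⟩ := exists_rep_pair ⟨_, hg⟩ hyp
    obtain ⟨r, hr, h2⟩ := exists_root hi hm
    obtain ⟨f, hf, h3⟩ := exists_final hr
    exact ⟨⟨f, hf⟩, gConj_iff.1 ((GConj.trans ⟨g, g.2, by simp⟩ h1).trans (h2.trans h3))⟩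

end Cfsg.Lib.J4Classes
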