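import Cfsg.Agent.Lib.J4Classes.Rank
import Cfsg.Agent.Lib.J4Classes.TwoData
import Cfsg.Agent.Lib.MathieuSylow.Model

/-!
# The checks for the classes of 2-elements
-/

set_option autoImplicit false
set_option maxRecDepth 100000
set_option maxHeartbeats 0

namespace Cfsg.Lib.J4Classes

open Cfsg.Lib.J4Real Cfsg.Lib.CosetEnum Cfsg.Lib.J4Pres Cfsg.Lib.Concrete Cfsg.Lib.FusionSys.MathieuCert

/-- A representative word. -/
def repW (i : ℕ) : List ℕ := twoReps.getD i []

/-- A centralizing word. -/
def genW (i k : ℕ) : List ℕ := (twoGens.getD i []).getD k []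

/-- A root as a pair. -/
def rootPair (r : ℕ) : ℕ × List ℕ := ((twoRoots.getD r (0, 0)).2, repW (twoRoots.getD r (0, 0)).1)

/-- An entry of a tree on the masks. -/
def tabE (i m : ℕ) : ℕ := ((maskTab.getD i 0) >>> (32 * m)) % 4294967296

/-- The root of an entry. -/
def tRid (e : ℕ) : ℕ := e % 32

/-- The depth of an entry. -/
def tRank (e : ℕ) : ℕ := (e >>> 5) % 64

/-- The step of an entry. -/
def maskStep (i m : ℕ) : Bool :=
  let e := tabE i m
  let r := tRid e
  let tag := (e >>> 11) % 4
  let k := (e >>> 13) % 32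
  let q := e >>> 18
  let f := tabE i q
  Nat.blt r 27 &&
  cond (Nat.beq tag 0) (Nat.beq (twoRoots.getD r (0, 0)).1 i && Nat.beq (twoRoots.getD r (0, 0)).2 m)
    (Nat.blt q 2048 && Nat.blt (tRank f) (tRank e) && Nat.beq (tRid f) r &&
      cond (Nat.beq tag 1) (Nat.blt k 11 && Nat.beq (2 ^ k ^^^ q) (m ^^^ wMask (repW i) (2 ^ k)))
        (Nat.blt k (twoGens.getD i []).length && Nat.beq (wMask (genW i k) q) (m ^^^ wMask (repW i) 0)))

/-- Evaluate a list before it is used. -/
noncomputable def forceList {β : Sort _} : List ℕ → (List ℕ → β) → β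
  | [], k => k []
  | a :: l, k => force a fun a => forceList l fun l => k (a :: l)

/-- Evaluate lists before they are used. -/
noncomputable def forceLists {β : Sort _} : List (List ℕ) → (List (List ℕ) → β) → β
  | [], k => k []
  | r :: l, k => forceList r fun r => forceLists l fun l => k (r :: l)

theorem forceList_eq {β : Sort _} : ∀ (l : List ℕ) (k : List ℕ → β), forceList l k = k l
  | [], _ => rfl
  | a :: l, k => by rw [forceList, force_eq, forceList_eq l]

theorem forceLists_eq {β : Sort _} : ∀ (l : List (List ℕ)) (k : List (List ℕ) → β), forceLists l k = k l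
  | [], _ => rfl
  | r :: l, k => by rw [forceLists, forceList_eq, forceLists_eq l]

/-- The images of the unit masks under a word. -/
def maskImgs (w : List ℕ) : List ℕ := (List.range 11).map fun j => wMask w (2 ^ j)

/-- The step of an entry, from the images of the unit masks. -/
def stepWith (gs : List (List ℕ)) (rep : List ℕ) (i m : ℕ) : Bool :=
  let e := tabE i m
  let r := tRid e
  let tag := (e >>> 11) % 4
  let k := (e >>> 13) % 32
  let q := e >>> 18
  let f := tabE i q
  Nat.blt r 27 &&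
  cond (Nat.beq tag 0) (Nat.beq (twoRoots.getD r (0, 0)).1 i && Nat.beq (twoRoots.getD r (0, 0)).2 m)
    (Nat.blt q 2048 && Nat.blt (tRank f) (tRank e) && Nat.beq (tRid f) r &&
      cond (Nat.beq tag 1) (Nat.blt k 11 && Nat.beq (2 ^ k ^^^ q) (m ^^^ linMask rep 11 (2 ^ k)))
        (Nat.blt k gs.length && Nat.beq (linMask (gs.getD k []) 11 q) m))

/-- All entries of one representative. -/
noncomputable def maskFast (i : ℕ) : Bool :=
  forceLists ((twoGens.getD i []).map maskImgs) fun gs => forceList (maskImgs (repW i)) fun rep =>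
    (List.range 2048).all (stepWith gs rep i)

theorem linMask_xor (C : List ℕ) : ∀ n a b : ℕ, linMask C n (a ^^^ b) = linMask C n a ^^^ linMask C n b
  | 0, _, _ => by simp [linMask]
  | n + 1, a, b => by
    simp only [linMask, linMask_xor C n, Nat.testBit_xor]
    cases a.testBit n <;> cases b.testBit n <;> simp [Nat.xor_comm, Nat.xor_left_comm, Nat.xor_assoc]

theorem wMask_xor : ∀ (w : List ℕ) (a b : ℕ), wMask w (a ^^^ b) = wMask w a ^^^ wMask w b
  | [], _, _ => rfl
  | g :: w, a, b => by
    show cMask g (wMask w (a ^^^ b)) = cMask g (wMask w a) ^^^ cMask g (wMask w b)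
    rw [wMask_xor w]
    exact linMask_xor _ _ _ _

theorem wMask_null : ∀ w : List ℕ, wMask w 0 = 0 := fun w => by
  have h := wMask_xor w 0 0
  rwa [Nat.xor_self, Nat.xor_self] at h

theorem linMask_imgs (w : List ℕ) : ∀ q < 2 ^ 11, linMask (maskImgs w) 11 q = wMask w q := by
  refine units_ext (linMask_xor _ 11) (wMask_xor w) fun j hj => ?_
  interval_cases j <;> norm_num [linMask, maskImgs, Nat.testBit_eq_decide_div_mod_eq, List.range_succ]

theorem maskFast_spec {i : ℕ} (h : maskFast i = true) : (List.range 2048).all (maskStep i) = true := by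
  simp only [maskFast, forceLists_eq, forceList_eq, List.all_eq_true] at h
  rw [List.all_eq_true]
  intro m hm
  have h1 := h m hm
  simp only [stepWith, maskStep, Bool.and_eq_true] at h1 ⊢
  refine ⟨h1.1, ?_⟩
  have h2 := h1.2
  cases h0 : Nat.beq ((tabE i m >>> 11) % 4) 0
  · simp only [h0, cond_false, Bool.and_eq_true] at h2 ⊢
    obtain ⟨⟨⟨hq, hr⟩, he⟩, hs⟩ := h2
    refine ⟨⟨⟨hq, hr⟩, he⟩, ?_⟩
    cases h3 : Nat.beq ((tabE i m >>> 11) % 4) 1
    · simp only [h3, cond_false, Bool.and_eq_true, Nat.blt_eq, Nat.beq_eq, List.length_map] at hs ⊢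
      obtain ⟨hk, hi⟩ := hs
      refine ⟨hk, ?_⟩
      rw [List.getD_eq_getElem _ _ (by rwa [List.length_map]), List.getElem_map, linMask_imgs _ _
        (by simpa using Nat.blt_eq.mp hq), ← List.getD_eq_getElem _ [] hk] at hi
      rw [wMask_null, Nat.xor_zero]
      exact hi
    · simp only [h3, cond_true, Bool.and_eq_true, Nat.blt_eq, Nat.beq_eq] at hs ⊢
      refine ⟨hs.1, ?_⟩
      rw [linMask_imgs _ _ (Nat.pow_lt_pow_right (by norm_num) hs.1)] at hs
      exact hs.2
  · simpa only [h0, cond_true] using h2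

/-- The centralizing words centralize. -/
def gensCheck (i : ℕ) : Bool :=
  bw (repW i) && (twoGens.getD i []).all fun c => bw c && walkEq (c ++ repW i) (repW i ++ c)

/-- One side of a fusion: the element and its conjugation onto a representative. -/
def sideCheck (s : (ℕ × List ℕ) × (ℕ × List ℕ)) : Bool :=
  bw s.1.2 && Nat.blt s.2.1 7 && bw s.2.2 && walkEq (s.2.2 ++ s.1.2) (repW s.2.1 ++ s.2.2) &&
    Nat.blt (wMask s.2.2 s.1.1) 2048

/-- The root of one side. -/
def sideRoot (s : (ℕ × List ℕ) × (ℕ × List ℕ)) : ℕ := tRid (tabE s.2.1 (wMask s.2.2 s.1.1))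

/-- One fusion. -/
noncomputable def edgeCheck (e : ((ℕ × List ℕ) × (ℕ × List ℕ)) × ((ℕ × List ℕ) × (ℕ × List ℕ))) : Bool :=
  sideCheck e.1 && sideCheck e.2 &&
    sameW (eL e.1.1.1 ++ e.1.1.2 ++ [2]) ([2] ++ eL e.2.1.1 ++ e.2.1.2)

/-- A root reaches a final one. -/
def linkCheck (r : ℕ) : Bool :=
  let l := twoLinks.getD r (0, 0, 0, 0, 0)
  let e := fuseEdges.getD l.2.2.1 (((0, []), (0, [])), ((0, []), (0, [])))
  let q := l.2.2.2.2
  Nat.blt l.1 10 &&
  cond (Nat.beq l.2.1 0) (Nat.beq (twoFinal.getD l.1 0) r)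
    (Nat.blt l.2.2.1 fuseEdges.length && Nat.blt q 27 &&
      Nat.blt (twoLinks.getD q (0, 0, 0, 0, 0)).2.1 l.2.1 &&
      Nat.beq (twoLinks.getD q (0, 0, 0, 0, 0)).1 l.1 &&
      ((Nat.beq (sideRoot e.1) r && Nat.beq (sideRoot e.2) q) || (Nat.beq (sideRoot e.2) r && Nat.beq (sideRoot e.1) q)))

/-- An element of the Sylow subgroup of `M24`. -/
def sylKey (n : ℕ) : ℕ := (sylKeys.getD (n / 32) []).getD (n % 32) 0

/-- Its step. -/
def sylEnt (n : ℕ) : ℕ × ℕ × ℕ × ℕ × ℕ := (sylTree.getD (n / 32) []).getD (n % 32) (0, 0, 0, 0, 0)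

/-- An element of the Sylow subgroup of `M24` reaches a representative. -/
def sylStep (n : ℕ) : Bool :=
  let e := sylEnt n
  let p := sylKey n
  let q := sylKey e.2.2.2.2
  let g := certM24.gp.getD e.2.2.1 0
  cond (Nat.beq e.2.1 0)
    (Nat.blt e.2.2.1 7 && bw (sylWords.getD e.2.2.2.1 []) && bits24.all fun x =>
      Nat.beq (walkW (sylWords.getD e.2.2.2.1 []) (pget p x))
        (walkW (repW e.2.2.1) (walkW (sylWords.getD e.2.2.2.1 []) x)))
    (Nat.blt e.2.2.1 certM24.gp.length && Nat.blt e.2.2.2.2 1024 &&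
      Nat.blt (sylEnt e.2.2.2.2).1 e.1 &&
      bits24.all fun x => Nat.blt (pget q x) 24 && Nat.beq (pget g (pget q x)) (pget p (pget g x)))

/-- The word of a final representative. -/
def finW (f : ℕ) : List ℕ := eL (rootPair (twoFinal.getD f 0)).1 ++ (rootPair (twoFinal.getD f 0)).2

/-- The sixteenth power is the identity. -/
noncomputable def powSixteen (X : List ℕ) : Bool :=
  (List.range 112).all fun i => Nat.beq (applyWord [X] (List.replicate 16 0) (2 ^ i)) (2 ^ i)

/-- The certificates of a final representative. -/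
noncomputable def finCheck (f : ℕ) : Bool :=
  matCheck (finW f) (twoMats.getD f []) && powSixteen (twoMats.getD f []) && (twoCerts.getD f []).all fun c =>
    rankCheck (twoMats.getD f []) c.1 c.2.1 c.2.2.1 c.2.2.2.1 c.2.2.2.2

/-- The exponents and sizes of a final representative. -/
def finVals (f : ℕ) : List (ℕ × ℕ) := (twoCerts.getD f []).map fun c => (c.1, c.2.1)

end Cfsg.Lib.J4Classes
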